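import Cfsg.Agent.H54.JFour.Pre

/-!
The centraliser of an element of order five inside the centraliser of the central involution, in a
context of Janko-four type: it has order 960 and contains exactly six conjugates of the involution in
the extraspecial group besides the involution itself.
-/

set_option autoImplicit false

namespace Cfsg.Agent.H54.JFour

open Subgroup Cfsg.Agent.H43.JFour Cfsg.Agent.H43.JFour.Ctx

universe u v

variable {G : Type u} [Group G] {A : Type v} [Group A]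

/-- The facts about elements of order five of `Aut M22`. -/
structure FiveFacts (A : Type v) [Group A] (M : Subgroup A) : Prop where
  cent : ∀ q : A, orderOf q = 5 → Nat.card (centralizer ({q} : Set A)) = 10
  outer : ∀ q : A, orderOf q = 5 → ∃ u, u ∉ M ∧ u * q = q * u
  flip : ∀ q : A, orderOf q = 5 → ∃ y ∈ M, y ^ 4 = 1 ∧ y * q * y⁻¹ = q ^ 2

/-- The hypotheses for the local analysis at a subgroup `Q` of order five. -/
structure Base (c : Ctx G A) (M : Subgroup A) (Q : Subgroup G) : Prop where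
  ok : c.Ok
  data : AutData A M
  facts : FiveFacts A M
  count : Nat.card (zType c) % 5 = 1
  card : Nat.card Q = 5

/-- The hypotheses with `Q` in the centraliser of `P`. -/
structure Loc (c : Ctx G A) (M : Subgroup A) (Q : Subgroup G) : Prop extends Base c M Q where
  le : Q ≤ c.C

/-- The conjugates of the involution, other than itself, in its extraspecial group and centralising
`Q`. -/
def six (c : Ctx G A) (Q : Subgroup G) : Set G := {a | a ∈ zType c ∧ a ∈ centralizer (Q : Set G)}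

variable [Finite G] {M : Subgroup A} {c : Ctx G A} {Q : Subgroup G}

theorem FiveFacts.mem_zpowers (hf : FiveFacts A M) [Finite A] {q : A} (hq : orderOf q = 5)
    (hqM : q ∈ M) {a : A} (ha : a * q = q * a) (haM : a ∈ M) : a ∈ zpowers q := by
  set Cq := M ⊓ centralizer ({q} : Set A) with hCq
  have h1 : zpowers q ≤ Cq := zpowers_le.2 ⟨hqM, mem_cent_one.2 rfl⟩
  have h5 : 5 ∣ Nat.card Cq := hq ▸ Nat.card_zpowers q ▸ card_dvd_of_le h1
  have h10 : Nat.card Cq ∣ 10 := hf.cent q hq ▸ card_dvd_of_le inf_le_right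
  have hne : Nat.card Cq ≠ 10 := fun h => by
    have he := Subgroup.eq_of_le_of_card_ge (inf_le_right : Cq ≤ _) (by rw [h, hf.cent q hq])
    obtain ⟨u, hu, huq⟩ := hf.outer q hq
    have : u ∈ M ⊓ centralizer ({q} : Set A) := by rw [he]; exact mem_cent_one.2 huq
    exact hu this.1
  have hcard : Nat.card Cq = 5 := by
    obtain ⟨m, hm⟩ := h5
    have h3 := Nat.le_of_dvd (by norm_num) h10
    have h0 : 0 < Nat.card Cq := Nat.card_pos
    omega
  rw [Subgroup.eq_of_le_of_card_ge h1 (by rw [hcard, Nat.card_zpowers, hq])]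
  exact ⟨haM, mem_cent_one.2 ha⟩

omit [Finite G] in
theorem conj_E_eq (hc : c.Ok) {h : G} (hh : h ∈ c.H) : (c.conj h).E = c.E := by
  ext x
  show x ∈ c.E.map _ ↔ x ∈ c.E
  rw [mem_conj_map]
  have := mem_normalizer_iff.1 (hc.norm hh) (h⁻¹ * x * h)
  rwa [show h * (h⁻¹ * x * h) * h⁻¹ = x by group] at this

omit [Finite G] in
theorem conj_z_eq {h : G} (hh : h ∈ c.H) : (c.conj h).z = c.z := by
  show h * c.z * h⁻¹ = c.z
  rw [← c.mem_H.1 hh, mul_inv_cancel_right]

namespace Base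

omit [Finite G] in
theorem conj (hb : Base c M Q) (g : G) : Base (c.conj g) M Q where
  ok := hb.ok.conj g
  data := hb.data
  facts := hb.facts
  card := hb.card
  count := by
    have e : ∀ a : G, a ∈ zType c ↔ g * a * g⁻¹ ∈ zType (c.conj g) := fun a => by
      have h1 : ∀ x y : G, IsConj x y → IsConj (g * x * g⁻¹) (g * y * g⁻¹) := fun x y h =>
        (isConj_iff.2 ⟨g⁻¹, by group⟩ : IsConj (g * x * g⁻¹) x).trans (h.trans (isConj_iff.2 ⟨g, rfl⟩))
      constructor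
      · rintro ⟨h2, h3, h4⟩
        refine ⟨mem_map_of_mem _ h2, fun e => h3 ?_, h1 _ _ h4⟩
        exact mul_left_cancel (mul_right_cancel (e : g * a * g⁻¹ = g * c.z * g⁻¹))
      · rintro ⟨h2, h3, h4⟩
        refine ⟨?_, fun e => h3 (by rw [e]; rfl), ?_⟩
        · have h5 : g⁻¹ * (g * a * g⁻¹) * g ∈ c.E := (mem_conj_map _ _ _).1 h2
          rwa [show g⁻¹ * (g * a * g⁻¹) * g = a by group] at h5
        · exact ((isConj_iff.2 ⟨g, rfl⟩ : IsConj c.z (g * c.z * g⁻¹)).trans h4).trans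
            (isConj_iff.2 ⟨g⁻¹, by group⟩)
    rw [← Nat.card_congr (Equiv.subtypeEquiv (MulAut.conj g).toEquiv e)]
    exact hb.count

omit [Finite G] in
theorem finiteA (hb : Base c M Q) : Finite A := hb.data.finite

/-- A subgroup of order five of `H` lies in the centraliser of a conjugate of `P` under `H`. -/
theorem exists_loc (hb : Base c M Q) (hQH : Q ≤ c.H) : ∃ h ∈ c.H, Loc (c.conj h) M Q := by
  haveI : Fact (Nat.Prime 5) := ⟨by norm_num⟩
  have h5 : 5 ∣ Nat.card c.C := by rw [hb.ok.card_C hb.data]; norm_num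
  obtain ⟨x, hx⟩ := exists_prime_orderOf_dvd_card' 5 h5
  set Q0 : Subgroup G := zpowers (x : G) with hQ0
  have hQ0card : Nat.card Q0 = 5 := by rw [Nat.card_zpowers, orderOf_coe, hx]
  have hQ0C : Q0 ≤ c.C := zpowers_le.2 x.2
  have hQ0H : Q0 ≤ c.H := hQ0C.trans inf_le_left
  have hf : (Nat.card c.H).factorization 5 = 1 := by
    rw [hb.ok.card_H, hb.data.card,
      show 3 * 2 ^ 13 * 887040 = 5 ^ 1 * (3 * 2 ^ 13 * 177408) by norm_num,
      Nat.factorization_mul (by norm_num) (by norm_num), Nat.factorization_pow]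
    simp [(show Nat.Prime 5 by norm_num).factorization, Nat.factorization_eq_zero_of_not_dvd]
  let S₀ : Sylow 5 c.H := Sylow.ofCard (Q0.subgroupOf c.H) (by
    rw [Nat.card_congr (subgroupOfEquivOfLe hQ0H).toEquiv, hQ0card, hf, pow_one])
  let S₁ : Sylow 5 c.H := Sylow.ofCard (Q.subgroupOf c.H) (by
    rw [Nat.card_congr (subgroupOfEquivOfLe hQH).toEquiv, hb.card, hf, pow_one])
  obtain ⟨h, hh⟩ := MulAction.exists_smul_eq c.H S₀ S₁
  refine ⟨h, h.2, hb.conj h, fun a ha => ?_⟩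
  rw [conj_C]
  have h1 : (⟨a, hQH ha⟩ : c.H) ∈ (S₁ : Subgroup c.H) := ha
  rw [← hh, Sylow.coe_subgroup_smul] at h1
  obtain ⟨b, hb', e⟩ := h1
  exact ⟨b, hQ0C hb', congrArg Subtype.val e⟩

/-- At any conjugate of `z` centralised by `Q` there is a context with `Q` centralising its `P`. -/
theorem exists_loc_at (hb : Base c M Q) {e : G} (he : IsConj c.z e)
    (heQ : e ∈ centralizer (Q : Set G)) : ∃ g : G, (c.conj g).z = e ∧ Loc (c.conj g) M Q := by
  obtain ⟨g, hg⟩ := isConj_iff.1 he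
  have hQ : Q ≤ (c.conj g).H := fun a ha => by
    rw [Ctx.mem_H, show (c.conj g).z = e from hg]
    exact (mem_centralizer_iff.1 heQ a ha).symm
  obtain ⟨h, hh, hl⟩ := (hb.conj g).exists_loc hQ
  have e1 : (c.conj g).conj h = c.conj (h * g) := by
    simp only [Ctx.conj, Subgroup.map_map]
    refine Ctx.mk.injEq .. |>.mpr ⟨by group, ?_, ?_, ?_⟩
    · congr 1; ext x; simp [mul_assoc]
    · congr 1; ext x; simp [mul_assoc]
    · funext x; congr 1; group
  rw [e1] at hl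
  refine ⟨h * g, ?_, hl⟩
  rw [← e1, conj_z_eq hh]
  exact hg

end Base

namespace Loc

variable (hl : Loc c M Q)
include hl

theorem exists_gen : ∃ q ∈ Q, orderOf q = 5 ∧ zpowers q = Q ∧
    centralizer ({q} : Set G) = centralizer (Q : Set G) := by
  haveI : Fact (Nat.Prime 5) := ⟨by norm_num⟩
  obtain ⟨x, hx⟩ := exists_prime_orderOf_dvd_card' (G := Q) 5 (by rw [hl.card])
  have hx1 : (x : G) ≠ 1 := fun e => by
    rw [OneMemClass.coe_eq_one] at e; rw [e, orderOf_one] at hx; omega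
  have hz := PGroups.zpowers_eq_of_card_eq hl.card x.2 hx1
  refine ⟨x, x.2, by rw [orderOf_coe, hx], hz, ?_⟩
  conv_rhs => rw [← hz, Subgroup.zpowers_eq_closure, Subgroup.centralizer_closure]

/-- A chosen generator of `Q`. -/
noncomputable def gen : G := hl.exists_gen.choose

theorem gen_mem : hl.gen ∈ Q := hl.exists_gen.choose_spec.1

theorem gen_ord : orderOf hl.gen = 5 := hl.exists_gen.choose_spec.2.1

theorem gen_pow : hl.gen ^ 5 = 1 := by rw [← hl.gen_ord, pow_orderOf_eq_one]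

theorem gen_ne : hl.gen ≠ 1 := fun e => by have := hl.gen_ord; rw [e, orderOf_one] at this; omega

theorem zpowers_gen : zpowers hl.gen = Q := hl.exists_gen.choose_spec.2.2.1

theorem cent_gen : centralizer ({hl.gen} : Set G) = centralizer (Q : Set G) :=
  hl.exists_gen.choose_spec.2.2.2

theorem gen_C : hl.gen ∈ c.C := hl.le hl.gen_mem

theorem gen_H : hl.gen ∈ c.H := (Subgroup.mem_inf.1 hl.gen_C).1

theorem z_cent : c.z ∈ centralizer (Q : Set G) := by
  rw [← hl.cent_gen]; exact mem_cent_one.2 (c.mem_H.1 hl.gen_H)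

theorem P_cent : c.P ≤ centralizer (Q : Set G) := fun p hp => by
  rw [← hl.cent_gen]
  exact mem_cent_one.2 (hl.ok.P_central hp hl.gen_C)

theorem pr_ord : orderOf (c.pr hl.gen) = 5 := by
  haveI : Fact (Nat.Prime 5) := ⟨by norm_num⟩
  have h5 : c.pr hl.gen ^ 5 = 1 := by
    have := map_pow hl.ok.prHom ⟨_, hl.gen_H⟩ 5
    rw [show (⟨hl.gen, hl.gen_H⟩ : c.H) ^ 5 = 1 from Subtype.ext hl.gen_pow, map_one] at this
    exact this.symm
  refine orderOf_eq_prime h5 fun h1 => ?_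
  obtain ⟨p, hp, e⟩ := hl.ok.Nh_ker (c.C_le_Nh hl.gen_C) h1
  have h3 : p ^ 3 = 1 :=
    orderOf_dvd_iff_pow_eq_one.1 (hl.ok.cardP ▸ Subgroup.orderOf_dvd_natCard c.P hp)
  have h6 : hl.gen ^ 6 = 1 := by
    have hp6 : p ^ 6 = 1 := by rw [show 6 = 3 * 2 from rfl, pow_mul, h3, one_pow]
    rcases e with e | e <;> rw [e]
    · exact hp6
    · rw [(show Commute c.z p from c.mem_H.1 (hl.ok.P_le hp)).mul_pow, hp6,
        show 6 = 2 * 3 from rfl, pow_mul, pow_two, hl.ok.z_sq, one_pow, one_mul]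
  exact hl.gen_ne (by rw [pow_succ, hl.gen_pow, one_mul] at h6; exact h6)

theorem pr_M : c.pr hl.gen ∈ M :=
  hl.data.mem_of_odd (n := 5) (by decide) (by rw [← hl.pr_ord, pow_orderOf_eq_one])

/-- Elements of `N_H(P)` act on `Q` as their images do. -/
theorem lift {n : G} (hn : n ∈ c.Nh) (k : ℕ)
    (h : c.pr n * c.pr hl.gen * (c.pr n)⁻¹ = c.pr hl.gen ^ k) : n * hl.gen * n⁻¹ = hl.gen ^ k := by
  have hok := hl.ok
  set q := hl.gen
  have hqN : q ∈ c.Nh := c.C_le_Nh hl.gen_C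
  set m := n * q * n⁻¹ * (q ^ k)⁻¹ with hm
  have hmN : m ∈ c.Nh := mul_mem (mul_mem (mul_mem hn hqN) (inv_mem hn)) (inv_mem (pow_mem hqN k))
  have hk : c.pr (q ^ k) = c.pr q ^ k := map_pow hok.prHom ⟨q, hl.gen_H⟩ k
  have hm1 : c.pr m = 1 := by
    rw [hm, hok.pr_mul _ (mul_mem (mul_mem hn hqN) (inv_mem hn)).1 _ (inv_mem (pow_mem hqN k)).1,
      hok.pr_conj hn.1 hl.gen_H, hok.pr_inv (pow_mem hl.gen_H k), hk, h, mul_inv_cancel]
  obtain ⟨p, hp, hmp⟩ := hok.Nh_ker hmN hm1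
  have hp3 : p ^ 3 = 1 :=
    orderOf_dvd_iff_pow_eq_one.1 (hok.cardP ▸ Subgroup.orderOf_dvd_natCard c.P hp)
  have hpc : Commute p (q ^ k) := hok.P_central hp (pow_mem hl.gen_C k)
  have hzc : Commute c.z (q ^ k) := c.mem_H.1 (pow_mem hl.gen_H k)
  have hcomm : Commute m (q ^ k) := by
    rcases hmp with e | e <;> rw [e]
    exacts [hpc, hzc.mul_left hpc]
  have hm6 : m ^ 6 = 1 := by
    have hp6 : p ^ 6 = 1 := by rw [show 6 = 3 * 2 from rfl, pow_mul, hp3, one_pow]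
    rcases hmp with e | e <;> rw [e]
    · exact hp6
    · rw [(show Commute c.z p from c.mem_H.1 (hok.P_le hp)).mul_pow, hp6,
        show 6 = 2 * 3 from rfl, pow_mul, pow_two, hok.z_sq, one_pow, one_mul]
  have hm5 : m ^ 5 = 1 := by
    have e : (m * q ^ k) ^ 5 = 1 := by
      rw [hm, inv_mul_cancel_right, conj_pow, hl.gen_pow, mul_one, mul_inv_cancel]
    rwa [hcomm.mul_pow, ← pow_mul, mul_comm, pow_mul, hl.gen_pow, one_pow, mul_one] at e
  have hm0 : m = 1 := by rwa [pow_succ, hm5, one_mul] at hm6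
  rwa [hm, mul_inv_eq_one] at hm0

theorem exists_square : ∃ y ∈ c.C, y * hl.gen * y⁻¹ = hl.gen ^ 2 := by
  obtain ⟨b, hb, -, hbq⟩ := hl.facts.flip _ hl.pr_ord
  obtain ⟨y, hy, rfl⟩ := hl.ok.C_surj hl.data hb
  exact ⟨y, hy, hl.lift (c.C_le_Nh hy) 2 hbq⟩

theorem card_F : Nat.card ↥(c.E ⊓ centralizer (Q : Set G)) = 32 := by
  haveI := zE_normal hl.ok
  obtain ⟨y, hy, hyq⟩ := hl.exists_square
  rw [← hl.cent_gen]
  exact card_fix_five hl.ok hl.gen_C hl.gen_pow hl.gen_ne hy hyq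

theorem pr_comm {h : G} (hh : h ∈ c.H) (hq : h ∈ centralizer (Q : Set G)) :
    c.pr h * c.pr hl.gen = c.pr hl.gen * c.pr h := by
  rw [← hl.cent_gen] at hq
  rw [← hl.ok.pr_mul _ hh _ hl.gen_H, mem_cent_one.1 hq, hl.ok.pr_mul _ hl.gen_H _ hh]

theorem ker_split {h : G} (hh : h ∈ c.H) (hq : h ∈ centralizer (Q : Set G)) (h1 : c.pr h = 1) :
    ∃ f ∈ c.E ⊓ centralizer (Q : Set G), ∃ p ∈ c.P, h = f * p := by
  obtain ⟨f, hf, p, hp, rfl⟩ := exists_mul_of_mem_sup hl.ok.P_norm ((hl.ok.pr_ker h hh).1 h1)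
  refine ⟨f, ⟨hf, ?_⟩, p, hp, rfl⟩
  have := mul_mem hq (inv_mem (hl.P_cent hp))
  rwa [mul_inv_cancel_right] at this

theorem inner_split' {h : G} (hh : h ∈ c.H) (hq : h ∈ centralizer (Q : Set G)) (hM : c.pr h ∈ M) :
    ∃ f ∈ c.E ⊓ centralizer (Q : Set G), ∃ p ∈ c.P, ∃ r ∈ Q, h = f * p * r := by
  haveI := hl.data.finite
  obtain ⟨k, hk⟩ := mem_zpowers_iff.1
    (hl.facts.mem_zpowers hl.pr_ord hl.pr_M (hl.pr_comm hh hq) hM)
  set r := hl.gen ^ k with hr
  have hrQ : r ∈ Q := zpow_mem hl.gen_mem k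
  have hrC : r ∈ centralizer (Q : Set G) := by
    rw [← hl.cent_gen]; exact mem_cent_one.2 ((Commute.refl hl.gen).zpow_left k).eq
  have h1 : c.pr (h * r⁻¹) = 1 := by
    rw [hl.ok.pr_mul _ hh _ (inv_mem (zpow_mem hl.gen_H k)), hl.ok.pr_inv (zpow_mem hl.gen_H k),
      show c.pr r = c.pr hl.gen ^ k from map_zpow hl.ok.prHom ⟨_, hl.gen_H⟩ k, hk, mul_inv_cancel]
  obtain ⟨f, hf, p, hp, e⟩ :=
    hl.ker_split (mul_mem hh (inv_mem (zpow_mem hl.gen_H k))) (mul_mem hq (inv_mem hrC)) h1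
  exact ⟨f, hf, p, hp, r, hrQ, by rw [← e, inv_mul_cancel_right]⟩

/-- An element of two-power order of `C_H(Q)` with inner image lies in `E`. -/
theorem two_mem {h : G} (hh : h ∈ c.H) (hq : h ∈ centralizer (Q : Set G)) (hM : c.pr h ∈ M) {k : ℕ}
    (hk : h ^ (2 ^ k) = 1) : h ∈ c.E := by
  haveI := hl.data.finite
  refine hl.ok.mem_E_of_pow ((hl.ok.pr_ker h hh).1 ?_) hk
  have h2 : c.pr h ^ (2 ^ k) = 1 := by
    have := map_pow hl.ok.prHom ⟨h, hh⟩ (2 ^ k)
    rw [show (⟨h, hh⟩ : c.H) ^ 2 ^ k = 1 from Subtype.ext hk, map_one] at this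
    exact this.symm
  have h5 : orderOf (c.pr h) ∣ 5 := by
    rw [← hl.pr_ord, ← Nat.card_zpowers (c.pr hl.gen)]
    exact Subgroup.orderOf_dvd_natCard _
      (hl.facts.mem_zpowers hl.pr_ord hl.pr_M (hl.pr_comm hh hq) hM)
  exact orderOf_eq_one_iff.1 (Nat.eq_one_of_dvd_coprimes
    ((by norm_num : Nat.Coprime 5 2).pow_right k) h5 (orderOf_dvd_of_pow_eq_one h2))

theorem card_K : Nat.card ↥(c.H ⊓ centralizer (Q : Set G)) = 960 := by
  set K := c.H ⊓ centralizer (Q : Set G) with hK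
  let f : K →* A := hl.ok.prHom.comp (inclusion inf_le_left)
  have hr : f.range = centralizer ({c.pr hl.gen} : Set A) := by
    ext a
    constructor
    · rintro ⟨h, rfl⟩; exact mem_cent_one.2 (hl.pr_comm h.2.1 h.2.2)
    · intro ha
      obtain ⟨n, hn, rfl⟩ := hl.ok.Nh_surj a
      have h1 := hl.lift hn 1 (by rw [pow_one, mem_cent_one.1 ha, mul_inv_cancel_right])
      rw [pow_one] at h1
      refine ⟨⟨n, hn.1, ?_⟩, rfl⟩
      rw [← hl.cent_gen]; exact mem_cent_one.2 (mul_inv_eq_iff_eq_mul.1 h1)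
  set F := c.E ⊓ centralizer (Q : Set G) with hF
  have hmem : ∀ t : F × c.P, (t.1 : G) * t.2 ∈ K := fun t =>
    ⟨mul_mem (hl.ok.le_H t.1.2.1) (hl.ok.P_le t.2.2), mul_mem t.1.2.2 (hl.P_cent t.2.2)⟩
  let g : F × c.P → f.ker := fun t => ⟨⟨_, hmem t⟩, MonoidHom.mem_ker.2 (by
    show c.pr ((t.1 : G) * t.2) = 1
    rw [hl.ok.pr_mul _ (hl.ok.le_H t.1.2.1) _ (hl.ok.P_le t.2.2), hl.ok.pr_E t.1.2.1,
      hl.ok.pr_P t.2.2, one_mul])⟩
  have hg : Function.Bijective g := by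
    refine ⟨fun s t e => ?_, fun k => ?_⟩
    · have e' : (s.1 : G) * s.2 = t.1 * t.2 := congrArg (fun x : f.ker => ((x : K) : G)) e
      have h1 : (t.1 : G)⁻¹ * s.1 = t.2 * (s.2 : G)⁻¹ := by
        rw [eq_mul_inv_iff_mul_eq, mul_assoc, e', inv_mul_cancel_left]
      have h2 : (t.1 : G)⁻¹ * s.1 ∈ c.E ⊓ c.P :=
        ⟨c.E.mul_mem (c.E.inv_mem t.1.2.1) s.1.2.1, h1 ▸ c.P.mul_mem t.2.2 (c.P.inv_mem s.2.2)⟩
      rw [(disjoint_of_coprime_natCard (by rw [hl.ok.cardE, hl.ok.cardP]; decide)).eq_bot, mem_bot,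
        inv_mul_eq_one] at h2
      rw [← h2, mul_left_cancel_iff] at e'
      exact Prod.ext (Subtype.ext h2.symm) (Subtype.ext e')
    · obtain ⟨x, hx, p, hp, e⟩ := hl.ker_split (k : K).2.1 (k : K).2.2 (MonoidHom.mem_ker.1 k.2)
      exact ⟨(⟨x, hx⟩, ⟨p, hp⟩), Subtype.ext (Subtype.ext e.symm)⟩
  have h := f.ker.card_eq_card_quotient_mul_card_subgroup
  rw [Nat.card_congr (QuotientGroup.quotientKerEquivRange f).toEquiv, hr, hl.facts.cent _ hl.pr_ord,
    ← Nat.card_eq_of_bijective g hg, Nat.card_prod, hl.card_F, hl.ok.cardP] at h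
  omega

/-- `C_E(Q)` has centre `⟨z⟩`. -/
theorem nondeg {x : G} (hx : x ∈ c.E ⊓ centralizer (Q : Set G))
    (h : ∀ f ∈ c.E ⊓ centralizer (Q : Set G), f * x = x * f) : x = 1 ∨ x = c.z := by
  refine hl.ok.mem_of_center hx.1 fun v hv => ?_
  by_contra hne
  have hq := hl.gen_H
  set q := hl.gen with hqdef
  let w : ℕ → G := fun i => q ^ i * v * (q ^ i)⁻¹
  have hwE : ∀ i, w i ∈ c.E := fun i => hl.ok.conjE (pow_mem hq i) hv
  have hxq : Commute q x := by
    have := hx.2; rw [← hl.cent_gen] at this; exact (mem_cent_one.1 this).symm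
  have hwx : ∀ i, x * w i = c.z * (w i * x) := fun i => by
    refine (hl.ok.swap hx.1 (hwE i)).resolve_left fun e => hne ?_
    have hxi : Commute (q ^ i) x := hxq.pow_left i
    calc x * v = (q ^ i)⁻¹ * (q ^ i * x) * v := by group
      _ = (q ^ i)⁻¹ * (x * w i) * q ^ i := by rw [hxi.eq]; simp only [w]; group
      _ = (q ^ i)⁻¹ * (q ^ i * v * ((q ^ i)⁻¹ * x) * q ^ i) := by rw [e]; simp only [w]; group
      _ = v * x := by rw [hxi.inv_left.eq]; group
  set u := w 1 * w 2 * w 3 * w 4 with hu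
  have huE : u ∈ c.E := mul_mem (mul_mem (mul_mem (hwE 1) (hwE 2)) (hwE 3)) (hwE 4)
  have hfix : q * (w 0 * u) * q⁻¹ = u * w 0 := by
    have hstep : ∀ i, q * w i * q⁻¹ = w (i + 1) := fun i => by
      simp only [w, pow_succ']; group
    have h5 : w 5 = w 0 := by simp only [w, show q ^ 5 = 1 from hl.gen_pow, pow_zero]
    calc q * (w 0 * u) * q⁻¹ = (q * w 0 * q⁻¹) * (q * w 1 * q⁻¹) * (q * w 2 * q⁻¹) *
          (q * w 3 * q⁻¹) * (q * w 4 * q⁻¹) := by rw [hu]; group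
      _ = u * w 0 := by rw [hstep, hstep, hstep, hstep, hstep, h5, hu]
  have h1 : q * (w 0 * u) * q⁻¹ = w 0 * u := by
    refine fix_of_odd hl.ok (n := 5) (by decide) hl.gen_pow hq ?_
    rw [hfix]
    rcases hl.ok.swap huE (hwE 0) with e | e
    · exact Or.inl e
    · exact Or.inr (e.trans (hl.ok.z_comm (mul_mem (hwE 0) huE)))
  have hF : w 0 * u ∈ c.E ⊓ centralizer (Q : Set G) := ⟨mul_mem (hwE 0) huE, by
    rw [← hl.cent_gen]; exact mem_cent_one.2 (mul_inv_eq_iff_eq_mul.1 h1).symm⟩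
  have step : ∀ a ∈ c.E, ∀ i, ∀ b : G, x * a = b * (a * x) → b * c.z = c.z * b →
      a * c.z = c.z * a → x * (a * w i) = b * c.z * (a * w i * x) := fun a _ i b hab _ haz => by
    calc x * (a * w i) = b * (a * (x * w i)) := by rw [← mul_assoc, hab]; group
      _ = b * ((a * c.z) * (w i * x)) := by rw [hwx i]; group
      _ = _ := by rw [haz]; group
  have hzc : ∀ a ∈ c.E, a * c.z = c.z * a := fun a ha => (hl.ok.z_comm ha).symm
  have s1 := step (w 0) (hwE 0) 1 c.z (hwx 0) rfl (hzc _ (hwE 0))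
  rw [hl.ok.z_sq] at s1
  have s2 := step _ (mul_mem (hwE 0) (hwE 1)) 2 1 s1 (by simp) (hzc _ (mul_mem (hwE 0) (hwE 1)))
  rw [one_mul] at s2
  have s3 := step _ (mul_mem (mul_mem (hwE 0) (hwE 1)) (hwE 2)) 3 c.z s2 rfl
    (hzc _ (mul_mem (mul_mem (hwE 0) (hwE 1)) (hwE 2)))
  rw [hl.ok.z_sq] at s3
  have s4 := step _ (mul_mem (mul_mem (mul_mem (hwE 0) (hwE 1)) (hwE 2)) (hwE 3)) 4 1 s3 (by simp)
    (hzc _ (mul_mem (mul_mem (mul_mem (hwE 0) (hwE 1)) (hwE 2)) (hwE 3)))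
  rw [one_mul, show w 0 * w 1 * w 2 * w 3 * w 4 = w 0 * u by rw [hu]; group, h _ hF] at s4
  exact hl.ok.z_ne (mul_eq_right.1 s4.symm)

theorem six_flip {a : G} (ha : a ∈ six c Q) : a * c.z ∈ six c Q :=
  ⟨zType_flip hl.ok ha.1, mul_mem ha.2 hl.z_cent⟩

omit [Finite G] in
theorem six_conj {h a : G} (hh : h ∈ c.H) (hq : h ∈ centralizer (Q : Set G)) (ha : a ∈ six c Q) :
    h * a * h⁻¹ ∈ six c Q :=
  ⟨zType_conj hl.ok hh ha.1, mul_mem (mul_mem hq ha.2) (inv_mem hq)⟩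

omit [Finite G] in
theorem six_moved {a p : G} (ha : a ∈ six c Q) (hp : p ∈ c.P) (hp1 : p ≠ 1) :
    p * a * p⁻¹ ≠ a ∧ p * a * p⁻¹ ≠ a * c.z := by
  have hne : ¬ (a = 1 ∨ a = c.z) := fun h => h.elim (isConj_ne hl.ok ha.1.2.2) ha.1.2.1
  exact ⟨fun e => hne (fixP_vec hl.ok hp hp1 ha.1.1 (Or.inl e)),
    fun e => hne (fixP_vec hl.ok hp hp1 ha.1.1 (Or.inr e))⟩

theorem card_six : Nat.card (six c Q) = 6 := by
  haveI : Fact (Nat.Prime 5) := ⟨by norm_num⟩
  haveI : Fact (Nat.Prime 3) := ⟨Nat.prime_three⟩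
  haveI : Fact (Nat.Prime 2) := ⟨Nat.prime_two⟩
  set q := hl.gen with hqdef
  have hq : q ∈ c.H := hl.gen_H
  let f : zType c → zType c := fun a => ⟨q * a * q⁻¹, zType_conj hl.ok hq a.2⟩
  have h5 := card_mod_fixed (p := 5) f (funext fun a => Subtype.ext (by
    show q * (q * (q * (q * (q * (a : G) * q⁻¹) * q⁻¹) * q⁻¹) * q⁻¹) * q⁻¹ = (a : G)
    calc _ = q ^ 5 * (a : G) * (q ^ 5)⁻¹ := by simp [pow_succ, mul_assoc]
      _ = (a : G) := by rw [show q ^ 5 = 1 from hl.gen_pow]; simp))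
  have hfix : Nat.card {a : zType c // f a = a} = Nat.card (six c Q) := by
    refine Nat.card_congr
      { toFun := fun a => ⟨a.1, a.1.2, ?_⟩
        invFun := fun a => ⟨⟨a, a.2.1⟩, Subtype.ext ?_⟩
        left_inv := fun a => rfl
        right_inv := fun a => rfl }
    · rw [← hl.cent_gen]
      exact mem_cent_one.2 (mul_inv_eq_iff_eq_mul.1 (congrArg Subtype.val a.2 :)).symm
    · have h' := a.2.2; rw [← hl.cent_gen] at h'
      show q * (a : G) * q⁻¹ = a
      rw [← mem_cent_one.1 h', mul_inv_cancel_right]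
  rw [hl.count, hfix] at h5
  have hd2 : 2 ∣ Nat.card (six c Q) :=
    prime_dvd_of_fpf (fun a : six c Q => ⟨(a : G) * c.z, hl.six_flip a.2⟩)
      (funext fun a => Subtype.ext (by
        show (a : G) * c.z * c.z = a; rw [mul_assoc, hl.ok.z_sq, mul_one]))
      (fun a e => hl.ok.z_ne (mul_eq_left.1 (congrArg Subtype.val e :)))
  obtain ⟨p, hp, hp1⟩ : ∃ p ∈ c.P, p ≠ 1 := by
    refine (Subgroup.bot_or_exists_ne_one c.P).resolve_left fun h => ?_
    have := hl.ok.cardP; rw [h, Subgroup.card_bot] at this; omega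
  have hp3 : p ^ 3 = 1 :=
    orderOf_dvd_iff_pow_eq_one.1 (hl.ok.cardP ▸ Subgroup.orderOf_dvd_natCard c.P hp)
  have hd3 : 3 ∣ Nat.card (six c Q) :=
    prime_dvd_of_fpf
      (fun a : six c Q => ⟨p * a * p⁻¹, hl.six_conj (hl.ok.P_le hp) (hl.P_cent hp) a.2⟩)
      (funext fun a => Subtype.ext (by
        show p * (p * (p * (a : G) * p⁻¹) * p⁻¹) * p⁻¹ = a
        calc _ = p ^ 3 * (a : G) * (p ^ 3)⁻¹ := by simp [pow_succ, mul_assoc]
          _ = (a : G) := by rw [hp3]; simp))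
      (fun a e => (hl.six_moved a.2 hp hp1).1 (congrArg Subtype.val e :))
  have hle : Nat.card (six c Q) + 2 ≤ 32 := by
    rw [← hl.card_F, Nat.card_coe_set_eq, ← Nat.card_coe_set_eq]
    rw [Nat.card_coe_set_eq]
    have hnz : c.z ∉ six c Q := fun h => h.1.2.1 rfl
    have hn1 : (1 : G) ∉ insert c.z (six c Q) := by
      rintro (h | h)
      exacts [hl.ok.z_ne h.symm, isConj_ne hl.ok h.1.2.2 rfl]
    have e : (insert (1 : G) (insert c.z (six c Q))).ncard = (six c Q).ncard + 2 := by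
      rw [Set.ncard_insert_of_notMem hn1, Set.ncard_insert_of_notMem hnz]
    rw [← e, ← SetLike.coe_sort_coe, Nat.card_coe_set_eq]
    refine Set.ncard_le_ncard (Set.insert_subset (one_mem _) (Set.insert_subset ?_ ?_)) (Set.toFinite _)
    · exact ⟨hl.ok.z_mem, hl.z_cent⟩
    · exact fun a ha => ⟨ha.1.1, ha.2⟩
  omega

theorem six_orbit {e a : G} (he : e ∈ six c Q) (ha : a ∈ six c Q) :
    ∃ p ∈ c.P, a = p * e * p⁻¹ ∨ a = p * e * p⁻¹ * c.z := by
  let f : c.P × Bool → six c Q := fun t =>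
    if t.2 then ⟨t.1 * e * (t.1 : G)⁻¹ * c.z,
      hl.six_flip (hl.six_conj (hl.ok.P_le t.1.2) (hl.P_cent t.1.2) he)⟩
    else ⟨t.1 * e * (t.1 : G)⁻¹, hl.six_conj (hl.ok.P_le t.1.2) (hl.P_cent t.1.2) he⟩
  have hf : Function.Bijective f := by
    refine (Nat.bijective_iff_injective_and_card f).2 ⟨?_, ?_⟩
    · rintro ⟨s, bs⟩ ⟨t, bt⟩ h
      have key : ∀ k : G, k = 1 ∨ k = c.z → (s : G) * e * (s : G)⁻¹ = t * e * (t : G)⁻¹ * k →
          s = t ∧ k = 1 := by
        intro k hk h'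
        have hkt : k * (t : G) = t * k := by
          rcases hk with rfl | rfl
          · simp
          · exact c.mem_H.1 (hl.ok.P_le t.2)
        have h2 : ((t : G)⁻¹ * s) * e * ((t : G)⁻¹ * s)⁻¹ = e * k := by
          calc ((t : G)⁻¹ * s) * e * ((t : G)⁻¹ * s)⁻¹
              = (t : G)⁻¹ * ((s : G) * e * (s : G)⁻¹) * t := by group
            _ = e * (t : G)⁻¹ * (k * t) := by rw [h']; group
            _ = e * k := by rw [hkt]; group
        by_cases hst : s = t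
        · subst hst
          exact ⟨rfl, mul_eq_left.1 h'.symm⟩
        · exfalso
          have hne : (t : G)⁻¹ * s ≠ 1 := fun e' => hst (Subtype.ext (inv_mul_eq_one.1 e').symm)
          have hm := hl.six_moved he (mul_mem (inv_mem t.2) s.2) hne
          rcases hk with rfl | rfl
          · exact hm.1 (h2.trans (mul_one _))
          · exact hm.2 h2
      have h' := congrArg Subtype.val h
      cases bs <;> cases bt <;> simp only [f, Bool.false_eq_true, if_true, if_false] at h'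
      · rw [(key 1 (Or.inl rfl) (h'.trans (mul_one _).symm)).1]
      · exact absurd (key c.z (Or.inr rfl) h').2 hl.ok.z_ne
      · have h'' : (s : G) * e * (s : G)⁻¹ = t * e * (t : G)⁻¹ * c.z := by
          rw [← h', mul_assoc _ c.z c.z, hl.ok.z_sq, mul_one]
        exact absurd (key c.z (Or.inr rfl) h'').2 hl.ok.z_ne
      · rw [(key 1 (Or.inl rfl) ((mul_right_cancel h').trans (mul_one _).symm)).1]
    · rw [hl.card_six, Nat.card_prod, hl.ok.cardP]; simp
  obtain ⟨⟨p, b⟩, hpb⟩ := hf.2 ⟨a, ha⟩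
  have := congrArg Subtype.val hpb
  cases b <;> simp only [f, Bool.false_eq_true, if_true, if_false] at this
  exacts [⟨p, p.2, Or.inl this.symm⟩, ⟨p, p.2, Or.inr this.symm⟩]

theorem exists_six : ∃ e, e ∈ six c Q := by
  by_contra h
  push Not at h
  have := hl.card_six
  rw [Nat.card_coe_set_eq, Set.eq_empty_iff_forall_notMem.2 h, Set.ncard_empty] at this
  omega

end Loc

end Cfsg.Agent.H54.JFour
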