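import Cfsg.Agent.H54.JFour.CentFive
import Cfsg.Agent.H54.AutTwentyTwo.Cent

/-!
The facts on elements of order five for the automorphism group of the Mathieu group on 22 points.
-/

set_option autoImplicit false

namespace Cfsg.Agent.H54.JFour

theorem fiveFacts :
    FiveFacts (MulAut ↥Spor.M22) (MulAut.conj : ↥Spor.M22 →* MulAut ↥Spor.M22).range where
  cent _ h := (AutTwentyTwo.five_aut h).1
  outer _ h := (AutTwentyTwo.five_aut h).2.1
  flip _ h := (AutTwentyTwo.five_aut h).2.2

end Cfsg.Agent.H54.JFour
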