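import Cfsg.Agent.H54.JFour.CentFive
import Cfsg.Agent.H43.J4.Fus

/-!
The number of conjugates of the involution in its extraspecial group other than itself is 1386.
-/

set_option autoImplicit false

namespace Cfsg.Agent.H54.JFour

open Subgroup Cfsg.Agent.H43.JFour Cfsg.Agent.H43.JFour.Ctx

universe u v

variable {G : Type u} [Group G] [Finite G] {A : Type v} [Group A] {M : Subgroup A} {c : Ctx G A}

/-- The conjugates of the involution in its extraspecial group form one orbit under its centraliser. -/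
theorem card_zType (hc : c.Ok) (hd : AutData A M) [IsSimpleGroup G] (hG : ¬ IsMulCommutative G) :
    Nat.card (zType c) = 1386 := by
  obtain ⟨e, he, hne, hcj, -⟩ := hc.exists_fus hd hG
  obtain ⟨x, p, t⟩ := hc.exists_trip hd
  obtain ⟨g, hg⟩ := isConj_iff.1 hcj
  have π : Duo c (c.conj g) :=
    ⟨hc, hc.conj g, by show g * c.z * g⁻¹ ∈ c.E; rw [hg]; exact he,
      by show g * c.z * g⁻¹ ≠ c.z; rw [hg]; exact hne⟩
  obtain ⟨hStb, h36⟩ := π.main hd t
  have heq : zType c = Duo.Orb c (c.conj g) := by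
    ext w
    constructor
    · rintro ⟨hwE, hwz, hwc⟩
      obtain ⟨k, hk⟩ := isConj_iff.1 hwc
      have π' : Duo c (c.conj k) :=
        ⟨hc, hc.conj k, by show k * c.z * k⁻¹ ∈ c.E; rw [hk]; exact hwE,
          by show k * c.z * k⁻¹ ≠ c.z; rw [hk]; exact hwz⟩
      have h36' := (π'.main hd t).2
      obtain ⟨y, ⟨hy, -⟩, hy', -⟩ : ((Duo.Orb c (c.conj g) ∩ c.PThree x) ∩
          (Duo.Orb c (c.conj k) ∩ c.PThree x)).Nonempty := by
        refine Set.nonempty_iff_ne_empty.2 fun hempty => ?_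
        have h := Set.ncard_union_add_ncard_inter (Duo.Orb c (c.conj g) ∩ c.PThree x)
          (Duo.Orb c (c.conj k) ∩ c.PThree x) (Set.toFinite _) (Set.toFinite _)
        rw [hempty, Set.ncard_empty, h36, h36'] at h
        have h2 := Set.ncard_le_ncard (Set.union_subset Set.inter_subset_right Set.inter_subset_right :
          (Duo.Orb c (c.conj g) ∩ c.PThree x) ∪ (Duo.Orb c (c.conj k) ∩ c.PThree x) ⊆ c.PThree x)
          (Set.toFinite _)
        rw [t.ncard_pThree hc hd] at h2
        omega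
      obtain ⟨a, ha, hay⟩ := hy
      obtain ⟨b, hb, hby⟩ := hy'
      refine ⟨b⁻¹ * a, mul_mem (inv_mem hb) ha, ?_⟩
      calc b⁻¹ * a * (c.conj g).z * (b⁻¹ * a)⁻¹ = b⁻¹ * (a * (c.conj g).z * a⁻¹) * b := by group
        _ = (c.conj k).z := by rw [hay, ← hby]; group
        _ = w := hk
    · rintro ⟨h, hh, rfl⟩
      exact zType_conj hc hh ⟨π.mem, π.ne, by show IsConj c.z (g * c.z * g⁻¹); rw [hg]; exact hcj⟩
  rw [Nat.card_coe_set_eq, heq, π.ncard_orb hd, hStb, hd.R_index _ ((π.symm hd).isR hd)]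

end Cfsg.Agent.H54.JFour
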