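import Cfsg.Agent.H54.JFour.FiveGlue

/-!
A split extension gives the projection and section required by `TData`.
-/

set_option autoImplicit false

namespace Cfsg.Agent.H54.JFour

open Subgroup Cfsg.Agent.H43.JFour

universe u v

variable {G : Type u} [Group G] {A : Type v} [Group A] {c : Ctx G A}

/-- The shape of the centralisers gives `TData`. -/
theorem tdata_of_shape
    (h : ∀ t : G, orderOf t = 2 → ¬ IsConj c.z t →
      ∃ V K : Subgroup G, V ≤ centralizer ({t} : Set G) ∧ K ≤ centralizer ({t} : Set G) ∧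
        centralizer ({t} : Set G) ≤ normalizer (V : Set G) ∧ IsElementaryAbelian 2 V ∧
        Nat.card V = 2 ^ 11 ∧ K ⊓ V = ⊥ ∧ K ⊔ V = centralizer ({t} : Set G) ∧ Nonempty (K ≃* A)) :
    TData c := by
  intro t h2 hnc
  obtain ⟨V, K, hV, hK, hn, hel, hcard, hinf, hsup, ⟨e⟩⟩ := h t h2 hnc
  set N := centralizer ({t} : Set G) with hN
  refine ⟨V, hV, hel, hcard, ?_⟩
  haveI : (V.subgroupOf N).Normal := ⟨fun a ha g => by
    rw [mem_subgroupOf] at ha ⊢
    exact (mem_normalizer_iff.1 (hn g.2) _).1 ha⟩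
  have hcompl : (V.subgroupOf N).IsComplement' (K.subgroupOf N) := by
    refine isComplement'_of_disjoint_and_mul_eq_univ ?_ (Set.eq_univ_of_forall fun a => ?_)
    · rw [disjoint_iff, eq_bot_iff]
      intro a ha
      have : (a : G) ∈ K ⊓ V := ⟨ha.2, ha.1⟩
      rw [hinf, mem_bot] at this
      exact mem_bot.2 (Subtype.ext this)
    · have ha : (a : G) ∈ V ⊔ K := by rw [sup_comm, hsup]; exact a.2
      obtain ⟨v, hv, k, hk, ek⟩ := exists_mul_of_mem_sup (hK.trans hn) ha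
      exact Set.mem_mul.2 ⟨⟨v, hV hv⟩, hv, ⟨k, hK hk⟩, hk, Subtype.ext ek.symm⟩
  set ι : K →* N := inclusion hK with hι
  have hbij : Function.Bijective fun k : K => (QuotientGroup.mk (ι k) : N ⧸ V.subgroupOf N) := by
    refine ⟨fun a b hab => ?_, fun q => ?_⟩
    · have h1 := QuotientGroup.eq.1 hab
      rw [mem_subgroupOf] at h1
      have : (a : G)⁻¹ * b ∈ K ⊓ V := ⟨K.mul_mem (K.inv_mem a.2) b.2, h1⟩
      rw [hinf, mem_bot, inv_mul_eq_one] at this
      exact Subtype.ext this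
    · obtain ⟨a, rfl⟩ := QuotientGroup.mk_surjective q
      obtain ⟨⟨v, k⟩, hvk⟩ := hcompl.2 a
      refine ⟨⟨((k : N) : G), k.2⟩, QuotientGroup.eq.2 ?_⟩
      have hka : (ι ⟨((k : N) : G), k.2⟩) = (k : N) := Subtype.ext rfl
      rw [hka, ← hvk]
      show (k : N)⁻¹ * ((v : N) * k) ∈ V.subgroupOf N
      have h2 := (inferInstance : (V.subgroupOf N).Normal).conj_mem _ v.2 (k : N)⁻¹
      rwa [inv_inv, mul_assoc] at h2
  let φ : K ≃* N ⧸ V.subgroupOf N :=
    MulEquiv.ofBijective ((QuotientGroup.mk' (V.subgroupOf N)).comp ι) hbij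
  refine ⟨(e.toMonoidHom.comp φ.symm.toMonoidHom).comp (QuotientGroup.mk' _),
    ι.comp e.symm.toMonoidHom, fun a => ?_, ?_⟩
  · show e (φ.symm (φ (e.symm a))) = a
    rw [φ.symm_apply_apply, e.apply_symm_apply]
  · ext a
    rw [MonoidHom.mem_ker]
    show e (φ.symm (QuotientGroup.mk a)) = 1 ↔ _
    rw [e.map_eq_one_iff, φ.symm.map_eq_one_iff, QuotientGroup.eq_one_iff]

end Cfsg.Agent.H54.JFour
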