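import Cfsg.Agent.H54.JFour.FiveMain
import Cfsg.Agent.H54.JFour.FiveAut
import Cfsg.Agent.H54.JFour.FiveCount
import Cfsg.Agent.H54.JFour.TShape
import Cfsg.Agent.H43.J4.Bridge
import Cfsg.Agent.H85.JFour.AutM22.Main
import Cfsg.Prelude.Def_TwoFusion

/-!
The local structure at an element of order five of a group of Janko-four type, given the shape of the
centralisers of the involutions outside the class of the given one.
-/

set_option autoImplicit false

namespace Cfsg.Agent.H54.JFour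

open Subgroup Cfsg.Agent.H43.JFour

universe u

variable {G : Type u} [Group G] [Finite G] [IsSimpleGroup G]

/-- The standing hypotheses at a subgroup of order five. -/
theorem exists_base (hG : ¬ IsMulCommutative G) {z : G} (hJ : Cfsg.IsOfJankoFourTypeAt z)
    (Q : Subgroup G) (hQ : Nat.card Q = 5) :
    ∃ c : Ctx G (MulAut ↥Spor.M22), c.z = z ∧
      Base c (MulAut.conj : ↥Spor.M22 →* MulAut ↥Spor.M22).range Q := by
  obtain ⟨P, hP⟩ := hJ
  obtain ⟨c, hz, -, -, hc⟩ := exists_ctx hP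
  exact ⟨c, hz, hc, H85.AutM22.autData, fiveFacts,
    by rw [card_zType hc H85.AutM22.autData hG], hQ⟩

theorem five_final (hG : ¬ IsMulCommutative G) {z : G} (hJ : Cfsg.IsOfJankoFourTypeAt z)
    (h69 : ∀ t : G, orderOf t = 2 → ¬ IsConj z t →
      ∃ V K : Subgroup G, V ≤ centralizer ({t} : Set G) ∧ K ≤ centralizer ({t} : Set G) ∧
        centralizer ({t} : Set G) ≤ normalizer (V : Set G) ∧ IsElementaryAbelian 2 V ∧
        Nat.card V = 2 ^ 11 ∧ K ⊓ V = ⊥ ∧ K ⊔ V = centralizer ({t} : Set G) ∧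
        Nonempty (K ≃* MulAut ↥Spor.M22))
    (Q : Subgroup G) (hQ : Nat.card Q = 5) (hQz : Q ≤ centralizer ({z} : Set G)) :
    ¬ (25 ∣ Nat.card G) ∧
    (∃ J : Subgroup G, IsInternalDirectProduct Q J (centralizer (Q : Set G)) ∧
      ∃ (E : Subgroup J) (_ : E.Normal), IsElementaryAbelian 2 E ∧ Nat.card E = 8 ∧
        Nonempty (J ⧸ E ≃* Matrix.SpecialLinearGroup (Fin 3) (ZMod 2)) ∧
          ∀ K : Subgroup J, ¬ E.IsComplement' K) ∧
    (∃ R : Subgroup G, Q ≤ R ∧ R ≤ normalizer (Q : Set G) ∧ Nat.card R = 20 ∧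
      R ⊓ centralizer (Q : Set G) = Q) ∧
    Nat.card (normalizer (Q : Set G)) = 2 ^ 8 * 3 * 5 * 7 := by
  obtain ⟨c, rfl, hb⟩ := exists_base hG hJ Q hQ
  exact five_main hb hQz (tdata_of_shape h69)

end Cfsg.Agent.H54.JFour
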