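import Cfsg.Agent.H54.JFour.SevenMain
import Cfsg.Agent.H54.JFour.FiveFinal
import Cfsg.Agent.H38.JFour.SecondClass
import Cfsg.Agent.S5566

/-!
The local structure at a subgroup of order seven in a group of Janko-four type.
-/

set_option autoImplicit false

namespace Cfsg.Agent.H54.JFour

open Subgroup Cfsg.Agent.H43.JFour Cfsg.Agent.H43.JFour.Ctx

universe u v

variable {G : Type u} [Group G] [Finite G] {A : Type v} [Group A] {M W W' : Subgroup A} {c : Ctx G A}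
  {α β γ : A}

theorem sevenFacts :
    SevenFacts (MulAut ↥Spor.M22) (MulAut.conj : ↥Spor.M22 →* MulAut ↥Spor.M22).range where
  cent _ h := (AutTwentyTwo.seven_aut h).1
  outer _ h := (AutTwentyTwo.seven_aut h).2.1
  flip _ h := (AutTwentyTwo.seven_aut h).2.2.1
  noinv _ h := (AutTwentyTwo.seven_aut h).2.2.2

omit [Finite G] in
/-- A split extension gives a projection and a section. -/
theorem section_of_split {t : G} {V K : Subgroup G} (hV : V ≤ centralizer ({t} : Set G))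
    (hK : K ≤ centralizer ({t} : Set G)) (hn : centralizer ({t} : Set G) ≤ normalizer (V : Set G))
    (hinf : K ⊓ V = ⊥) (hsup : K ⊔ V = centralizer ({t} : Set G)) (e : K ≃* A) :
    ∃ (π : centralizer ({t} : Set G) →* A) (σ : A →* centralizer ({t} : Set G)),
      (∀ a, π (σ a) = a) ∧ π.ker = V.subgroupOf (centralizer ({t} : Set G)) := by
  set N := centralizer ({t} : Set G) with hN
  haveI : (V.subgroupOf N).Normal := ⟨fun a ha g => by
    rw [mem_subgroupOf] at ha ⊢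
    exact (mem_normalizer_iff.1 (hn g.2) _).1 ha⟩
  have hcompl : (V.subgroupOf N).IsComplement' (K.subgroupOf N) := by
    refine isComplement'_of_disjoint_and_mul_eq_univ ?_ (Set.eq_univ_of_forall fun a => ?_)
    · rw [disjoint_iff, eq_bot_iff]
      intro a ha
      have : (a : G) ∈ K ⊓ V := ⟨ha.2, ha.1⟩
      rw [hinf, mem_bot] at this
      exact mem_bot.2 (Subtype.ext this)
    · have ha : (a : G) ∈ V ⊔ K := by rw [sup_comm, hsup]; exact a.2
      obtain ⟨v, hv, k, hk, ek⟩ := exists_mul_of_mem_sup (hK.trans hn) ha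
      exact Set.mem_mul.2 ⟨⟨v, hV hv⟩, hv, ⟨k, hK hk⟩, hk, Subtype.ext ek.symm⟩
  set ι : K →* N := inclusion hK with hι
  have hbij : Function.Bijective fun k : K => (QuotientGroup.mk (ι k) : N ⧸ V.subgroupOf N) := by
    refine ⟨fun a b hab => ?_, fun q => ?_⟩
    · have h1 := QuotientGroup.eq.1 hab
      rw [mem_subgroupOf] at h1
      have : (a : G)⁻¹ * b ∈ K ⊓ V := ⟨K.mul_mem (K.inv_mem a.2) b.2, h1⟩
      rw [hinf, mem_bot, inv_mul_eq_one] at this
      exact Subtype.ext this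
    · obtain ⟨a, rfl⟩ := QuotientGroup.mk_surjective q
      obtain ⟨⟨v, k⟩, hvk⟩ := hcompl.2 a
      refine ⟨⟨((k : N) : G), k.2⟩, QuotientGroup.eq.2 ?_⟩
      have hka : (ι ⟨((k : N) : G), k.2⟩) = (k : N) := Subtype.ext rfl
      rw [hka, ← hvk]
      show (k : N)⁻¹ * ((v : N) * k) ∈ V.subgroupOf N
      have h2 := (inferInstance : (V.subgroupOf N).Normal).conj_mem _ v.2 (k : N)⁻¹
      rwa [inv_inv, mul_assoc] at h2
  let φ : K ≃* N ⧸ V.subgroupOf N :=
    MulEquiv.ofBijective ((QuotientGroup.mk' (V.subgroupOf N)).comp ι) hbij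
  refine ⟨(e.toMonoidHom.comp φ.symm.toMonoidHom).comp (QuotientGroup.mk' _),
    ι.comp e.symm.toMonoidHom, fun a => ?_, ?_⟩
  · show e (φ.symm (φ (e.symm a))) = a
    rw [φ.symm_apply_apply, e.apply_symm_apply]
  · ext a
    rw [MonoidHom.mem_ker]
    show e (φ.symm (QuotientGroup.mk a)) = 1 ↔ _
    rw [e.map_eq_one_iff, φ.symm.map_eq_one_iff, QuotientGroup.eq_one_iff]

/-- Outer involutions lift to involutions. -/
theorem outerLift (h : H98.JFour.Pkg c M W) (hF : H98.JFour.HasFus c M) (hO : H98.JFour.OuterInR M) :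
    OuterLift c M := by
  intro a haM hao
  obtain ⟨e0, he0, hez, hcj, -⟩ := id hF
  obtain ⟨g, rfl⟩ := isConj_iff.1 hcj
  have π : Ctx.Duo c (c.conj g) := ⟨h.hc, h.hc.conj g, he0, hez⟩
  set d := c.conj g with hd
  have hdOk : d.Ok := h.hc.conj g
  have π' := π.symm h.hd
  obtain ⟨γ, hγ⟩ := hO _ haM hao _ (π'.isR h.hd)
  obtain ⟨u, hu, hupr⟩ := (h.hc.mem_img π'.Cs_le_H).1 hγ
  obtain ⟨huE, -⟩ := π'.mem_Cs.1 hu
  have huH : u ∈ c.H := π'.Cs_le_H hu
  have hu1 : c.pr u ≠ 1 := fun e => haM (by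
    rw [hupr, mul_inv_eq_one] at e
    rw [show a = 1 from mul_eq_left.1 e]; exact one_mem _)
  obtain ⟨u', hu'H, hu'2, hu'pr⟩ : ∃ u' ∈ c.H, u' * u' = 1 ∧ c.pr u' = c.pr u := by
    rcases hdOk.sq_mem huE with e | e
    · exact ⟨u, huH, e, rfl⟩
    obtain ⟨b, hb, hbu⟩ : ∃ b ∈ c.E ⊓ d.E, u * b * u⁻¹ * b⁻¹ ≠ 1 := by
      by_contra hall
      push Not at hall
      refine hu1 (h.hc.pr_E ?_)
      have hzA : d.z ∈ c.E ⊓ d.E := mem_inf.2 ⟨π.mem, hdOk.z_mem⟩
      have hc1 := hdOk.card_cent (c.E ⊓ d.E) inf_le_right hzA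
      rw [π.card_inf h.hd] at hc1
      have hle : c.E ⊓ d.E ≤ d.E ⊓ centralizer ((c.E ⊓ d.E : Subgroup G) : Set G) := fun a ha =>
        mem_inf.2 ⟨(mem_inf.1 ha).2, mem_centralizer_iff.2 fun b hb => by
          have e1 := π.inf_elem.1 _ (mul_mem hb ha)
          calc b * a = (b * a)⁻¹ := (inv_eq_of_mul_eq_one_left e1).symm
            _ = a * b := by
              rw [mul_inv_rev, inv_eq_of_mul_eq_one_left (π.inf_elem.1 a ha),
                inv_eq_of_mul_eq_one_left (π.inf_elem.1 b hb)]⟩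
      have heq := Subgroup.eq_of_le_of_card_ge hle (by rw [π.card_inf h.hd]; omega)
      have hum : u ∈ d.E ⊓ centralizer ((c.E ⊓ d.E : Subgroup G) : Set G) :=
        mem_inf.2 ⟨huE, mem_centralizer_iff.2 fun b hb => (mul_inv_eq_iff_eq_mul.1
          (mul_inv_eq_one.1 (hall b hb))).symm⟩
      rw [← heq] at hum
      exact (mem_inf.1 hum).1
    obtain ⟨hbE, hbd⟩ := mem_inf.1 hb
    have hcm : u * b * u⁻¹ = d.z * b := mul_inv_eq_iff_eq_mul.1
      ((hdOk.comm_mem huE hbd).resolve_left hbu)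
    refine ⟨u * b, mul_mem huH (h.hc.le_H hbE), ?_, ?_⟩
    · calc u * b * (u * b) = u * b * u⁻¹ * (u * u) * b := by group
        _ = d.z * (b * d.z) * b := by rw [hcm, e]; group
        _ = d.z * d.z * (b * b) := by rw [← hdOk.z_comm hbd]; group
        _ = 1 := by rw [hdOk.z_sq, π.inf_elem.1 b hb, one_mul]
    · rw [h.hc.pr_mul _ huH _ (h.hc.le_H hbE), h.hc.pr_E hbE, mul_one]
  obtain ⟨n, hn, rfl⟩ := h.hc.pr_surj γ
  refine ⟨n⁻¹ * u' * n⁻¹⁻¹, mul_mem (mul_mem (inv_mem hn) hu'H) (inv_mem (inv_mem hn)), ?_, ?_⟩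
  · rw [show n⁻¹ * u' * n⁻¹⁻¹ * (n⁻¹ * u' * n⁻¹⁻¹) = n⁻¹ * (u' * u') * n⁻¹⁻¹ by group, hu'2]; group
  · rw [h.hc.pr_conj (inv_mem hn) hu'H, hu'pr, hupr, h.hc.pr_inv hn]; group

/-- A subgroup of `V` without conjugates of `z` has order at most four. -/
theorem small_V (h : H98.JFour.Pkg c M W) (hF : H98.JFour.HasFus c M) {B : Subgroup G} (hB : B ≤ h.V)
    (hBz : ∀ b ∈ B, b ≠ 1 → ¬ IsConj c.z b) : Nat.card B ≤ 4 := by
  classical
  letI := h.commV
  obtain ⟨D, hDN, -⟩ := h.blocks hF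
  have hN : ∀ (b : G) (hb : b ∈ B), b ≠ 1 → (⟨b, hB hb⟩ : h.V) ∈ D.toPairs.N := fun b hb hb1 => by
    show (⟨b, hB hb⟩ : h.V) ∈ D.N
    rw [hDN]
    exact ⟨⟨hB hb, hb1⟩, fun e => hBz b hb hb1 (h.zOrb_isConj e)⟩
  by_contra hlt
  push Not at hlt
  have pick : ∀ F : Finset G, F.card ≤ 4 → ∃ b ∈ B, b ∉ F := fun F hF => by
    by_contra hall
    push Not at hall
    have := Nat.card_le_card_of_injective (fun b : B => (⟨(b : G), hall b b.2⟩ : F))
      fun a b e => Subtype.ext (congrArg Subtype.val e :)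
    rw [Nat.card_eq_fintype_card (α := ↥F), Fintype.card_coe] at this
    omega
  have hc4 : ∀ a b c d : G, ({a, b, c, d} : Finset G).card ≤ 4 := fun a b c d =>
    Finset.card_le_four
  obtain ⟨t, ht, ht'⟩ := pick {1} (by simp)
  obtain ⟨u, hu, hu'⟩ := pick {1, t} (Finset.card_le_two.trans (by norm_num))
  obtain ⟨v, hv, hv'⟩ := pick {1, t, u, t * u} (hc4 _ _ _ _)
  simp only [Finset.mem_insert, Finset.mem_singleton, not_or] at ht' hu' hv'
  have hsq : ∀ {b}, b ∈ B → b⁻¹ = b := fun hb => inv_eq_of_mul_eq_one_right (h.V_sq (hB hb))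
  have htu : t * u ≠ 1 := fun e => hu'.2 (by rw [eq_inv_of_mul_eq_one_right e, hsq ht])
  have htv : t * v ≠ 1 := fun e => hv'.2.1 (by rw [eq_inv_of_mul_eq_one_right e, hsq ht])
  have huv : u * v ≠ 1 := fun e => hv'.2.2.1 (by rw [eq_inv_of_mul_eq_one_right e, hsq hu])
  have htuv : t * u * v ≠ 1 := fun e =>
    hv'.2.2.2 (by rw [eq_inv_of_mul_eq_one_right e, hsq (mul_mem ht hu)])
  have hT := hN t ht ht'
  have hU : (⟨u, hB hu⟩ : h.V) ∈ D.toPairs.Nb ⟨t, hB ht⟩ :=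
    ⟨hN u hu hu'.1, hN (t * u) (mul_mem ht hu) htu⟩
  have hV : (⟨v, hB hv⟩ : h.V) ∈ D.toPairs.Nb ⟨t, hB ht⟩ :=
    ⟨hN v hv hv'.1, hN (t * v) (mul_mem ht hv) htv⟩
  have hone := (D.toPairs.edge hT hU).2.2.1 _ hV (fun e => hv'.2.2.1 (congrArg Subtype.val e))
    (fun e => hv'.2.2.2 (congrArg Subtype.val e))
  exact hone.1 (hN (u * v) (mul_mem hu hv) huv) (hN (t * u * v) (mul_mem (mul_mem ht hu) hv) htuv)

/-- The orbit count gives the position of the centralisers. -/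
theorem norm_of_orbits {z : G} {U : Subgroup G} (hc : Nat.card U = 2 ^ 11)
    (horb : ∃ z' t : G, z' ∈ U ∧ t ∈ U ∧ t ≠ 1 ∧ IsConj z z' ∧ ¬ IsConj z t ∧
      Set.ncard {v : G | ∃ n ∈ normalizer (U : Set G), n * z' * n⁻¹ = v} = 1771 ∧
      Set.ncard {v : G | ∃ n ∈ normalizer (U : Set G), n * t * n⁻¹ = v} = 276 ∧
      centralizer ({t} : Set G) ≤ normalizer (U : Set G))
    (hz1 : z ≠ 1) {t : G} (ht : t ∈ U) (ht1 : t ≠ 1) (htz : ¬ IsConj z t) :
    centralizer ({t} : Set G) ≤ normalizer (U : Set G) := by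
  obtain ⟨z', t', hz'U, ht'U, ht'1, hz', ht'z, h1771, h276, hle⟩ := horb
  have hz'1 : z' ≠ 1 := fun e => hz1 (isConj_one_left.1 (e ▸ hz'))
  set Oz := {v : G | ∃ n ∈ normalizer (U : Set G), n * z' * n⁻¹ = v}
  set Ot := {v : G | ∃ n ∈ normalizer (U : Set G), n * t' * n⁻¹ = v}
  have hsub : ∀ {w : G}, w ∈ U → w ≠ 1 →
      {v : G | ∃ n ∈ normalizer (U : Set G), n * w * n⁻¹ = v} ⊆ (U : Set G) \ {1} := by
    rintro w hw hw1 _ ⟨n, hn, rfl⟩
    refine ⟨(mem_normalizer_iff.1 hn w).1 hw, fun e => hw1 ?_⟩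
    rw [Set.mem_singleton_iff, mul_inv_eq_one] at e
    exact mul_eq_left.1 e
  have hdisj : Disjoint Oz Ot := by
    rw [Set.disjoint_left]
    rintro _ ⟨n, -, rfl⟩ ⟨m, -, e⟩
    exact ht'z ((hz'.trans (isConj_iff.2 ⟨n, rfl⟩)).trans (isConj_iff.2 ⟨m⁻¹, by rw [← e]; group⟩))
  have heq : Oz ∪ Ot = (U : Set G) \ {1} := by
    refine Set.eq_of_subset_of_ncard_le (Set.union_subset (hsub hz'U hz'1) (hsub ht'U ht'1)) ?_
      (Set.toFinite _)
    rw [Set.ncard_union_eq hdisj (Set.toFinite _) (Set.toFinite _), h1771, h276,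
      Set.ncard_sdiff_singleton_of_mem (one_mem U), ← Nat.card_coe_set_eq, SetLike.coe_sort_coe, hc]
    norm_num
  have hmem : t ∈ Oz ∪ Ot := by rw [heq]; exact ⟨ht, ht1⟩
  rcases hmem with ⟨n, -, rfl⟩ | ⟨n, hn, rfl⟩
  · exact absurd (hz'.trans (isConj_iff.2 ⟨n, rfl⟩)) htz
  · intro x hx
    have hx' : n⁻¹ * x * n ∈ normalizer (U : Set G) := hle (mem_cent_one.2 (by
      calc n⁻¹ * x * n * t' = n⁻¹ * (x * (n * t' * n⁻¹)) * n := by group
        _ = t' * (n⁻¹ * x * n) := by rw [mem_cent_one.1 hx]; group))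
    have := mul_mem (mul_mem hn hx') (inv_mem hn)
    rwa [show n * (n⁻¹ * x * n) * n⁻¹ = x by group] at this

/-- The facts on the involutions outside the class of `z`. -/
theorem exists_nonz [IsSimpleGroup G] (hG : ¬ IsMulCommutative G) {z : G} (hJ : Cfsg.IsOfJankoFourTypeAt z) :
    ∃ c : Ctx G (MulAut ↥Spor.M22), c.z = z ∧ NonzData c ∧
      BaseSeven c (MulAut.conj : ↥Spor.M22 →* MulAut ↥Spor.M22).range := by
  haveI : Fact (Nat.Prime 2) := ⟨Nat.prime_two⟩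
  obtain ⟨c, W, W', a, b, u, rfl, -, hti, h, h', hS, hF⟩ := H98.JFour.exists_full_setup hG hJ
  have horb := (H38.JFour.second_class_all hG hJ).1
  have hnorm : ∀ U : Subgroup G, IsElementaryAbelian 2 U → Nat.card U = 2 ^ 11 → ∀ t ∈ U, t ≠ 1 →
      ¬ IsConj c.z t → centralizer ({t} : Set G) ≤ normalizer (U : Set G) :=
    fun U he hc t ht h1 hz => norm_of_orbits hc (horb U he hc) h.hc.z_ne ht h1 hz
  refine ⟨c, rfl, ⟨?_, ?_, hnorm, ?_⟩, ⟨h.hc, h.hd, sevenFacts, outerLift h hF H98.JFour.outerInR_autM22⟩⟩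
  · intro t h2 hnc
    obtain ⟨s, hs⟩ := Set.nonempty_of_ncard_ne_zero (s := h.fib h.rest 1)
      (by rw [(h.rest_A7 hF).1]; norm_num)
    have hsV : s ∈ h.V := h.rest_inv.sub hs.1
    have hs1 : s ≠ 1 := hs.1.1.2
    have hsz : ¬ IsConj c.z s := fun e => hs.1.2 (h.fusion hsV e)
    obtain ⟨g, hg⟩ := isConj_iff.1
      (h.conj_of_not_z hF hti H98.JFour.outerInR_autM22 hG h2 hnc hsV hs1 hsz).symm
    have hcs := hnorm h.V h.elem_V h.card_V s hsV hs1 hsz
    obtain ⟨hVC, K, hKC, hKV, hsup, ⟨φ⟩⟩ := h.cent_shape h' hS hF hsV hs1 hsz hcs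
    set e : G ≃* G := MulAut.conj g
    have hC : (centralizer ({s} : Set G)).map e.toMonoidHom = centralizer ({t} : Set G) := by
      rw [Ctx.map_centralizer_conj, Set.image_singleton, hg]
    set U := h.V.map e.toMonoidHom with hU
    have hUe : IsElementaryAbelian 2 U := H98.JFour.map_conj_elem h.elem_V g
    have hUc : Nat.card U = 2 ^ 11 := by rw [hU, Subgroup.card_map_of_injective e.injective, h.card_V]
    have htU : t ∈ U := hg ▸ ⟨s, hsV, rfl⟩
    have hcn := hnorm U hUe hUc t htU (ne_of_ord h2) hnc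
    have hUle : U ≤ centralizer ({t} : Set G) := fun x hx => mem_cent_one.2 (mem_comm hUe hx htU)
    have hK' : K.map e.toMonoidHom ≤ centralizer ({t} : Set G) := hC ▸ map_mono hKC
    have hinf : K.map e.toMonoidHom ⊓ U = ⊥ := by
      rw [hU, ← map_inf _ _ _ e.injective, hKV, Subgroup.map_bot]
    have hsup' : K.map e.toMonoidHom ⊔ U = centralizer ({t} : Set G) := by
      rw [hU, ← Subgroup.map_sup, hsup, hC]
    obtain ⟨π, σ, hsec, hker⟩ := section_of_split hUle hK' hcn hinf hsup'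
      ((K.equivMapOfInjective e.toMonoidHom e.injective).symm.trans φ)
    exact ⟨U, htU, hUe, hUc, hcn, π, σ, hsec, hker⟩
  · intro U U' hUe hUc hU'e hU'c hle
    have hp : IsPGroup 2 ↥(U' ⊔ U) := (IsPGroup.of_card hU'c).to_sup_of_normal_right'
      (IsPGroup.of_card hUc) hle
    obtain ⟨T, hT⟩ := hp.exists_le_sylow
    obtain ⟨V, -, huniq⟩ := S5566.result hG ⟨c.z, hJ⟩ T
    rw [huniq U ⟨le_sup_right.trans hT, hUe, hUc⟩, huniq U' ⟨le_sup_left.trans hT, hU'e, hU'c⟩]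
  · intro U B hUe hUc hBU hBz
    obtain ⟨g, hg⟩ := h.exists_conj_V hUe hUc
    rw [← Subgroup.card_map_of_injective (K := B) (f := (MulAut.conj g).toMonoidHom) (MulAut.conj g).injective]
    refine small_V h hF (hg ▸ map_mono hBU) ?_
    rintro _ ⟨b, hb, rfl⟩ h1 hz
    refine hBz b hb (fun e => h1 (by rw [e, map_one])) (hz.trans (isConj_iff.2 ⟨g⁻¹, ?_⟩))
    show g⁻¹ * (g * b * g⁻¹) * g⁻¹⁻¹ = b
    group

/-- The local structure at a subgroup of order seven. -/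
theorem seven_final [IsSimpleGroup G] (hG : ¬ IsMulCommutative G) {z : G} (hJ : Cfsg.IsOfJankoFourTypeAt z)
    (S : Subgroup G) (hS : Nat.card S = 7) (hSz : S ≤ centralizer ({z} : Set G)) :
    ¬ (49 ∣ Nat.card G) ∧
    (∃ I : Subgroup G, IsInternalDirectProduct S I (centralizer (S : Set G)) ∧
      Nonempty (I ≃* Equiv.Perm (Fin 5))) ∧
    Nat.card (normalizer (S : Set G)) = 3 * Nat.card (centralizer (S : Set G)) ∧
    Nat.card (normalizer (S : Set G)) = 2 ^ 3 * 3 ^ 2 * 5 * 7 := by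
  haveI : Fact (Nat.Prime 5) := ⟨by norm_num⟩
  obtain ⟨c, rfl, hn, hb⟩ := exists_nonz hG hJ
  obtain ⟨x, hx⟩ := exists_prime_orderOf_dvd_card' (G := c.H) 5 (by
    rw [hb.ok.card_H, hb.data.card]; norm_num)
  refine seven_main hb hn (Q := zpowers (x : G))
    ⟨hb.ok, hb.data, fiveFacts, by rw [card_zType hb.ok hb.data hG], ?_⟩ (zpowers_le.2 x.2) S hS hSz
  rw [Nat.card_zpowers, orderOf_coe, hx]

end Cfsg.Agent.H54.JFour
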