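import Mathlib
import Cfsg.Prelude.Def_Transfer

/-!
Automorphisms of an elementary abelian group of order 8 as 3 x 3 matrices over the field with two
elements, and the resulting bound on classes of involutions.
-/

set_option autoImplicit false

namespace Cfsg.Agent.H54.JFour

open Matrix

theorem matrix_involutions :
    (Finset.univ.filter fun M : Matrix (Fin 3) (Fin 3) (ZMod 2) => M * M = 1 ∧ M ≠ 1).card = 21 := by
  decide +kernel

/-- An elementary abelian group of order 8 is the space of triples over two elements. -/
theorem exists_coords {A : Type*} [Group A] [Finite A] (hc : ∀ a b : A, a * b = b * a)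
    (h2 : ∀ a : A, a ^ 2 = 1) (h8 : Nat.card A = 8) :
    Nonempty (Additive A ≃+ (Fin 3 → ZMod 2)) := by
  letI : CommGroup A := { (inferInstance : Group A) with mul_comm := hc }
  letI : Module (ZMod 2) (Additive A) :=
    AddCommGroup.zmodModule (n := 2) fun a => congrArg Additive.ofMul (h2 a.toMul)
  haveI : Finite (Additive A) := ‹Finite A›
  have h := Module.natCard_eq_pow_finrank (K := ZMod 2) (V := Additive A)
  rw [show Nat.card (Additive A) = 2 ^ 3 from h8, Nat.card_zmod] at h
  exact ⟨(Module.finBasisOfFinrankEq (ZMod 2) (Additive A)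
    (Nat.pow_right_injective le_rfl h.symm)).equivFun.toAddEquiv⟩

variable {A : Type*} [Group A]

/-- The additive map induced by an automorphism. -/
def addMap (e : Additive A ≃+ (Fin 3 → ZMod 2)) (f : MulAut A) :
    (Fin 3 → ZMod 2) →+ (Fin 3 → ZMod 2) :=
  AddMonoidHom.mk' (fun v => e (Additive.ofMul (f (e.symm v).toMul))) fun v w => by
    rw [map_add, toMul_add, map_mul, ofMul_mul, map_add]

/-- The matrix of an automorphism in given coordinates. -/
def toMat (e : Additive A ≃+ (Fin 3 → ZMod 2)) : MulAut A →* Matrix (Fin 3) (Fin 3) (ZMod 2) where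
  toFun f := LinearMap.toMatrix' ((addMap e f).toZModLinearMap 2)
  map_one' := by
    rw [← LinearMap.toMatrix'_id]
    congr 1
    refine LinearMap.ext fun v => ?_
    simp [addMap]
  map_mul' f g := by
    rw [← LinearMap.toMatrix'_comp]
    congr 1
    refine LinearMap.ext fun v => ?_
    simp [addMap]

theorem toMat_injective (e : Additive A ≃+ (Fin 3 → ZMod 2)) : Function.Injective (toMat e) := by
  intro f g h
  ext a
  have h1 := LinearMap.congr_fun (LinearMap.toMatrix'.injective h) (e (Additive.ofMul a))
  simpa [addMap] using h1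

/-- In a group embedded in the 3 x 3 matrices over two elements an involution has at most 21
conjugates. -/
theorem card_le_cent {X : Type*} [Group X] [Finite X]
    (f : X →* Matrix (Fin 3) (Fin 3) (ZMod 2)) (hf : Function.Injective f) {x : X} (hx : x * x = 1)
    (hx1 : x ≠ 1) : Nat.card X ≤ 21 * Nat.card (Subgroup.centralizer ({x} : Set X)) := by
  have hbound : (Subgroup.centralizer ({x} : Set X)).index ≤ 21 := by
    set C := Subgroup.centralizer ({x} : Set X)
    set I := Finset.univ.filter fun M : Matrix (Fin 3) (Fin 3) (ZMod 2) => M * M = 1 ∧ M ≠ 1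
    have hmem : ∀ q : X ⧸ C, f (q.out * x * q.out⁻¹) ∈ I := fun q => by
      simp only [I, Finset.mem_filter, Finset.mem_univ, true_and]
      refine ⟨?_, fun h => hx1 ?_⟩
      · rw [← map_mul, show q.out * x * q.out⁻¹ * (q.out * x * q.out⁻¹) = q.out * (x * x) * q.out⁻¹
          by group, hx, mul_one, mul_inv_cancel, map_one]
      · have h' := hf (h.trans (map_one f).symm)
        rwa [mul_inv_eq_one, mul_eq_left] at h'
    have hinj : Function.Injective fun q : X ⧸ C => (⟨_, hmem q⟩ : I) := by
      intro q r h
      have h' := hf (congrArg Subtype.val h)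
      rw [← QuotientGroup.out_eq' q, ← QuotientGroup.out_eq' r]
      refine (QuotientGroup.eq).2 (Subgroup.mem_centralizer_singleton_iff.2 ?_)
      calc q.out⁻¹ * r.out * x = q.out⁻¹ * (r.out * x * r.out⁻¹) * r.out := by group
        _ = q.out⁻¹ * (q.out * x * q.out⁻¹) * r.out := by rw [h']
        _ = x * (q.out⁻¹ * r.out) := by group
    exact (Nat.card_le_card_of_injective _ hinj).trans
      (le_of_eq ((Nat.card_eq_finsetCard I).trans matrix_involutions))
  rw [← (Subgroup.centralizer ({x} : Set X)).card_mul_index, mul_comm 21]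
  exact Nat.mul_le_mul_left _ hbound

end Cfsg.Agent.H54.JFour
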