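import Cfsg.Agent.H54.JFour.Elem
import Cfsg.Agent.H24.CyclicIntersectBasic

/-!
The normality of the elementary abelian group of order 8 in the centraliser of an element of order
5 in a group of Janko-four type, stated abstractly.
-/

set_option autoImplicit false

namespace Cfsg.Agent.H54.JFour

open Subgroup

variable {C : Type*} [Group C] [Finite C]

/-- Local data: an elementary group `A` of order 8 all of whose non-trivial elements are special
(`cls`), containing the centraliser information of its elements. -/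
structure Five (z : C) (A Q : Subgroup C) (cls : C → Prop) : Prop where
  elem : IsElementaryAbelian 2 A
  card : Nat.card A = 8
  mem : z ∈ A
  ne : z ≠ 1
  odd : Odd (Nat.card Q)
  central : ∀ q ∈ Q, ∀ g : C, g * q = q * g
  cent_A : centralizer (A : Set C) = A ⊔ Q
  card_z : Nat.card (centralizer ({z} : Set C)) = 24 * Nat.card (centralizer (A : Set C))
  cent_le : ∀ a ∈ A, a ≠ 1 → centralizer ({a} : Set C) ≤ normalizer (A : Set C)
  move_z : ∀ b ∈ A, ∀ c ∈ A, b ≠ 1 → b ≠ z → c ≠ 1 → c ≠ z →
    ∃ g ∈ centralizer ({z} : Set C), g * b * g⁻¹ = c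
  move_other : ∃ g ∈ normalizer (A : Set C), g * z * g⁻¹ ≠ z
  cls_conj : ∀ g x : C, cls x → cls (g * x * g⁻¹)
  cls_A : ∀ a ∈ A, a ≠ 1 → cls a
  in_A : ∀ x ∈ normalizer (A : Set C), orderOf x = 2 → cls x → x ∈ A
  other : ∀ x ∈ normalizer (A : Set C), orderOf x = 2 → ¬ cls x →
    Nat.card (centralizer ({x} : Set C)) ≤ 2 * Nat.card (centralizer (A : Set C))
  exists_other : ∃ x ∈ normalizer (A : Set C), orderOf x = 2 ∧ ¬ cls x

namespace Five

variable {z : C} {A Q : Subgroup C} {cls : C → Prop} (h : Five z A Q cls)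
include h

/-- The action of the normaliser on `A`. -/
noncomputable def act (_ : Five z A Q cls) :
    normalizer (A : Set C) →* MulAut A := A.normalizerMonoidHom

theorem act_ker : h.act.ker = (centralizer (A : Set C)).subgroupOf _ :=
  A.normalizerMonoidHom_ker

theorem cent_le_norm : centralizer (A : Set C) ≤ normalizer (A : Set C) := fun g hg =>
  h.cent_le z h.mem h.ne (mem_centralizer_singleton_iff.2 ((mem_centralizer_iff.1 hg) z h.mem).symm)

theorem card_ker : Nat.card h.act.ker = Nat.card (centralizer (A : Set C)) := by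
  rw [h.act_ker]
  exact Nat.card_congr (subgroupOfEquivOfLe h.cent_le_norm).toEquiv

theorem conj_mem {g a : C} (hg : g ∈ normalizer (A : Set C)) (ha : a ∈ A) : g * a * g⁻¹ ∈ A :=
  (mem_normalizer_iff.1 hg a).1 ha

theorem conj_ne {g a : C} (ha : a ≠ 1) : g * a * g⁻¹ ≠ 1 := fun e =>
  ha (by rwa [mul_inv_eq_one, mul_eq_left] at e)

theorem transitive {a : C} (ha : a ∈ A) (ha1 : a ≠ 1) :
    ∃ g ∈ normalizer (A : Set C), g * z * g⁻¹ = a := by
  by_cases haz : a = z
  · exact ⟨1, one_mem _, by rw [haz]; group⟩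
  · obtain ⟨g, hg, hgz⟩ := h.move_other
    obtain ⟨k, hk, hke⟩ := h.move_z _ (h.conj_mem hg h.mem) a ha (h.conj_ne h.ne) hgz ha1 haz
    refine ⟨k * g, mul_mem (h.cent_le z h.mem h.ne hk) hg, ?_⟩
    rw [← hke]; group

theorem card_norm :
    Nat.card (normalizer (A : Set C)) = 168 * Nat.card (centralizer (A : Set C)) := by
  classical
  set N := normalizer (A : Set C) with hN
  have hle : centralizer ({z} : Set C) ≤ N := h.cent_le z h.mem h.ne
  let f : N ⧸ (centralizer ({z} : Set C)).subgroupOf N → {a : A // a ≠ 1} :=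
    Quotient.lift
      (fun g : N => (⟨⟨(g : C) * z * (g : C)⁻¹, h.conj_mem g.2 h.mem⟩,
        fun e => h.conj_ne h.ne (congrArg Subtype.val e)⟩ : {a : A // a ≠ 1}))
      (fun a b hab => by
        have hab' := (QuotientGroup.leftRel_apply).1 hab
        rw [mem_subgroupOf, mem_centralizer_singleton_iff] at hab'
        simp only [coe_mul, InvMemClass.coe_inv] at hab'
        apply Subtype.ext; apply Subtype.ext
        calc (a : C) * z * (a : C)⁻¹
            = (a : C) * (z * ((a : C)⁻¹ * b)) * (b : C)⁻¹ := by group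
          _ = (a : C) * ((a : C)⁻¹ * b * z) * (b : C)⁻¹ := by rw [hab']
          _ = (b : C) * z * (b : C)⁻¹ := by group)
  have hf : Function.Bijective f := by
    refine ⟨?_, ?_⟩
    · rintro ⟨a⟩ ⟨b⟩ hab
      have e : (a : C) * z * (a : C)⁻¹ = (b : C) * z * (b : C)⁻¹ :=
        congrArg (fun t : {x : A // x ≠ 1} => ((t : A) : C)) hab
      refine Quotient.sound ((QuotientGroup.leftRel_apply).2 ?_)
      rw [mem_subgroupOf, mem_centralizer_singleton_iff]
      simp only [coe_mul, InvMemClass.coe_inv]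
      calc (a : C)⁻¹ * b * z = (a : C)⁻¹ * ((b : C) * z * (b : C)⁻¹) * b := by group
        _ = (a : C)⁻¹ * ((a : C) * z * (a : C)⁻¹) * b := by rw [e]
        _ = z * ((a : C)⁻¹ * b) := by group
    · rintro ⟨⟨a, ha⟩, ha1⟩
      obtain ⟨g, hg, hga⟩ := h.transitive ha (fun e => ha1 (Subtype.ext e))
      exact ⟨QuotientGroup.mk ⟨g, hg⟩, Subtype.ext (Subtype.ext hga)⟩
  have hidx : ((centralizer ({z} : Set C)).subgroupOf N).index = 7 := by
    rw [Subgroup.index, Nat.card_eq_of_bijective f hf]
    haveI := Fintype.ofFinite A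
    rw [Nat.card_eq_fintype_card, Fintype.card_subtype_compl, Fintype.card_subtype_eq,
      ← Nat.card_eq_fintype_card, h.card]
  have := ((centralizer ({z} : Set C)).subgroupOf N).card_mul_index
  rw [hidx, Nat.card_congr (subgroupOfEquivOfLe hle).toEquiv, h.card_z] at this
  omega

theorem card_range : Nat.card h.act.range = 168 := by
  have h1 := Subgroup.card_mul_index h.act.ker
  rw [h.act.ker.index_eq_card, Nat.card_congr (QuotientGroup.quotientKerEquivRange h.act).toEquiv,
    h.card_ker, h.card_norm] at h1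
  exact Nat.eq_of_mul_eq_mul_left Nat.card_pos (h1.trans (mul_comm _ _))

theorem coords : Nonempty (Additive A ≃+ (Fin 3 → ZMod 2)) :=
  exists_coords (fun a b => h.elem.1.is_comm.comm a b)
    (fun a => Subtype.ext (h.elem.2 a a.2)) h.card

theorem mem_cent_A {k : C} (hk : k ∈ centralizer (A : Set C)) :
    ∃ a ∈ A, ∃ q ∈ Q, k = a * q := by
  rw [h.cent_A] at hk
  haveI : Q.Normal := ⟨fun q hq g => by rwa [h.central q hq g, mul_inv_cancel_right]⟩
  obtain ⟨a, ha, q, hq, rfl⟩ := mem_sup_of_normal_right.1 hk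
  exact ⟨a, ha, q, hq, rfl⟩

theorem odd_cancel {q : C} (hq : q ∈ Q) (h2 : q ^ 2 = 1) : q = 1 := by
  have h1 : orderOf q ∣ Nat.card Q := Subgroup.orderOf_dvd_natCard (s := Q) hq
  have hc : (orderOf q).Coprime 2 :=
    Nat.Coprime.coprime_dvd_left h1 (Nat.coprime_two_right.2 h.odd)
  exact orderOf_eq_one_iff.1 (hc.eq_one_of_dvd (orderOf_dvd_of_pow_eq_one h2))

theorem mem_A_of_sq {k : C} (hk : k ∈ centralizer (A : Set C)) (h2 : k * k = 1) : k ∈ A := by
  obtain ⟨a, ha, q, hq, rfl⟩ := h.mem_cent_A hk
  have hq2 : q ^ 2 = 1 := by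
    have ha2 := h.elem.2 a ha
    rw [pow_two] at ha2
    calc q ^ 2 = (a * a) * (q * q) := by rw [ha2, one_mul, pow_two]
      _ = a * (a * q) * q := by group
      _ = a * (q * a) * q := by rw [h.central q hq a]
      _ = a * q * (a * q) := by group
      _ = 1 := h2
  rwa [h.odd_cancel hq hq2, mul_one]

/-- An involution of the normaliser which is not special has its centraliser there. -/
theorem other_le {x : C} (hx : x ∈ normalizer (A : Set C)) (hx2 : orderOf x = 2) (hcl : ¬ cls x) :
    centralizer ({x} : Set C) ≤ normalizer (A : Set C) := by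
  classical
  set N := normalizer (A : Set C) with hN
  obtain ⟨e⟩ := h.coords
  have hxx : x * x = 1 := by rw [← pow_two, ← hx2, pow_orderOf_eq_one]
  have hxK : x ∉ centralizer (A : Set C) := fun hk => by
    have hA := h.mem_A_of_sq hk hxx
    exact hcl (h.cls_A x hA (fun e => by simp [e] at hx2))
  set φ := h.act
  set xb : φ.range := φ.rangeRestrict ⟨x, hx⟩ with hxb
  have hxb2 : xb * xb = 1 := by
    rw [hxb, ← map_mul, show (⟨x, hx⟩ : N) * ⟨x, hx⟩ = 1 from Subtype.ext hxx, map_one]
  have hxb1 : xb ≠ 1 := fun e => hxK <| by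
    have : (⟨x, hx⟩ : N) ∈ φ.ker := congrArg Subtype.val e
    rwa [h.act_ker] at this
  have h8 := card_le_cent ((toMat e).comp φ.range.subtype)
    ((toMat_injective e).comp Subtype.val_injective) hxb2 hxb1
  rw [h.card_range] at h8
  set Y : Subgroup N := (centralizer ({xb} : Set φ.range)).comap φ.rangeRestrict with hY
  have hYcard : Nat.card Y =
      Nat.card (centralizer ({xb} : Set φ.range)) * Nat.card (centralizer (A : Set C)) := by
    have h1 : Y.index = (centralizer ({xb} : Set φ.range)).index :=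
      index_comap_of_surjective _ φ.rangeRestrict_surjective
    have h2 := Y.card_mul_index
    have h3 := (centralizer ({xb} : Set φ.range)).card_mul_index
    rw [h.card_range] at h3
    rw [h.card_norm, h1, ← h3] at h2
    refine Nat.eq_of_mul_eq_mul_right (Nat.pos_of_ne_zero ?_) (h2.trans ?_)
    · exact FiniteIndex.index_ne_zero
    · ring
  -- the elements of `A` commuting with `x`
  set CA := A ⊓ centralizer ({x} : Set C) with hCA
  have hCA4 : Nat.card CA ≤ 4 := by
    have hlt : CA < A := lt_of_le_of_ne inf_le_left fun e => hxK <| mem_centralizer_iff.2 fun a ha =>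
      (mem_centralizer_singleton_iff.1 (e.ge ha).2)
    obtain ⟨m, hm⟩ := card_dvd_of_le hlt.le
    rw [h.card] at hm
    rcases m with - | - | m
    · simp at hm
    · exact absurd (Subgroup.eq_of_le_of_card_ge hlt.le (by rw [h.card]; omega)) hlt.ne
    · nlinarith
  set S : Subgroup Y := (centralizer ({x} : Set C)).comap (N.subtype.comp Y.subtype) with hS
  have hcomm : ∀ g : Y, x * ((g : N) : C) * x * ((g : N) : C)⁻¹ ∈ centralizer (A : Set C) := by
    intro g
    have hg : φ.rangeRestrict (g : N) * xb = xb * φ.rangeRestrict (g : N) :=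
      mem_centralizer_singleton_iff.1 g.2
    have hk : (⟨x, hx⟩ * (g : N) * ⟨x, hx⟩ * (g : N)⁻¹ : N) ∈ φ.ker := by
      refine congrArg Subtype.val (?_ : φ.rangeRestrict (⟨x, hx⟩ * (g : N) * ⟨x, hx⟩ * (g : N)⁻¹) = 1)
      rw [map_mul, map_mul, map_mul, map_inv, ← hxb, mul_assoc xb, hg, ← mul_assoc xb, hxb2,
        one_mul, mul_inv_cancel]
    rwa [h.act_ker, mem_subgroupOf] at hk
  have hmemCA : ∀ g : Y, ((g : N) : C) * x * ((g : N) : C)⁻¹ * x ∈ CA := by
    intro g
    set y := ((g : N) : C)
    set k := x * (y * x * y⁻¹) with hk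
    have hkK : k ∈ centralizer (A : Set C) := by
      have := hcomm g
      rwa [hk, ← mul_assoc, ← mul_assoc]
    obtain ⟨a, ha, q, hq, hkaq⟩ := h.mem_cent_A hkK
    have hyy : (x * k) * (x * k) = 1 := by
      rw [hk, ← mul_assoc x x, hxx, one_mul, show y * x * y⁻¹ * (y * x * y⁻¹) = y * (x * x) * y⁻¹ by
        group, hxx, mul_one, mul_inv_cancel]
    have hxa : x * a * x ∈ A := by
      have := h.conj_mem hx ha
      rwa [inv_eq_of_mul_eq_one_right hxx] at this
    have hq1 : q = 1 := by
      have e1 : (x * a * x) * a * q ^ 2 = 1 := by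
        rw [hkaq] at hyy
        calc (x * a * x) * a * q ^ 2 = x * a * (x * a * q) * q := by rw [pow_two]; group
          _ = x * a * (q * (x * a)) * q := by rw [h.central q hq (x * a)]
          _ = x * (a * q) * (x * (a * q)) := by group
          _ = 1 := hyy
      have hq2A : q ^ 2 ∈ A := by
        have := mul_mem (inv_mem (mul_mem hxa ha)) (e1 ▸ one_mem A : x * a * x * a * q ^ 2 ∈ A)
        rwa [inv_mul_cancel_left] at this
      have h4 : (q ^ 2) ^ 2 = 1 := h.elem.2 _ hq2A
      exact h.odd_cancel hq (h.odd_cancel (pow_mem hq 2) h4)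
    rw [hq1, mul_one] at hkaq
    have hax : x * a * x = a := by
      rw [hkaq] at hyy
      have ha2 := h.elem.2 a ha
      rw [pow_two] at ha2
      calc x * a * x = x * a * x * (a * a) := by rw [ha2, mul_one]
        _ = x * a * (x * a) * a := by group
        _ = a := by rw [hyy, one_mul]
    have e2 : y * x * y⁻¹ * x = a := by
      rw [← hax, ← hkaq, hk, ← mul_assoc, ← mul_assoc, hxx, one_mul]
    rw [e2]
    refine ⟨ha, mem_centralizer_singleton_iff.2 ?_⟩
    calc a * x = (x * a * x) * x := by rw [hax]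
      _ = x * a := by rw [mul_assoc, hxx, mul_one]
  let f : Y ⧸ S → CA := fun q => ⟨_, hmemCA q.out⟩
  have hf : Function.Injective f := by
    intro q r e
    rw [← QuotientGroup.out_eq' q, ← QuotientGroup.out_eq' r]
    refine (QuotientGroup.eq).2 ?_
    have e' := mul_right_cancel (congrArg Subtype.val e :)
    simp only [hS, mem_comap, MonoidHom.comp_apply, map_mul, map_inv, coe_subtype,
      mem_centralizer_singleton_iff]
    set a := ((q.out : N) : C)
    set b := ((r.out : N) : C)
    calc a⁻¹ * b * x = a⁻¹ * (b * x * b⁻¹) * b := by group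
      _ = a⁻¹ * (a * x * a⁻¹) * b := by rw [e']
      _ = x * (a⁻¹ * b) := by group
  have hSle : Nat.card S ≤ Nat.card ↥(N ⊓ centralizer ({x} : Set C)) :=
    Nat.card_le_card_of_injective
      (fun s : S => (⟨(((s : Y) : N) : C), ((s : Y) : N).2, s.2⟩ : ↥(N ⊓ centralizer ({x} : Set C))))
      (fun s t e => Subtype.ext (Subtype.ext (Subtype.ext (congrArg Subtype.val e :))))
  have hYS : Nat.card Y ≤ 4 * Nat.card S := by
    rw [← S.card_mul_index, mul_comm 4]
    exact Nat.mul_le_mul_left _ ((Nat.card_le_card_of_injective f hf).trans hCA4)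
  have hge : 2 * Nat.card (centralizer (A : Set C)) ≤
      Nat.card ↥(N ⊓ centralizer ({x} : Set C)) := by
    rw [hYcard] at hYS
    nlinarith [hYS, hSle, h8, Nat.zero_le (Nat.card (centralizer (A : Set C)))]
  have heq : N ⊓ centralizer ({x} : Set C) = centralizer ({x} : Set C) :=
    Subgroup.eq_of_le_of_card_ge inf_le_right ((h.other x hx hx2 hcl).trans hge)
  exact fun g hg => (heq.ge hg).1

theorem cls_mem {s : C} (hs : orderOf s = 2) (hcl : cls s) : s ∈ A := by
  obtain ⟨t, ht, ht2, htc⟩ := h.exists_other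
  have hnc : ¬ IsConj t s := fun e => by
    obtain ⟨g, hg⟩ := isConj_iff.1 e
    exact htc (by
      have := h.cls_conj g⁻¹ s hcl
      rwa [← hg, inv_inv, ← mul_assoc, ← mul_assoc, inv_mul_cancel, one_mul, inv_mul_cancel_right]
        at this)
  obtain ⟨i, hi, hti, hsi, -⟩ := H24.CycInt.dihedral
    (by rw [← pow_two, ← ht2, pow_orderOf_eq_one]) (by rw [← pow_two, ← hs, pow_orderOf_eq_one]) hnc
  have hiN : i ∈ normalizer (A : Set C) :=
    h.other_le ht ht2 htc (mem_centralizer_singleton_iff.2 hti.eq.symm)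
  have hsN : centralizer ({i} : Set C) ≤ normalizer (A : Set C) := by
    by_cases hic : cls i
    · exact h.cent_le i (h.in_A i hiN hi hic) (fun e => by simp [e] at hi)
    · exact h.other_le hiN hi hic
  exact h.in_A s (hsN (mem_centralizer_singleton_iff.2 hsi.eq)) hs hcl

theorem normal : normalizer (A : Set C) = ⊤ := by
  rw [eq_top_iff]
  intro g _
  have key : ∀ g : C, ∀ a ∈ A, g * a * g⁻¹ ∈ A := fun g a ha => by
    by_cases ha1 : a = 1
    · simp [ha1]
    · refine h.cls_mem ?_ (h.cls_conj g a (h.cls_A a ha ha1))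
      exact orderOf_eq_prime (by rw [conj_pow, h.elem.2 a ha, mul_one, mul_inv_cancel])
        (h.conj_ne ha1)
  refine mem_normalizer_iff.2 fun a => ⟨key g a, fun ha => ?_⟩
  have := key g⁻¹ _ ha
  rwa [inv_inv, ← mul_assoc, ← mul_assoc, inv_mul_cancel, one_mul, inv_mul_cancel_right] at this

theorem card_eq : Nat.card C = 168 * Nat.card (centralizer (A : Set C)) := by
  rw [← h.card_norm, h.normal]
  exact (Nat.card_congr Subgroup.topEquiv.toEquiv).symm

end Five

end Cfsg.Agent.H54.JFour
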