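import Cfsg.Agent.H54.JFour.Five
import Cfsg.Prelude.Def_TwoFusion

/-!
Under `Five` with `Q` of order 5: the group is `Q × J` with `J` a non-split extension of an elementary
abelian group of order 8 by the linear group of degree 3 over two elements.
-/

set_option autoImplicit false

namespace Cfsg.Agent.H54.JFour

open Subgroup Matrix

/-- Over two elements every invertible matrix has determinant one. -/
theorem gl_equiv_sl :
    Nonempty (GL (Fin 3) (ZMod 2) ≃* SpecialLinearGroup (Fin 3) (ZMod 2)) := by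
  refine ⟨(MulEquiv.ofBijective SpecialLinearGroup.toGL ⟨SpecialLinearGroup.toGL_injective, ?_⟩).symm⟩
  intro A
  have hd : (A : Matrix (Fin 3) (Fin 3) (ZMod 2)).det = 1 :=
    (show ∀ u : ZMod 2, u ≠ 0 → u = 1 by decide) _ (A.isUnit.map Matrix.detMonoidHom).ne_zero
  exact ⟨⟨A.1, hd⟩, Units.ext rfl⟩

theorem card_gl : Nat.card (GL (Fin 3) (ZMod 2)) = 168 := by
  rw [Matrix.card_GL_field, ZMod.card, Fin.prod_univ_three]
  rfl

variable {C : Type*} [Group C] [Finite C] {z : C} {A Q : Subgroup C} {cls : C → Prop}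

namespace Five

variable (h : Five z A Q cls)
include h

theorem prod_inj {a a' q q' : C} (ha : a ∈ A) (ha' : a' ∈ A) (hq : q ∈ Q) (hq' : q' ∈ Q)
    (e : a * q = a' * q') : a = a' ∧ q = q' := by
  have e1 : a'⁻¹ * a = q' * q⁻¹ := by
    calc a'⁻¹ * a = a'⁻¹ * (a * q) * q⁻¹ := by group
      _ = q' * q⁻¹ := by rw [e]; group
  have h1 : a'⁻¹ * a ∈ Q := e1 ▸ mul_mem hq' (inv_mem hq)
  have h2 := h.odd_cancel h1 (h.elem.2 _ (mul_mem (inv_mem ha') ha))
  have h3 : a = a' := (inv_mul_eq_one.1 h2).symm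
  subst h3
  exact ⟨rfl, mul_left_cancel e⟩

theorem card_cent : Nat.card (centralizer (A : Set C)) = 8 * Nat.card Q := by
  let f : A × Q → centralizer (A : Set C) := fun x =>
    ⟨x.1 * x.2, by rw [h.cent_A]; exact mul_mem (mem_sup_left x.1.2) (mem_sup_right x.2.2)⟩
  have hf : Function.Bijective f := by
    refine ⟨fun x y e => ?_, fun k => ?_⟩
    · obtain ⟨e1, e2⟩ := h.prod_inj x.1.2 y.1.2 x.2.2 y.2.2 (congrArg Subtype.val e :)
      exact Prod.ext (Subtype.ext e1) (Subtype.ext e2)
    · obtain ⟨a, ha, q, hq, e⟩ := h.mem_cent_A k.2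
      exact ⟨(⟨a, ha⟩, ⟨q, hq⟩), Subtype.ext e.symm⟩
  rw [← Nat.card_eq_of_bijective f hf, Nat.card_prod, h.card]

theorem card_five (hQ : Nat.card Q = 5) : Nat.card C = 6720 := by
  rw [h.card_eq, h.card_cent, hQ]

/-- An automorphism group of `A` inside `C` has centraliser of an involution of index at most 21, and
the involution fixes at least four points of `A`. -/
theorem four_le {x : C} (hxx : x * x = 1) :
    4 ≤ Nat.card ↥(A ⊓ centralizer ({x} : Set C)) := by
  have hx : x⁻¹ = x := inv_eq_of_mul_eq_one_right hxx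
  have hmem : ∀ a ∈ A, x * a * x ∈ A := fun a ha => by
    have := h.conj_mem (g := x) (by rw [h.normal]; trivial) ha
    rwa [hx] at this
  have hA : ∀ a ∈ A, ∀ b ∈ A, a * b = b * a := fun a ha b hb =>
    congrArg Subtype.val (h.elem.1.is_comm.comm (⟨a, ha⟩ : A) ⟨b, hb⟩)
  let φ : A →* A :=
    { toFun := fun a => ⟨a * (x * a * x), mul_mem a.2 (hmem a a.2)⟩
      map_one' := Subtype.ext (by simp [hxx])
      map_mul' := fun a b => Subtype.ext <| by
        simp only [Subgroup.coe_mul]
        calc (a : C) * b * (x * (a * b) * x) = a * b * ((x * a * x) * (x * b * x)) := by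
              rw [show x * (a : C) * x * (x * b * x) = x * a * (x * x) * b * x by group, hxx, mul_one]
              group
          _ = a * (b * (x * a * x)) * (x * b * x) := by group
          _ = a * ((x * a * x) * b) * (x * b * x) := by rw [hA b b.2 _ (hmem a a.2)]
          _ = _ := by group }
  have hker : φ.ker = (A ⊓ centralizer ({x} : Set C)).subgroupOf A := by
    ext a
    simp only [MonoidHom.mem_ker, mem_subgroupOf, mem_inf, mem_centralizer_singleton_iff]
    have ha2 : (a : C) * a = 1 := by rw [← pow_two, h.elem.2 a a.2]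
    refine ⟨fun e => ⟨a.2, ?_⟩, fun e => Subtype.ext ?_⟩
    · have e' : (a : C) * (x * a * x) = 1 := congrArg Subtype.val e
      calc (a : C) * x = a * x * ((a : C) * (x * a * x)) := by rw [e', mul_one]
        _ = a * x * a * x * a * x := by group
        _ = (a * (x * a * x)) * (a * x) := by group
        _ = a * x := by rw [e', one_mul]
        _ = x * (x * a * x) := by
          rw [← mul_assoc, ← mul_assoc, hxx, one_mul]
        _ = x * a := by
          rw [show x * (a : C) * x = a from (eq_inv_of_mul_eq_one_right e').trans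
            (inv_eq_of_mul_eq_one_right ha2)]
    · show (a : C) * (x * a * x) = 1
      rw [← e.2, mul_assoc (a : C) x, hxx, mul_one, ha2]
  have hr : φ.range ≤ φ.ker := by
    rintro _ ⟨a, rfl⟩
    refine Subtype.ext ?_
    show (a : C) * (x * a * x) * (x * (a * (x * a * x)) * x) = 1
    calc (a : C) * (x * a * x) * (x * (a * (x * a * x)) * x)
        = a * x * a * (x * x) * a * x * a * (x * x) := by group
      _ = a * x * (a * a) * (x * a) := by rw [hxx]; group
      _ = a * (x * x) * a := by rw [← pow_two, h.elem.2 a a.2]; group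
      _ = 1 := by rw [hxx, mul_one, ← pow_two, h.elem.2 a a.2]
  have h1 := φ.ker.card_mul_index
  rw [φ.ker.index_eq_card, Nat.card_congr (QuotientGroup.quotientKerEquivRange φ).toEquiv,
    h.card] at h1
  have h2 : Nat.card φ.range ≤ Nat.card φ.ker := Nat.le_of_dvd Nat.card_pos (card_dvd_of_le hr)
  have h3 : Nat.card φ.ker ∣ 8 := ⟨_, h1.symm⟩
  rw [← Nat.card_congr (subgroupOfEquivOfLe (inf_le_left (a := A)
    (b := centralizer ({x} : Set C)))).toEquiv, ← hker]
  have h4 := Nat.le_of_dvd (by norm_num) h3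
  interval_cases hk : Nat.card φ.ker <;> omega

/-- `C` is `Q × J` with `J` a non-split extension of `A` by the linear group. -/
theorem exists_product (hQ : Nat.card Q = 5) :
    ∃ J : Subgroup C, IsInternalDirectProduct Q J ⊤ ∧
      ∃ (E : Subgroup J) (_ : E.Normal), IsElementaryAbelian 2 E ∧ Nat.card E = 8 ∧
        Nonempty (J ⧸ E ≃* SpecialLinearGroup (Fin 3) (ZMod 2)) ∧
        ∀ K : Subgroup J, ¬ E.IsComplement' K := by
  haveI : Q.Normal := ⟨fun q hq g => by rwa [h.central q hq g, mul_inv_cancel_right]⟩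
  have hidx : Q.index = 1344 := by
    have := Q.card_mul_index
    rw [h.card_five hQ, hQ] at this
    omega
  obtain ⟨J, hJ⟩ := exists_right_complement'_of_coprime (N := Q) (by rw [hQ, hidx]; decide)
  have hJcard : Nat.card J = 1344 := by
    have := hJ.card_mul_card
    rw [h.card_five hQ, hQ] at this
    omega
  have hbot : Q ⊓ J = ⊥ := hJ.disjoint.eq_bot
  have hAJ : A ≤ J := by
    intro a ha
    obtain ⟨⟨q, j⟩, e⟩ := hJ.2 a
    have e' : (q : C) * j = a := e
    have h2 : (q : C) ^ 2 * (j : C) ^ 2 = 1 := by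
      rw [← h.elem.2 a ha, ← e']
      exact ((show Commute (q : C) j from (h.central q q.2 j).symm).mul_pow 2).symm
    have h3 : (q : C) ^ 2 ∈ Q ⊓ J := ⟨pow_mem q.2 2, by
      rw [eq_inv_of_mul_eq_one_left h2]; exact J.inv_mem (J.pow_mem j.2 2)⟩
    rw [hbot, mem_bot] at h3
    rw [← e', h.odd_cancel q.2 h3, one_mul]
    exact j.2
  refine ⟨J, ⟨le_top, le_top, fun a ha b _ => (h.central a ha b).symm, hbot, hJ.sup_eq_top⟩, ?_⟩
  obtain ⟨e⟩ := h.coords
  obtain ⟨g⟩ := gl_equiv_sl
  set inc : J →* normalizer (A : Set C) :=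
    inclusion (by rw [h.normal]; exact le_top) with hinc
  set f : J →* GL (Fin 3) (ZMod 2) := ((toMat e).comp (h.act.comp inc)).toHomUnits with hfdef
  have hker : f.ker = A.subgroupOf J := by
    ext j
    have h1 : j ∈ f.ker ↔ (j : C) ∈ centralizer (A : Set C) := by
      rw [MonoidHom.mem_ker, hfdef, Units.ext_iff, MonoidHom.coe_toHomUnits, Units.val_one,
        MonoidHom.comp_apply, ← map_one (toMat e), (toMat_injective e).eq_iff, MonoidHom.comp_apply,
        ← MonoidHom.mem_ker, h.act_ker]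
      rfl
    rw [h1, mem_subgroupOf]
    refine ⟨fun hj => ?_, fun hj => by rw [h.cent_A]; exact mem_sup_left hj⟩
    obtain ⟨a, ha, q, hq, ej⟩ := h.mem_cent_A hj
    have : q ∈ Q ⊓ J := ⟨hq, by
      rw [show q = a⁻¹ * (j : C) by rw [ej]; group]; exact J.mul_mem (J.inv_mem (hAJ ha)) j.2⟩
    rw [hbot, mem_bot] at this
    rw [ej, this, mul_one]
    exact ha
  have hA8 : Nat.card (A.subgroupOf J) = 8 := by
    rw [Nat.card_congr (subgroupOfEquivOfLe hAJ).toEquiv, h.card]
  have hsurj : Function.Surjective f := by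
    rw [← MonoidHom.range_eq_top]
    refine eq_top_of_card_eq _ ?_
    have := f.ker.card_mul_index
    rw [f.ker.index_eq_card, Nat.card_congr (QuotientGroup.quotientKerEquivRange f).toEquiv, hker,
      hA8, hJcard] at this
    rw [card_gl]
    omega
  haveI hnor : (A.subgroupOf J).Normal := hker ▸ f.normal_ker
  refine ⟨A.subgroupOf J, hnor, ⟨?_, fun a ha => Subtype.ext (h.elem.2 _ (mem_subgroupOf.1 ha))⟩,
    hA8, ⟨((QuotientGroup.quotientMulEquivOfEq hker.symm).trans
      (QuotientGroup.quotientKerEquivOfSurjective f hsurj)).trans g⟩, fun K hK => ?_⟩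
  · exact ⟨⟨fun a b => Subtype.ext (Subtype.ext (show ((a : J) : C) * ((b : J) : C) = _ from
      congrArg Subtype.val
      (h.elem.1.is_comm.comm (⟨_, mem_subgroupOf.1 a.2⟩ : A) ⟨_, mem_subgroupOf.1 b.2⟩)))⟩⟩
  -- a complement would give an involution outside `A` with too large a centraliser
  have hKcard : Nat.card K = 168 := by
    have := hK.card_mul_card
    rw [hA8, hJcard] at this
    omega
  haveI : Fact (Nat.Prime 2) := ⟨Nat.prime_two⟩
  obtain ⟨x, hx⟩ := exists_prime_orderOf_dvd_card' (G := K) 2 (by rw [hKcard]; norm_num)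
  set y : C := ((x : J) : C) with hy
  have hy2 : orderOf y = 2 := by rw [hy, orderOf_coe, orderOf_coe, hx]
  have hyy : y * y = 1 := by rw [← pow_two, ← hy2, pow_orderOf_eq_one]
  have hx1 : x ≠ 1 := fun e => by rw [e, orderOf_one] at hx; omega
  have hyA : y ∉ A := fun hA' => hx1 (Subtype.ext (by
    have : (x : J) ∈ A.subgroupOf J ⊓ K := ⟨hA', x.2⟩
    rwa [hK.disjoint.eq_bot, mem_bot] at this))
  have hbound := h.other y (by rw [h.normal]; trivial) hy2 fun hc => hyA (h.cls_mem hy2 hc)
  rw [h.card_cent, hQ] at hbound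
  set fK : K →* Matrix (Fin 3) (Fin 3) (ZMod 2) :=
    (Units.coeHom _).comp (f.comp K.subtype) with hfK
  have hfKinj : Function.Injective fK := by
    rw [← MonoidHom.ker_eq_bot_iff, eq_bot_iff]
    intro k hk
    have hk' : (k : J) ∈ f.ker := Units.ext hk
    rw [hker] at hk'
    have : (k : J) ∈ A.subgroupOf J ⊓ K := ⟨hk', k.2⟩
    rw [hK.disjoint.eq_bot, mem_bot] at this
    exact Subtype.ext this
  have hxx : x * x = 1 := by rw [← pow_two, ← hx, pow_orderOf_eq_one]
  have h8 := card_le_cent fK hfKinj hxx hx1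
  rw [hKcard] at h8
  have h4 := h.four_le hyy
  set CK := centralizer ({x} : Set K)
  set CA := A ⊓ centralizer ({y} : Set C)
  let F : CA × CK × Q → centralizer ({y} : Set C) := fun t =>
    ⟨(t.1 : C) * (((t.2.1 : K) : J) : C) * t.2.2, by
      refine mul_mem (mul_mem t.1.2.2 ?_) ?_
      · refine mem_centralizer_singleton_iff.2 ?_
        exact congrArg (fun k : K => ((k : J) : C)) (mem_centralizer_singleton_iff.1 t.2.1.2)
      · exact mem_centralizer_singleton_iff.2 (h.central _ t.2.2.2 y).symm⟩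
  have hF : Function.Injective F := by
    rintro ⟨a, k, q⟩ ⟨a', k', q'⟩ ee
    have e1 : (a : C) * ((k : K) : J) * q = a' * ((k' : K) : J) * q' := congrArg Subtype.val ee
    have e2 : ((a' : C) * ((k' : K) : J))⁻¹ * (a * ((k : K) : J)) = q' * (q : C)⁻¹ := by
      rw [eq_mul_inv_iff_mul_eq, mul_assoc, e1]; group
    have hmemJ : ∀ (b : CA) (l : CK), (b : C) * ((l : K) : J) ∈ J := fun b l =>
      mul_mem (hAJ b.2.1) ((l : K) : J).2
    have h5 : (q' : C) * (q : C)⁻¹ ∈ Q ⊓ J :=
      ⟨Q.mul_mem q'.2 (Q.inv_mem q.2), e2 ▸ J.mul_mem (J.inv_mem (hmemJ a' k')) (hmemJ a k)⟩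
    rw [hbot, mem_bot] at h5
    have hqq : q' = q := Subtype.ext (mul_inv_eq_one.1 h5)
    subst hqq
    have e3 : (a : C) * ((k : K) : J) = a' * ((k' : K) : J) := mul_right_cancel e1
    have e4 : (⟨(a : C), hAJ a.2.1⟩ : J) * ((k : K) : J) = ⟨(a' : C), hAJ a'.2.1⟩ * ((k' : K) : J) :=
      Subtype.ext e3
    have e5 := hK.1 (a₁ := (⟨_, a.2.1⟩, (k : K))) (a₂ := (⟨_, a'.2.1⟩, (k' : K))) e4
    simp only [Prod.mk.injEq, Subtype.ext_iff] at e5
    obtain ⟨e5a, e5b⟩ := e5
    refine Prod.ext (Subtype.ext e5a) (Prod.ext (Subtype.ext (Subtype.ext (Subtype.ext e5b))) rfl)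
  have := Nat.card_le_card_of_injective F hF
  rw [Nat.card_prod, Nat.card_prod, hQ] at this
  nlinarith [this, hbound, h4, h8]

end Five

end Cfsg.Agent.H54.JFour
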