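import Cfsg.Agent.H54.JFour.PointFive
import Cfsg.Agent.H54.JFour.Struct

/-!
The centraliser of an element of order five satisfies `Five`, given the shape of the centralisers of
the involutions not conjugate to `z`.
-/

set_option autoImplicit false

namespace Cfsg.Agent.H54.JFour

open Subgroup Cfsg.Agent.H43.JFour Cfsg.Agent.H43.JFour.Ctx

universe u v

variable {G : Type u} [Group G] {A : Type v} [Group A]

/-- The centralisers of the involutions not conjugate to `z`: an elementary group of order `2 ^ 11`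
extended by a complement isomorphic to `A`. -/
def TData (c : Ctx G A) : Prop :=
  ∀ t : G, orderOf t = 2 → ¬ IsConj c.z t →
    ∃ V : Subgroup G, V ≤ centralizer ({t} : Set G) ∧ IsElementaryAbelian 2 V ∧
      Nat.card V = 2 ^ 11 ∧ ∃ (π : centralizer ({t} : Set G) →* A) (s : A →* centralizer ({t} : Set G)),
        (∀ a, π (s a) = a) ∧ π.ker = V.subgroupOf (centralizer ({t} : Set G))

theorem TData.conj {c : Ctx G A} (ht : TData c) (g : G) : TData (c.conj g) := fun t h2 hnc =>
  ht t h2 fun h => hnc ((isConj_iff.2 ⟨g⁻¹, by show g⁻¹ * (g * c.z * g⁻¹) * g⁻¹⁻¹ = c.z; group⟩ :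
    IsConj (g * c.z * g⁻¹) c.z).trans h)

theorem mem_comm {B : Subgroup G} (hB : IsElementaryAbelian 2 B) {a b : G} (ha : a ∈ B) (hb : b ∈ B) :
    a * b = b * a :=
  congrArg Subtype.val (hB.1.is_comm.comm (⟨a, ha⟩ : B) ⟨b, hb⟩)

/-- An elementary abelian group with an additional commuting involution. -/
theorem elem_sup {B : Subgroup G} (hB : IsElementaryAbelian 2 B) {a : G} (ha : a * a = 1)
    (hc : ∀ b ∈ B, a * b = b * a) : IsElementaryAbelian 2 (closure (insert a (B : Set G))) := by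
  have hcomm : ∀ x ∈ insert a (B : Set G), ∀ y ∈ insert a (B : Set G), x * y = y * x := by
    rintro x (rfl | hx) y (rfl | hy)
    exacts [rfl, hc y hy, (hc x hx).symm, mem_comm hB hx hy]
  have hC := Subgroup.isMulCommutative_closure hcomm
  refine ⟨hC, fun x hx => ?_⟩
  induction hx using closure_induction with
  | mem y hy =>
    rcases hy with rfl | hy
    exacts [by rw [pow_two, ha], hB.2 y hy]
  | one => exact one_pow 2
  | mul y w hy hw ihy ihw =>
    have h : y * w = w * y :=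
      congrArg Subtype.val (hC.is_comm.comm ⟨y, hy⟩ ⟨w, hw⟩)
    rw [(show Commute y w from h).mul_pow, ihy, ihw, one_mul]
  | inv y _ ihy => rw [inv_pow, ihy, inv_one]

variable [Finite G]

/-- An involution normalising an elementary abelian group fixes at least the square root of it. -/
theorem fix_sq {B : Subgroup G} (hB : IsElementaryAbelian 2 B) {a : G} (ha : a * a = 1)
    (hn : ∀ b ∈ B, a * b * a ∈ B) :
    Nat.card B ≤ Nat.card ↥(B ⊓ centralizer ({a} : Set G)) ^ 2 := by
  have hself : ∀ b ∈ B, b * b = 1 := fun b hb => by rw [← pow_two, hB.2 b hb]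
  have haa : ∀ b : G, a * (a * b * a) * a = b := fun b => by
    rw [show a * (a * b * a) * a = a * a * b * (a * a) by group, ha, one_mul, mul_one]
  let φ : B →* B :=
    { toFun := fun b => ⟨b * (a * b * a), mul_mem b.2 (hn b b.2)⟩
      map_one' := Subtype.ext (by simp [ha])
      map_mul' := fun x y => Subtype.ext <| by
        simp only [Subgroup.coe_mul]
        have e : a * ((x : G) * y) * a = a * x * a * (a * y * a) := by
          rw [show a * (x : G) * a * (a * y * a) = a * x * (a * a) * y * a by group, ha, mul_one]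
          group
        rw [e, show (x : G) * y * (a * x * a * (a * y * a)) = x * (y * (a * x * a)) * (a * y * a) by
          group, mem_comm hB y.2 (hn x x.2)]
        group }
  have hker : φ.ker = (B ⊓ centralizer ({a} : Set G)).subgroupOf B := by
    ext b
    simp only [MonoidHom.mem_ker, mem_subgroupOf, mem_inf, mem_centralizer_singleton_iff]
    refine ⟨fun e => ⟨b.2, ?_⟩, fun e => Subtype.ext ?_⟩
    · have e' : (b : G) * (a * b * a) = 1 := congrArg Subtype.val e
      have e2 : a * (b : G) * a = b :=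
        (eq_inv_of_mul_eq_one_right e').trans (inv_eq_of_mul_eq_one_right (hself b b.2))
      calc (b : G) * a = a * b * a * a := by rw [e2]
        _ = a * b := by rw [mul_assoc, ha, mul_one]
    · show (b : G) * (a * b * a) = 1
      rw [← e.2, mul_assoc (b : G) a, ha, mul_one, hself b b.2]
  have hr : φ.range ≤ φ.ker := by
    rintro _ ⟨x, rfl⟩
    refine Subtype.ext ?_
    show (x : G) * (a * x * a) * (a * ((x : G) * (a * x * a)) * a) = 1
    have e : a * ((x : G) * (a * x * a)) * a = a * x * a * x := by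
      rw [show a * ((x : G) * (a * x * a)) * a = a * x * a * x * (a * a) by group, ha, mul_one]
    rw [e, ← mul_assoc, mul_assoc (x : G), hself _ (hn x x.2), mul_one, hself x x.2]
  have h1 := φ.ker.card_eq_card_quotient_mul_card_subgroup
  rw [Nat.card_congr (QuotientGroup.quotientKerEquivRange φ).toEquiv] at h1
  have h2 : Nat.card φ.range ≤ Nat.card φ.ker := Nat.le_of_dvd Nat.card_pos (card_dvd_of_le hr)
  rw [← Nat.card_congr (subgroupOfEquivOfLe (inf_le_left (a := B)
    (b := centralizer ({a} : Set G)))).toEquiv, ← hker, h1, pow_two]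
  exact Nat.mul_le_mul_right _ h2

omit [Finite G] in
theorem card_cent_sub (C : Subgroup G) (x : C) :
    Nat.card (centralizer ({x} : Set C)) = Nat.card ↥(centralizer ({(x : G)} : Set G) ⊓ C) := by
  refine Nat.card_congr
    { toFun := fun g => ⟨(g : C), mem_cent_one.2 (congrArg Subtype.val
        (mem_centralizer_singleton_iff.1 g.2) :), (g : C).2⟩
      invFun := fun g => ⟨⟨g, g.2.2⟩, mem_centralizer_singleton_iff.2
        (Subtype.ext (mem_cent_one.1 g.2.1))⟩
      left_inv := fun g => rfl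
      right_inv := fun g => rfl }

variable {M : Subgroup A} {c : Ctx G A} {Q : Subgroup G}

namespace Loc

variable (hl : Loc c M Q)
include hl

theorem card_cent_F {x : G} (hx : x ∈ c.E ⊓ centralizer (Q : Set G)) (hxz : x ∉ zpowers c.z) :
    Nat.card ↥(c.E ⊓ centralizer (Q : Set G) ⊓ centralizer ({x} : Set G)) = 16 := by
  have h := card_two_mul_cent hl.ok (inf_le_left : c.E ⊓ centralizer (Q : Set G) ≤ c.E) hx.1 (by
    by_contra hall
    push Not at hall
    exact hxz (hl.ok.mem_zp.2 (hl.nondeg hx hall)))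
  rw [hl.card_F] at h
  omega

theorem card_cent_pair {x y : G} (hx : x ∈ c.E ⊓ centralizer (Q : Set G))
    (hy : y ∈ c.E ⊓ centralizer (Q : Set G)) (hxz : x ∉ zpowers c.z) (hyz : y ∉ zpowers c.z)
    (hxy : x * y ∉ zpowers c.z) :
    Nat.card ↥(c.E ⊓ centralizer (Q : Set G) ⊓ centralizer ({x} : Set G) ⊓
      centralizer ({y} : Set G)) = 8 := by
  set F := c.E ⊓ centralizer (Q : Set G)
  set S := F ⊓ centralizer ({x} : Set G) with hS
  have h := card_two_mul_cent hl.ok (inf_le_left.trans inf_le_left : S ≤ c.E) hy.1 (by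
    by_contra hall
    push Not at hall
    have heq : S = F ⊓ centralizer ({y} : Set G) := Subgroup.eq_of_le_of_card_ge
      (fun v hv => ⟨hv.1, mem_cent_one.2 (hall v hv)⟩)
      (by rw [hl.card_cent_F hy hyz, hS, hl.card_cent_F hx hxz])
    refine hxy (hl.ok.mem_zp.2 (hl.nondeg (mul_mem hx hy) fun f hf => ?_))
    by_cases hfx : f * x = x * f
    · rw [← mul_assoc, hfx, mul_assoc, hall f ⟨hf, mem_cent_one.2 hfx⟩, mul_assoc]
    · have hfy : ¬ f * y = y * f := fun e => by
        have : f ∈ S := by rw [heq]; exact ⟨hf, mem_cent_one.2 e⟩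
        exact hfx (mem_cent_one.1 this.2)
      calc f * (x * y) = f * x * y := by group
        _ = c.z * (x * (f * y)) := by rw [(hl.ok.swap hf.1 hx.1).resolve_left hfx]; group
        _ = c.z * x * c.z * (y * f) := by rw [(hl.ok.swap hf.1 hy.1).resolve_left hfy]; group
        _ = x * y * f := by rw [hl.ok.z_comm hx.1, mul_assoc x, hl.ok.z_sq]; group)
  have h16 : Nat.card S = 16 := hl.card_cent_F hx hxz
  exact Nat.eq_of_mul_eq_mul_right two_pos (h.trans h16)

theorem elem_F_le {B : Subgroup G} (hB : IsElementaryAbelian 2 B)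
    (hBF : B ≤ c.E ⊓ centralizer (Q : Set G)) : Nat.card B ≤ 8 := by
  by_contra hlt
  obtain ⟨x, hx, hxz⟩ : ∃ x ∈ B, x ∉ zpowers c.z := by
    by_contra hall
    push Not at hall
    have := Nat.le_of_dvd Nat.card_pos (card_dvd_of_le (hall : B ≤ zpowers c.z))
    rw [Nat.card_zpowers, hl.ok.ord] at this
    omega
  obtain ⟨y, hy, hyz⟩ : ∃ y ∈ B, y ∉ zpowers c.z ∧ x * y ∉ zpowers c.z := by
    by_contra hall
    push Not at hall
    have hsub : (B : Set G) ⊆ ({1, c.z, x⁻¹, x⁻¹ * c.z} : Set G) := fun y hy => by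
      by_cases hyz : y ∈ zpowers c.z
      · rcases hl.ok.mem_zp.1 hyz with rfl | rfl <;> simp
      · rcases hl.ok.mem_zp.1 (hall y hy hyz) with e | e
        · simp [eq_inv_of_mul_eq_one_right e]
        · have : y = x⁻¹ * c.z := by rw [← e]; group
          simp [this]
    have h := Set.ncard_le_ncard hsub (Set.toFinite _)
    rw [← Nat.card_coe_set_eq] at h
    simp only [SetLike.coe_sort_coe] at h
    have e1 := Set.ncard_insert_le (1 : G) ({c.z, x⁻¹, x⁻¹ * c.z} : Set G)
    have e2 := Set.ncard_insert_le c.z ({x⁻¹, x⁻¹ * c.z} : Set G)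
    have e3 := Set.ncard_insert_le x⁻¹ ({x⁻¹ * c.z} : Set G)
    rw [Set.ncard_singleton] at e3
    omega
  have h8 := hl.card_cent_pair (hBF hx) (hBF hy) hxz hyz.1 hyz.2
  have hle : B ≤ c.E ⊓ centralizer (Q : Set G) ⊓ centralizer ({x} : Set G) ⊓
      centralizer ({y} : Set G) := fun b hb =>
    ⟨⟨hBF hb, mem_cent_one.2 (mem_comm hB hb hx)⟩, mem_cent_one.2 (mem_comm hB hb hy)⟩
  exact hlt ((Nat.le_of_dvd Nat.card_pos (card_dvd_of_le hle)).trans h8.le)

/-- Two-groups in `C_H(Q)` have an image of order at most two, and their kernel lies in `E`. -/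
theorem two_image {B : Subgroup G} (hBK : B ≤ c.H ⊓ centralizer (Q : Set G))
    (hB : ∀ b ∈ B, b * b = 1) :
    Nat.card B ≤ 2 * Nat.card ↥(B ⊓ c.E) := by
  haveI := hl.data.finite
  let f : B →* A := hl.ok.prHom.comp (inclusion (hBK.trans inf_le_left))
  have hr2 : IsPGroup 2 f.range := by
    rintro ⟨_, b, rfl⟩
    refine ⟨1, Subtype.ext ?_⟩
    show f b ^ 2 ^ 1 = 1
    rw [← map_pow, pow_one, pow_two, show b * b = 1 from Subtype.ext (hB b b.2), map_one]
  haveI : Fact (Nat.Prime 2) := ⟨Nat.prime_two⟩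
  obtain ⟨n, hn⟩ := IsPGroup.iff_card.1 hr2
  have hle : f.range ≤ centralizer ({c.pr hl.gen} : Set A) := by
    rintro _ ⟨b, rfl⟩
    exact mem_cent_one.2 (hl.pr_comm (hBK b.2).1 (hBK b.2).2)
  have hdvd := card_dvd_of_le hle
  rw [hl.facts.cent _ hl.pr_ord, hn] at hdvd
  have hr : Nat.card f.range ≤ 2 := by
    rw [hn]
    by_contra hlt
    rcases n with - | - | n
    · simp at hlt
    · simp at hlt
    · have : 4 ∣ 10 := (Dvd.intro_left (2 ^ n) (by ring)).trans hdvd
      omega
  have hk : Nat.card f.ker ≤ Nat.card ↥(B ⊓ c.E) := by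
    refine Nat.card_le_card_of_injective (fun b : f.ker => (⟨((b : B) : G), (b : B).2,
      hl.ok.mem_E_of_pow ((hl.ok.pr_ker _ (hBK (b : B).2).1).1 (MonoidHom.mem_ker.1 b.2)) (k := 1)
        (by rw [pow_one, pow_two]; exact hB _ (b : B).2)⟩ : ↥(B ⊓ c.E))) ?_
    exact fun a b e => Subtype.ext (Subtype.ext (congrArg Subtype.val e :))
  rw [f.ker.card_eq_card_quotient_mul_card_subgroup,
    Nat.card_congr (QuotientGroup.quotientKerEquivRange f).toEquiv]
  exact Nat.mul_le_mul hr hk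

theorem elem_K_le {B : Subgroup G} (hB : IsElementaryAbelian 2 B)
    (hBK : B ≤ c.H ⊓ centralizer (Q : Set G)) : Nat.card B ≤ 16 := by
  have h1 := hl.two_image hBK fun b hb => by rw [← pow_two, hB.2 b hb]
  have h2 := hl.elem_F_le (B := B ⊓ c.E)
    ⟨⟨⟨fun a b => Subtype.ext (mem_comm hB a.2.1 b.2.1)⟩⟩, fun a ha => hB.2 a ha.1⟩
    fun a ha => ⟨ha.2, (hBK ha.1).2⟩
  omega

theorem eight_conj_fix {g : G} (hg : g ∈ c.H) (hq : g ∈ centralizer (Q : Set G)) {x : G}
    (hx : x ∈ eight c Q) : g * x * g⁻¹ ∈ eight c Q := by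
  rcases hl.mem_eight.1 hx with rfl | rfl | h
  · simp
  · rw [← c.mem_H.1 hg, mul_inv_cancel_right]; exact hl.mem_eight.2 (Or.inr (Or.inl rfl))
  · exact hl.six_mem_eight (hl.six_conj hg hq h)

/-- Elements of `C(Q)` centralising a non-trivial element of the group of order eight normalise it. -/
theorem eight_conj {g a : G} (ha : a ∈ eight c Q) (ha1 : a ≠ 1) (hga : g * a = a * g)
    (hq : g ∈ centralizer (Q : Set G)) {x : G} (hx : x ∈ eight c Q) : g * x * g⁻¹ ∈ eight c Q := by
  obtain ⟨k, hk, hl', heq⟩ := hl.eight_at ha ha1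
  rw [← heq] at hx ⊢
  exact hl'.eight_conj_fix (by rw [Ctx.mem_H, hk, hga]) hq hx

/-- `C_H(Q)` moves the six conjugates transitively. -/
theorem six_move {a b : G} (ha : a ∈ six c Q) (hb : b ∈ six c Q) :
    ∃ g ∈ c.H ⊓ centralizer (Q : Set G), g * a * g⁻¹ = b := by
  obtain ⟨p, hp, e⟩ := hl.six_orbit ha hb
  rcases e with e | e
  · exact ⟨p, ⟨hl.ok.P_le hp, hl.P_cent hp⟩, e.symm⟩
  · have hw := hl.six_conj (hl.ok.P_le hp) (hl.P_cent hp) ha
    obtain ⟨f, hf, hfne⟩ : ∃ f ∈ c.E ⊓ centralizer (Q : Set G),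
        f * (p * a * p⁻¹) ≠ p * a * p⁻¹ * f := by
      by_contra hall
      push Not at hall
      rcases hl.nondeg (x := p * a * p⁻¹) ⟨hw.1.1, hw.2⟩ hall with h | h
      exacts [isConj_ne hl.ok hw.1.2.2 h, hw.1.2.1 h]
    refine ⟨f * p, mul_mem ⟨hl.ok.le_H hf.1, hf.2⟩ ⟨hl.ok.P_le hp, hl.P_cent hp⟩, ?_⟩
    rw [e, show f * p * a * (f * p)⁻¹ = f * (p * a * p⁻¹) * f⁻¹ by group,
      (hl.ok.swap hf.1 hw.1.1).resolve_left hfne, ← hl.ok.z_comm hw.1.1]
    group

/-- The centraliser of the group of order eight in `C(Q)`. -/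
theorem cent_eight {g : G} (hq : g ∈ centralizer (Q : Set G))
    (hg : ∀ a ∈ eight c Q, g * a = a * g) : ∃ a ∈ eight c Q, ∃ r ∈ Q, g = a * r := by
  have hgH : g ∈ c.H := c.mem_H.2 (hg c.z (hl.mem_eight.2 (Or.inr (Or.inl rfl)))).symm
  obtain ⟨e, he⟩ := hl.exists_six
  obtain ⟨p, hp, hp1⟩ : ∃ p ∈ c.P, p ≠ 1 := by
    refine (Subgroup.bot_or_exists_ne_one c.P).resolve_left fun h => ?_
    have := hl.ok.cardP; rw [h, Subgroup.card_bot] at this; omega
  have hw := hl.six_conj (hl.ok.P_le hp) (hl.P_cent hp) he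
  set w := p * e * p⁻¹ with hwdef
  have hge := hg e (hl.six_mem_eight he)
  have hgw := hg w (hl.six_mem_eight hw)
  have hM : c.pr g ∈ M := by
    by_contra hM
    obtain ⟨e1, he1, n, hn, hnC, rfl⟩ := hl.ok.outer_split hl.data hgH hM
    have hinv := hl.ok.inverts hn hnC hp
    have hn_e : n * e * n⁻¹ = e1⁻¹ * e * e1 := by
      calc n * e * n⁻¹ = e1⁻¹ * (e1 * n * e) * n⁻¹ := by group
        _ = e1⁻¹ * e * e1 := by rw [hge]; group
    set r := p⁻¹ * e * p with hrdef
    have hrE : r ∈ c.E := by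
      have := hl.ok.conjE (inv_mem (hl.ok.P_le hp)) he.1.1
      rwa [inv_inv] at this
    have hzp : c.z * p = p * c.z := c.mem_H.1 (hl.ok.P_le hp)
    have h1 : n * w * n⁻¹ = r ∨ n * w * n⁻¹ = r * c.z := by
      rw [hwdef, show n * (p * e * p⁻¹) * n⁻¹ = n * p * n⁻¹ * (n * e * n⁻¹) * (n * p * n⁻¹)⁻¹ by
        group, hinv, hn_e, inv_inv]
      rcases hl.ok.swap he.1.1 he1 with h | h
      · exact Or.inl (by rw [hrdef, mul_assoc e1⁻¹, h]; group)
      · refine Or.inr ?_
        rw [mul_assoc e1⁻¹, h]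
        calc p⁻¹ * (e1⁻¹ * (c.z * (e1 * e))) * p = p⁻¹ * (e1⁻¹ * c.z) * e1 * e * p := by group
          _ = p⁻¹ * c.z * e * p := by
            rw [show e1⁻¹ * c.z = c.z * e1⁻¹ from (hl.ok.z_comm (inv_mem he1)).symm]; group
          _ = p⁻¹ * e * (c.z * p) := by rw [mul_assoc p⁻¹, hl.ok.z_comm he.1.1]; group
          _ = r * c.z := by rw [hzp, ← mul_assoc]
    have h2 : w = r ∨ w = r * c.z := by
      have hw' : w = e1 * (n * w * n⁻¹) * e1⁻¹ := by
        calc w = (e1 * n * w) * (e1 * n)⁻¹ := by rw [hgw]; group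
          _ = _ := by group
      rcases h1 with h | h <;> rw [h] at hw'
      · rcases hl.ok.swap he1 hrE with h' | h'
        · exact Or.inl (by rw [hw', h']; group)
        · refine Or.inr ?_
          rw [hw', h', ← hl.ok.z_comm hrE]; group
      · rcases hl.ok.swap he1 hrE with h' | h'
        · refine Or.inr ?_
          calc w = e1 * r * (c.z * e1⁻¹) := by rw [hw']; group
            _ = r * c.z := by rw [hl.ok.z_comm (inv_mem he1), h']; group
        · refine Or.inl ?_
          calc w = e1 * r * (c.z * e1⁻¹) := by rw [hw']; group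
            _ = c.z * (r * c.z) := by rw [hl.ok.z_comm (inv_mem he1), h']; group
            _ = r := by rw [← hl.ok.z_comm hrE, ← mul_assoc, hl.ok.z_sq, one_mul]
    have hne2 : p * p ≠ 1 := fun e => by
      have h3 : p ^ 3 = 1 :=
        orderOf_dvd_iff_pow_eq_one.1 (hl.ok.cardP ▸ Subgroup.orderOf_dvd_natCard c.P hp)
      rw [pow_succ, pow_two, e, one_mul] at h3
      exact hp1 h3
    have hm := hl.six_moved he (mul_mem hp hp) hne2
    rcases h2 with h | h
    · refine hm.1 ?_
      rw [show p * p * e * (p * p)⁻¹ = p * w * p⁻¹ by rw [hwdef]; group, h]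
      show p * (p⁻¹ * e * p) * p⁻¹ = e
      group
    · refine hm.2 ?_
      rw [show p * p * e * (p * p)⁻¹ = p * w * p⁻¹ by rw [hwdef]; group, h]
      show p * (p⁻¹ * e * p * c.z) * p⁻¹ = e * c.z
      calc _ = e * (p * c.z) * p⁻¹ := by group
        _ = e * c.z := by rw [← hzp]; group
  obtain ⟨f, hf, p', hp', r, hr, rfl⟩ := hl.inner_split' hgH hq hM
  have hr_comm : ∀ a ∈ eight c Q, r * a = a * r := fun a ha =>
    mem_centralizer_iff.1 (hl.eight_le_cent ha) r hr
  have hfp : ∀ a ∈ eight c Q, f * p' * a = a * (f * p') := fun a ha => by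
    calc f * p' * a = f * p' * a * r * r⁻¹ := by group
      _ = f * p' * r * a * r⁻¹ := by rw [mul_assoc (f * p') a r, ← hr_comm a ha]; group
      _ = a * (f * p') := by rw [hg a ha]; group
  have hp'1 : p' = 1 := by
    by_contra hne
    have h1 := hfp e (hl.six_mem_eight he)
    have hm := hl.six_moved he hp' hne
    have hpe : p' * e * p'⁻¹ = f⁻¹ * e * f := by
      calc p' * e * p'⁻¹ = f⁻¹ * (f * p' * e) * p'⁻¹ := by group
        _ = f⁻¹ * e * f := by rw [h1]; group
    rcases hl.ok.swap he.1.1 hf.1 with h | h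
    · exact hm.1 (by rw [hpe, mul_assoc, h]; group)
    · refine hm.2 ?_
      rw [hpe, mul_assoc, h]
      calc f⁻¹ * (c.z * (f * e)) = (f⁻¹ * c.z) * f * e := by group
        _ = e * c.z := by
          rw [show f⁻¹ * c.z = c.z * f⁻¹ from (hl.ok.z_comm (inv_mem hf.1)).symm,
            ← hl.ok.z_comm he.1.1]
          group
  subst hp'1
  simp only [mul_one] at hfp ⊢
  refine ⟨f, ?_, r, hr, rfl⟩
  have hne : ∀ a ∈ six c Q, a ∉ zpowers c.z := fun a ha h =>
    (hl.ok.mem_zp.1 h).elim (isConj_ne hl.ok ha.1.2.2) ha.1.2.1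
  have hew : e * w ∉ zpowers c.z := by
    have hr6 := hl.six_conj (hl.ok.P_le hp) (hl.P_cent hp) hw
    rcases hl.orbit_prod he hp hp1 with h | h <;> rw [h]
    exacts [hne _ hr6, hne _ (hl.six_flip hr6)]
  have h8 := hl.card_cent_pair ⟨he.1.1, he.2⟩ ⟨hw.1.1, hw.2⟩ (hne e he) (hne w hw) hew
  have hle : eight c Q ≤ c.E ⊓ centralizer (Q : Set G) ⊓ centralizer ({e} : Set G) ⊓
      centralizer ({w} : Set G) := fun a ha =>
    ⟨⟨⟨hl.eight_le_E ha, hl.eight_le_cent ha⟩,
      mem_cent_one.2 (mem_comm hl.eight_elem ha (hl.six_mem_eight he))⟩,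
      mem_cent_one.2 (mem_comm hl.eight_elem ha (hl.six_mem_eight hw))⟩
  rw [Subgroup.eq_of_le_of_card_ge hle (by rw [h8, hl.card_eight])]
  exact ⟨⟨hf, mem_cent_one.2 (hfp e (hl.six_mem_eight he))⟩,
    mem_cent_one.2 (hfp w (hl.six_mem_eight hw))⟩

theorem conj_eight_self {x : G} (hxx : x * x = 1) (hn : ∀ a ∈ eight c Q, x * a * x⁻¹ ∈ eight c Q) :
    4 ≤ Nat.card ↥(eight c Q ⊓ centralizer ({x} : Set G)) := by
  have h := fix_sq hl.eight_elem hxx fun a ha => by
    have := hn a ha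
    rwa [inv_eq_of_mul_eq_one_right hxx] at this
  rw [hl.card_eight] at h
  have hd : Nat.card ↥(eight c Q ⊓ centralizer ({x} : Set G)) ∣ 8 :=
    hl.card_eight ▸ card_dvd_of_le inf_le_left
  by_contra hlt
  obtain ⟨i, -, hi⟩ := (Nat.dvd_prime_pow Nat.prime_two).1 (hd.trans (by norm_num : 8 ∣ 2 ^ 3))
  rw [hi] at h hlt
  rcases i with - | - | i
  · norm_num at h
  · norm_num at h
  · exact hlt (by rw [pow_succ, pow_succ]; have := Nat.one_le_two_pow (n := i); omega)

/-- A conjugate of `z` in `C(Q)` normalising the group of order eight lies in it. -/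
theorem mem_eight_of_conj {x : G} (hq : x ∈ centralizer (Q : Set G)) (hx : IsConj c.z x)
    (hn : ∀ a ∈ eight c Q, x * a * x⁻¹ ∈ eight c Q) : x ∈ eight c Q := by
  by_contra hxA
  obtain ⟨k, hk, hl'⟩ := hl.toBase.exists_loc_at hx hq
  have hxx : x * x = 1 := by rw [← pow_two, ← isConj_ord hl.ok hx, pow_orderOf_eq_one]
  set B := eight c Q ⊓ centralizer ({x} : Set G) with hB
  have h4 : 4 ≤ Nat.card B := hl.conj_eight_self hxx hn
  have hBK : B ≤ (c.conj k).H ⊓ centralizer (Q : Set G) := fun a ha =>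
    ⟨(c.conj k).mem_H.2 (by rw [hk]; exact (mem_cent_one.1 ha.2).symm), hl.eight_le_cent ha.1⟩
  have h2 := hl'.two_image hBK fun a ha => by rw [← pow_two, hl.eight_elem.2 a ha.1]
  obtain ⟨v, hv, hv1⟩ : ∃ v ∈ B ⊓ (c.conj k).E, v ≠ 1 := by
    refine (Subgroup.bot_or_exists_ne_one (B ⊓ (c.conj k).E)).resolve_left fun h => ?_
    rw [h, Subgroup.card_bot] at h2
    omega
  obtain ⟨g, hg, hlg, heq⟩ := hl.eight_at hv.1.1 hv1
  have hv6 : v ∈ six (c.conj k) Q := by
    refine ⟨⟨hv.2, fun e => hxA ?_, ?_⟩, hl.eight_le_cent hv.1.1⟩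
    · rw [← hk, ← e]; exact hv.1.1
    · have h1 : IsConj c.z v := isConj_iff.2 ⟨g, hg⟩
      exact (show IsConj c.z (c.conj k).z by rw [hk]; exact hx).symm.trans h1
  obtain ⟨j, hj, hlj⟩ := hl'.toBase.exists_loc_at hv6.1.2.2 hv6.2
  have he1 := hl'.eight_eq hv6 hj hlj
  have hE : ((c.conj k).conj j).E = (c.conj g).E := by
    rw [show (c.conj k).conj j = (c.conj k).conj j from rfl]
    have hh : ((c.conj k).conj j).E = (c.conj (j * k)).E := by
      show (c.E.map _).map _ = c.E.map _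
      rw [Subgroup.map_map]; congr 1; ext y; simp [mul_assoc]
    rw [hh]
    refine E_unique hl.ok ?_
    show j * k * c.z * (j * k)⁻¹ = (c.conj g).z
    rw [hg, ← hj]
    show j * k * c.z * (j * k)⁻¹ = j * (k * c.z * k⁻¹) * j⁻¹
    group
  have hsix : six ((c.conj k).conj j) Q = six (c.conj g) Q := by
    ext y
    show (y ∈ ((c.conj k).conj j).E ∧ y ≠ ((c.conj k).conj j).z ∧ IsConj ((c.conj k).conj j).z y) ∧ _ ↔
      (y ∈ (c.conj g).E ∧ y ≠ (c.conj g).z ∧ IsConj (c.conj g).z y) ∧ _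
    rw [hE, hj, hg]
  apply hxA
  rw [← heq, show eight (c.conj g) Q = eight ((c.conj k).conj j) Q by
    unfold eight; rw [hsix, hj, hg], he1]
  exact hl'.mem_eight.2 (Or.inr (Or.inl hk.symm))

/-- An involution not conjugate to `z` normalising the group of order eight has a small centraliser
in `C(Q)`. -/
theorem other_bound (ht : TData c) {x : G} (hq : x ∈ centralizer (Q : Set G)) (hx : orderOf x = 2)
    (hnc : ¬ IsConj c.z x) (hn : ∀ a ∈ eight c Q, x * a * x⁻¹ ∈ eight c Q) :
    Nat.card ↥(centralizer ({x} : Set G) ⊓ centralizer (Q : Set G)) ≤ 80 := by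
  classical
  haveI := hl.data.finite
  haveI : Fact (Nat.Prime 5) := ⟨by norm_num⟩
  have hxx : x * x = 1 := by rw [← pow_two, ← hx, pow_orderOf_eq_one]
  set N := centralizer ({x} : Set G) with hN
  obtain ⟨V, hVle, hVel, hVcard, π, -, -, hπ⟩ := ht x hx hnc
  have hgenN : hl.gen ∈ N := mem_cent_one.2 (mem_centralizer_iff.1 hq _ hl.gen_mem)
  have hmemV : ∀ g : N, g ∈ π.ker ↔ (g : G) ∈ V := fun g => by rw [hπ, mem_subgroupOf]
  have hVn : ∀ g ∈ N, ∀ v ∈ V, g * v * g⁻¹ ∈ V := fun g hg v hv => by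
    have h1 := (hmemV ⟨v, hVle hv⟩).2 hv
    exact (hmemV (⟨g, hg⟩ * ⟨v, hVle hv⟩ * ⟨g, hg⟩⁻¹)).1 (π.normal_ker.conj_mem _ h1 ⟨g, hg⟩)
  set W := V ⊓ centralizer (Q : Set G) with hW
  set q := hl.gen with hqdef
  have hWd : Nat.card W = 8 ∨ 128 ≤ Nat.card W := by
    let f : V → V := fun v => ⟨q * v * q⁻¹, hVn q hgenN v v.2⟩
    have h5 := card_mod_fixed (p := 5) f (funext fun a => Subtype.ext (by
      show q * (q * (q * (q * (q * (a : G) * q⁻¹) * q⁻¹) * q⁻¹) * q⁻¹) * q⁻¹ = (a : G)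
      calc _ = q ^ 5 * (a : G) * (q ^ 5)⁻¹ := by simp [pow_succ, mul_assoc]
        _ = (a : G) := by rw [show q ^ 5 = 1 from hl.gen_pow]; simp))
    have hfix : Nat.card {a : V // f a = a} = Nat.card W := by
      refine Nat.card_congr
        { toFun := fun a => ⟨(a : V), a.1.2, ?_⟩
          invFun := fun a => ⟨⟨a, a.2.1⟩, Subtype.ext ?_⟩
          left_inv := fun a => rfl
          right_inv := fun a => rfl }
      · rw [← hl.cent_gen]
        exact mem_cent_one.2 (mul_inv_eq_iff_eq_mul.1 (congrArg Subtype.val a.2 :)).symm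
      · have h' := a.2.2; rw [← hl.cent_gen] at h'
        show q * (a : G) * q⁻¹ = a
        rw [← mem_cent_one.1 h', mul_inv_cancel_right]
    rw [hVcard, hfix] at h5
    have hd : Nat.card W ∣ 2 ^ 11 := hVcard ▸ card_dvd_of_le inf_le_left
    obtain ⟨i, hi, hWi⟩ := (Nat.dvd_prime_pow Nat.prime_two).1 hd
    rw [hWi] at h5 ⊢
    interval_cases i <;> omega
  have hW8 : Nat.card W = 8 := by
    refine hWd.resolve_right fun h128 => ?_
    obtain ⟨a, ha, ha1⟩ : ∃ a ∈ eight c Q ⊓ centralizer ({x} : Set G), a ≠ 1 := by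
      refine (Subgroup.bot_or_exists_ne_one _).resolve_left fun h => ?_
      have := hl.conj_eight_self hxx hn
      rw [h, Subgroup.card_bot] at this
      omega
    obtain ⟨g, hg, hlg, -⟩ := hl.eight_at ha.1 ha1
    have haa : a * a = 1 := by rw [← pow_two, hl.eight_elem.2 a ha.1]
    have haN : a ∈ N := ha.2
    have hWel : IsElementaryAbelian 2 W :=
      ⟨⟨⟨fun u v => Subtype.ext (mem_comm hVel u.2.1 v.2.1)⟩⟩, fun u hu => hVel.2 u hu.1⟩
    have hsq := fix_sq hWel haa fun b hb => by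
      refine ⟨?_, mul_mem (mul_mem (hl.eight_le_cent ha.1) hb.2) (hl.eight_le_cent ha.1)⟩
      have := hVn a haN b hb.1
      rwa [inv_eq_of_mul_eq_one_right haa] at this
    set W' := W ⊓ centralizer ({a} : Set G) with hW'
    have hW'el : IsElementaryAbelian 2 W' :=
      ⟨⟨⟨fun u v => Subtype.ext (mem_comm hVel u.2.1.1 v.2.1.1)⟩⟩, fun u hu => hVel.2 u hu.1.1⟩
    have hK : ∀ b ∈ W', b ∈ (c.conj g).H ⊓ centralizer (Q : Set G) := fun b hb =>
      ⟨(c.conj g).mem_H.2 (by rw [hg]; exact (mem_cent_one.1 hb.2).symm), hb.1.2⟩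
    by_cases haW : a ∈ W
    · have hWle : W ≤ W' := fun b hb => ⟨hb, mem_cent_one.2 (mem_comm hWel hb haW)⟩
      have := (Nat.le_of_dvd Nat.card_pos (card_dvd_of_le hWle)).trans
        (hlg.elem_K_le hW'el hK)
      omega
    · have hel := elem_sup hW'el haa fun b hb => (mem_cent_one.1 hb.2).symm
      set B := closure (insert a (W' : Set G)) with hBdef
      have hBK : B ≤ (c.conj g).H ⊓ centralizer (Q : Set G) :=
        (closure_le _).2 (Set.insert_subset
          ⟨(c.conj g).mem_H.2 (by rw [hg]), hl.eight_le_cent ha.1⟩ hK)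
      have h16 := hlg.elem_K_le hel hBK
      have hWB : W' ≤ B := fun b hb => subset_closure (Set.mem_insert_of_mem _ hb)
      obtain ⟨m, hm⟩ := card_dvd_of_le hWB
      have hm2 : 2 ≤ m := by
        rcases m with - | - | m
        · have := Nat.card_pos (α := B); omega
        · exfalso
          have haB : a ∈ B := subset_closure (Set.mem_insert _ _)
          rw [← Subgroup.eq_of_le_of_card_ge hWB (by rw [hm, zero_add, mul_one])] at haB
          exact haW haB.1
        · omega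
      nlinarith
  -- the image lies in the centraliser of the image of `Q`
  set D := N ⊓ centralizer (Q : Set G) with hD
  let f : D →* A := π.comp (inclusion inf_le_left)
  have hπq : orderOf (π ⟨q, hgenN⟩) = 5 := by
    refine orderOf_eq_prime (by
      rw [← map_pow, show (⟨q, hgenN⟩ : N) ^ 5 = 1 from Subtype.ext hl.gen_pow, map_one]) fun h => ?_
    have hd := Subgroup.orderOf_dvd_natCard V ((hmemV ⟨q, hgenN⟩).1 h)
    rw [hVcard, show orderOf q = 5 from hl.gen_ord] at hd
    exact absurd hd (by decide)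
  have hr : Nat.card f.range ≤ 10 := by
    rw [← hl.facts.cent _ hπq]
    refine Nat.le_of_dvd Nat.card_pos (card_dvd_of_le ?_)
    rintro _ ⟨d, rfl⟩
    refine mem_cent_one.2 ?_
    show π _ * π ⟨q, hgenN⟩ = π ⟨q, hgenN⟩ * π _
    rw [← map_mul, ← map_mul]
    congr 1
    apply Subtype.ext
    show (d : G) * q = q * d
    have := d.2.2
    rw [← hl.cent_gen] at this
    exact mem_cent_one.1 this
  have hk : Nat.card f.ker ≤ Nat.card W :=
    Nat.card_le_card_of_injective
      (fun d : f.ker => (⟨((d : D) : G), (hmemV _).1 (MonoidHom.mem_ker.1 d.2), (d : D).2.2⟩ : W))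
      fun a b e => Subtype.ext (Subtype.ext (congrArg Subtype.val e :))
  show Nat.card D ≤ 80
  rw [f.ker.card_eq_card_quotient_mul_card_subgroup,
    Nat.card_congr (QuotientGroup.quotientKerEquivRange f).toEquiv]
  calc Nat.card f.range * Nat.card f.ker ≤ 10 * 8 := Nat.mul_le_mul hr (hk.trans hW8.le)
    _ = 80 := by norm_num

theorem exists_nonconj :
    ∃ x ∈ c.H ⊓ centralizer (Q : Set G), orderOf x = 2 ∧ ¬ IsConj c.z x := by
  obtain ⟨f, hf, hfA⟩ : ∃ f ∈ c.E ⊓ centralizer (Q : Set G), f ∉ eight c Q := by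
    by_contra hall
    push Not at hall
    have := Nat.le_of_dvd Nat.card_pos
      (card_dvd_of_le (hall : c.E ⊓ centralizer (Q : Set G) ≤ eight c Q))
    rw [hl.card_F, hl.card_eight] at this
    omega
  obtain ⟨x, hxF, hxA, hxx⟩ :
      ∃ x ∈ c.E ⊓ centralizer (Q : Set G), x ∉ eight c Q ∧ x * x = 1 := by
    rcases hl.ok.sq_mem hf.1 with h | h
    · exact ⟨f, hf, hfA, h⟩
    obtain ⟨l, hlA, hfl⟩ : ∃ l ∈ eight c Q, f * l ≠ l * f := by
      by_contra hall
      push Not at hall
      obtain ⟨a, ha, r, hr, e⟩ := hl.cent_eight hf.2 hall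
      have hrE : r ∈ c.E := by
        rw [show r = a⁻¹ * f by rw [e]; group]
        exact mul_mem (inv_mem (hl.eight_le_E ha)) hf.1
      have h1 := Subgroup.orderOf_dvd_natCard c.E hrE
      have h2 := Subgroup.orderOf_dvd_natCard Q hr
      rw [hl.ok.cardE] at h1
      rw [hl.card] at h2
      rw [orderOf_eq_one_iff.1 (Nat.eq_one_of_dvd_coprimes (by decide : Nat.Coprime 5 (2 ^ 13)) h2 h1),
        mul_one] at e
      exact hfA (e ▸ ha)
    refine ⟨f * l, mul_mem hf ⟨hl.eight_le_E hlA, hl.eight_le_cent hlA⟩,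
      fun h' => hfA (by have := mul_mem h' (inv_mem hlA); rwa [mul_inv_cancel_right] at this), ?_⟩
    calc f * l * (f * l) = f * l * (c.z * (l * f)) := by
          rw [(hl.ok.swap hf.1 (hl.eight_le_E hlA)).resolve_left hfl]
      _ = f * (l * c.z) * l * f := by group
      _ = f * c.z * (l * l) * f := by rw [← hl.ok.z_comm (hl.eight_le_E hlA)]; group
      _ = c.z * (f * f) := by
        rw [← pow_two l, hl.eight_elem.2 l hlA, mul_one, ← hl.ok.z_comm hf.1, mul_assoc]
      _ = 1 := by rw [h, hl.ok.z_sq]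
  have hx1 : x ≠ 1 := fun e => hxA (e ▸ one_mem _)
  haveI : Fact (Nat.Prime 2) := ⟨Nat.prime_two⟩
  refine ⟨x, ⟨hl.ok.le_H hxF.1, hxF.2⟩, orderOf_eq_prime (by rw [pow_two]; exact hxx) hx1,
    fun h => hxA ?_⟩
  by_cases hxz : x = c.z
  · exact hl.mem_eight.2 (Or.inr (Or.inl hxz))
  · exact hl.six_mem_eight ⟨⟨hxF.1, hxz, h⟩, hxF.2⟩

/-- The centraliser of `Q` satisfies `Five`. -/
theorem five (ht : TData c) :
    Five (⟨c.z, hl.z_cent⟩ : centralizer (Q : Set G)) ((eight c Q).subgroupOf _)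
      (Q.subgroupOf _) fun x => IsConj c.z (x : G) := by
  set C := centralizer (Q : Set G) with hC
  have hQC : Q ≤ C := fun a ha => by
    rw [hC, ← hl.cent_gen]
    rw [← hl.zpowers_gen, mem_zpowers_iff] at ha
    obtain ⟨k, rfl⟩ := ha
    exact mem_cent_one.2 ((Commute.refl hl.gen).zpow_left k).eq
  have hAC : eight c Q ≤ C := hl.eight_le_cent
  set A' := (eight c Q).subgroupOf C with hA'
  set Q' := Q.subgroupOf C with hQ'
  have hnorm : ∀ g : C, g ∈ normalizer (A' : Set C) → ∀ a ∈ eight c Q,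
      (g : G) * a * (g : G)⁻¹ ∈ eight c Q := fun g hg a ha =>
    mem_subgroupOf.1 ((mem_normalizer_iff.1 hg ⟨a, hAC ha⟩).1 (mem_subgroupOf.2 ha))
  have hcle : ∀ a : G, a ∈ eight c Q → a ≠ 1 → ∀ g : C, (g : G) * a = a * g →
      g ∈ normalizer (A' : Set C) := by
    intro a ha ha1 g hga
    refine mem_normalizer_iff.2 fun y => ⟨fun hy => ?_, fun hy => ?_⟩
    · exact mem_subgroupOf.2 (hl.eight_conj ha ha1 hga g.2 (mem_subgroupOf.1 hy))
    · have hga' : (g : G)⁻¹ * a = a * (g : G)⁻¹ :=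
        (show Commute (g : G) a from hga).inv_left.eq
      have := hl.eight_conj ha ha1 hga' (inv_mem g.2) (mem_subgroupOf.1 hy)
      simp only [Subgroup.coe_mul, InvMemClass.coe_inv] at this
      rw [mem_subgroupOf]
      rwa [inv_inv, show (g : G)⁻¹ * ((g : G) * (y : G) * (g : G)⁻¹) * g = y by group] at this
  have hsup : centralizer (A' : Set C) = A' ⊔ Q' := by
    refine le_antisymm (fun g hg => ?_) (sup_le ?_ ?_)
    · obtain ⟨a, ha, r, hr, e⟩ := hl.cent_eight g.2 fun a ha =>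
        (congrArg Subtype.val (mem_centralizer_iff.1 hg ⟨a, hAC ha⟩ (mem_subgroupOf.2 ha))).symm
      rw [show g = (⟨a, hAC ha⟩ : C) * ⟨r, hQC hr⟩ from Subtype.ext e]
      exact mul_mem (mem_sup_left (mem_subgroupOf.2 ha)) (mem_sup_right (mem_subgroupOf.2 hr))
    · exact fun a ha => mem_centralizer_iff.2 fun b hb => Subtype.ext
        (mem_comm hl.eight_elem (mem_subgroupOf.1 hb) (mem_subgroupOf.1 ha))
    · exact fun r hr => mem_centralizer_iff.2 fun b _ => Subtype.ext
        ((mem_centralizer_iff.1 b.2 _ (mem_subgroupOf.1 hr)).symm)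
  have hA'card : Nat.card A' = 8 := by
    rw [hA', Nat.card_congr (subgroupOfEquivOfLe hAC).toEquiv, hl.card_eight]
  have hQ'card : Nat.card Q' = 5 := by
    rw [hQ', Nat.card_congr (subgroupOfEquivOfLe hQC).toEquiv, hl.card]
  have h40 : Nat.card (centralizer (A' : Set C)) = 40 := by
    rw [hsup]
    refine le_antisymm ?_ ?_
    · have hn : Q' ≤ normalizer (A' : Set C) :=
        le_trans (le_sup_right.trans (le_of_eq hsup.symm)) (centralizer_le_normalizer _)
      have hs := Set.natCard_mul_le (s := (A' : Set C)) (t := (Q' : Set C))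
      rw [← coe_mul_of_right_le_normalizer_left _ _ hn] at hs
      refine hs.trans ?_
      show Nat.card A' * Nat.card Q' ≤ 40
      rw [hA'card, hQ'card]
    · have h1 : 8 ∣ Nat.card ↥(A' ⊔ Q') := hA'card ▸ card_dvd_of_le le_sup_left
      have h2 : 5 ∣ Nat.card ↥(A' ⊔ Q') := hQ'card ▸ card_dvd_of_le le_sup_right
      exact Nat.le_of_dvd Nat.card_pos (Nat.Coprime.mul_dvd_of_dvd_of_dvd (by decide) h1 h2)
  have hcard80 : ∀ x : C, Nat.card (centralizer ({x} : Set C)) =
      Nat.card ↥(centralizer ({(x : G)} : Set G) ⊓ C) := card_cent_sub C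
  refine
    { elem := ⟨⟨⟨fun a b => Subtype.ext (Subtype.ext
        (mem_comm hl.eight_elem (mem_subgroupOf.1 a.2) (mem_subgroupOf.1 b.2)))⟩⟩,
        fun a ha => Subtype.ext (hl.eight_elem.2 _ (mem_subgroupOf.1 ha))⟩
      card := hA'card
      mem := mem_subgroupOf.2 (hl.mem_eight.2 (Or.inr (Or.inl rfl)))
      ne := fun e => hl.ok.z_ne (congrArg Subtype.val e)
      odd := by rw [hQ'card]; decide
      central := fun r hr g => Subtype.ext
        ((mem_centralizer_iff.1 g.2 _ (mem_subgroupOf.1 hr)).symm)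
      cent_A := hsup
      card_z := by
        rw [h40, hcard80]
        show Nat.card ↥(c.H ⊓ centralizer (Q : Set G)) = _
        rw [hl.card_K]
      cent_le := fun a ha ha1 g hg => hcle (a : G) (mem_subgroupOf.1 ha)
        (fun e => ha1 (Subtype.ext e)) g (congrArg Subtype.val (mem_cent_one.1 hg) :)
      move_z := ?_
      move_other := ?_
      cls_conj := fun g x hx => hx.trans (isConj_iff.2 ⟨(g : G), rfl⟩)
      cls_A := fun a ha ha1 => by
        obtain ⟨k, hk, -, -⟩ := hl.eight_at (mem_subgroupOf.1 ha) (fun e => ha1 (Subtype.ext e))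
        exact isConj_iff.2 ⟨k, hk⟩
      in_A := fun x hx _ hcl => mem_subgroupOf.2 (hl.mem_eight_of_conj x.2 hcl (hnorm x hx))
      other := fun x hx hx2 hcl => by
        rw [h40, hcard80]
        exact hl.other_bound ht x.2 (by rw [orderOf_coe]; exact hx2) hcl (hnorm x hx)
      exists_other := ?_ }
  · intro b hb d hd hb1 hbz hd1 hdz
    have h6 : ∀ y : C, y ∈ A' → y ≠ 1 → y ≠ ⟨c.z, hl.z_cent⟩ → (y : G) ∈ six c Q := fun y hy h1 h2 =>
      ((hl.mem_eight.1 (mem_subgroupOf.1 hy)).resolve_left fun e => h1 (Subtype.ext e)).resolve_left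
        fun e => h2 (Subtype.ext e)
    obtain ⟨g, hg, e⟩ := hl.six_move (h6 b hb hb1 hbz) (h6 d hd hd1 hdz)
    exact ⟨⟨g, hg.2⟩, mem_cent_one.2 (Subtype.ext (c.mem_H.1 hg.1).symm), Subtype.ext e⟩
  · obtain ⟨e, he⟩ := hl.exists_six
    obtain ⟨k, hk, hl'⟩ := hl.toBase.exists_loc_at he.1.2.2 he.2
    have hz6 : c.z ∈ six (c.conj k) Q := by
      refine ⟨⟨z_mem_conj hl.ok hl.data (by rw [hk]; exact he.1), ?_, ?_⟩, hl.z_cent⟩
      · rw [hk]; exact fun h => he.1.2.1 h.symm
      · rw [hk]; exact he.1.2.2.symm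
    obtain ⟨g, hg, hge⟩ := hl'.six_move hz6 (hl'.six_flip hz6)
    refine ⟨⟨g, hg.2⟩, hcle e (hl.six_mem_eight he) (isConj_ne hl.ok he.1.2.2) _ ?_, fun h => ?_⟩
    · have := (c.conj k).mem_H.1 hg.1
      rw [hk] at this
      exact this.symm
    · have h' : g * c.z * g⁻¹ = c.z := congrArg Subtype.val h
      rw [hge] at h'
      exact hl'.ok.z_ne (mul_eq_left.1 h')
  · obtain ⟨x, hxK, hx2, hnc⟩ := hl.exists_nonconj
    refine ⟨⟨x, hxK.2⟩, hcle c.z (hl.mem_eight.2 (Or.inr (Or.inl rfl))) hl.ok.z_ne _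
      (c.mem_H.1 hxK.1).symm, by rw [← orderOf_coe]; exact hx2, hnc⟩

end Loc

end Cfsg.Agent.H54.JFour
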