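import Cfsg.Agent.H54.JFour.FiveGlue

/-!
The local structure at a subgroup of order five in a group of Janko-four type, from the facts on the
automorphism group of `M22`, the count of conjugates of the involution in its extraspecial group and
the shape of the centralisers of the other involutions.
-/

set_option autoImplicit false

namespace Cfsg.Agent.H54.JFour

open Subgroup Cfsg.Agent.H43.JFour Cfsg.Agent.H43.JFour.Ctx

universe u v

variable {G : Type u} [Group G] [Finite G] {A : Type v} [Group A] {M : Subgroup A} {c : Ctx G A}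
  {Q : Subgroup G}

omit [Finite G] in
/-- Transport of the shape of `J` along an injection. -/
theorem shape_map {C : Subgroup G} {J : Subgroup C} [Finite J]
    (h : ∃ (E : Subgroup J) (_ : E.Normal), IsElementaryAbelian 2 E ∧ Nat.card E = 8 ∧
      Nonempty (J ⧸ E ≃* Matrix.SpecialLinearGroup (Fin 3) (ZMod 2)) ∧
        ∀ K : Subgroup J, ¬ E.IsComplement' K) :
    ∃ (E : Subgroup (J.map C.subtype)) (_ : E.Normal), IsElementaryAbelian 2 E ∧ Nat.card E = 8 ∧
      Nonempty (J.map C.subtype ⧸ E ≃* Matrix.SpecialLinearGroup (Fin 3) (ZMod 2)) ∧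
        ∀ K : Subgroup (J.map C.subtype), ¬ E.IsComplement' K := by
  obtain ⟨E, hn, he, hcard, ⟨ψ⟩, hns⟩ := h
  let φ : J ≃* J.map C.subtype := J.equivMapOfInjective C.subtype C.subtype_injective
  haveI : (E.map φ.toMonoidHom).Normal := hn.map φ.toMonoidHom φ.surjective
  refine ⟨E.map φ.toMonoidHom, inferInstance, ⟨?_, ?_⟩, ?_, ⟨?_⟩, fun K hK => ?_⟩
  · refine ⟨⟨fun a b => Subtype.ext ?_⟩⟩
    obtain ⟨x, hx, hxa⟩ := a.2
    obtain ⟨y, hy, hyb⟩ := b.2
    have e := congrArg Subtype.val (he.1.is_comm.comm (⟨x, hx⟩ : E) ⟨y, hy⟩)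
    show (a : J.map C.subtype) * b = b * a
    rw [← hxa, ← hyb, ← map_mul, ← map_mul]
    exact congrArg φ.toMonoidHom e
  · rintro _ ⟨x, hx, rfl⟩
    rw [← map_pow, he.2 x hx, map_one]
  · rw [Subgroup.card_map_of_injective φ.injective, hcard]
  · exact (QuotientGroup.congr E (E.map φ.toMonoidHom) φ rfl).symm.trans ψ
  · refine hns (K.comap φ.toMonoidHom) (isComplement'_of_card_mul_and_disjoint ?_ ?_)
    · rw [Nat.card_congr φ.toEquiv, ← hK.card_mul_card,
        Subgroup.card_map_of_injective φ.injective]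
      congr 1
      exact Nat.card_congr
        { toFun := fun a => ⟨φ a, a.2⟩
          invFun := fun a => ⟨φ.symm a, by show φ (φ.symm a) ∈ K; rw [φ.apply_symm_apply]; exact a.2⟩
          left_inv := fun a => Subtype.ext (φ.symm_apply_apply _)
          right_inv := fun a => Subtype.ext (φ.apply_symm_apply _) }
    · rw [disjoint_iff, eq_bot_iff]
      intro a ha
      have : φ a ∈ E.map φ.toMonoidHom ⊓ K := ⟨mem_map_of_mem _ ha.1, ha.2⟩
      rw [hK.disjoint.eq_bot, mem_bot] at this
      exact mem_bot.2 (φ.map_eq_one_iff.1 this)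

namespace Loc

variable (hl : Loc c M Q)
include hl

end Loc

omit [Finite G] in
theorem pow_conj (r : G) {q : G} (h : r * q * r⁻¹ = q ^ 2) (h5 : q ^ 5 = 1) (hne : q ≠ 1) :
    r * q ≠ q * r ∧ r * r * q ≠ q * (r * r) := by
  refine ⟨fun e => hne ?_, fun e => hne ?_⟩
  · rw [e, mul_inv_cancel_right, pow_two, eq_comm, mul_eq_left] at h
    exact h
  · have h4 : r * r * q * (r * r)⁻¹ = q ^ 4 := by
      calc r * r * q * (r * r)⁻¹ = r * (r * q * r⁻¹) * r⁻¹ := by group
        _ = q ^ 4 := by rw [h, ← conj_pow, h, ← pow_mul]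
    rw [e, mul_inv_cancel_right] at h4
    have h3 : q ^ 3 = 1 := mul_eq_left.1 (by rw [← pow_succ']; exact h4.symm)
    have h2 : q ^ 2 = 1 := by rwa [show 5 = 3 + 2 from rfl, pow_add, h3, one_mul] at h5
    rwa [pow_succ, h2, one_mul] at h3

namespace Loc

variable (hl : Loc c M Q)
include hl

/-- The four conclusions. -/
theorem main (ht : TData c) :
    ¬ (25 ∣ Nat.card G) ∧
    (∃ J : Subgroup G, IsInternalDirectProduct Q J (centralizer (Q : Set G)) ∧
      ∃ (E : Subgroup J) (_ : E.Normal), IsElementaryAbelian 2 E ∧ Nat.card E = 8 ∧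
        Nonempty (J ⧸ E ≃* Matrix.SpecialLinearGroup (Fin 3) (ZMod 2)) ∧
          ∀ K : Subgroup J, ¬ E.IsComplement' K) ∧
    (∃ R : Subgroup G, Q ≤ R ∧ R ≤ normalizer (Q : Set G) ∧ Nat.card R = 20 ∧
      R ⊓ centralizer (Q : Set G) = Q) ∧
    Nat.card (normalizer (Q : Set G)) = 2 ^ 8 * 3 * 5 * 7 := by
  haveI := hl.data.finite
  haveI : Fact (Nat.Prime 5) := ⟨by norm_num⟩
  set C := centralizer (Q : Set G) with hC
  have hQC : Q ≤ C := by
    rw [hC, ← hl.cent_gen]
    intro a ha
    rw [← hl.zpowers_gen, mem_zpowers_iff] at ha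
    obtain ⟨k, rfl⟩ := ha
    exact mem_cent_one.2 ((Commute.refl hl.gen).zpow_left k).eq
  have hQ'card : Nat.card (Q.subgroupOf C) = 5 := by
    rw [Nat.card_congr (subgroupOfEquivOfLe hQC).toEquiv, hl.card]
  have hfive := hl.five ht
  have hCcard : Nat.card C = 6720 := hfive.card_five hQ'card
  refine ⟨fun h25 => ?_, ?_, ?_, ?_⟩
  · obtain ⟨K, hK, hQK⟩ := Sylow.exists_subgroup_card_pow_prime_le (p := 5) (m := 2) (n := 1)
      (by norm_num; exact h25) Q (by rw [hl.card]; norm_num) (by norm_num)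
    haveI : IsMulCommutative K := IsPGroup.isMulCommutative_of_card_eq_prime_sq (p := 5) (by rw [hK])
    have hcomm : ∀ a b : K, a * b = b * a := mul_comm'
    have hKC : K ≤ C := fun k hk => mem_centralizer_iff.2 fun a ha =>
      congrArg Subtype.val (hcomm ⟨a, hQK ha⟩ ⟨k, hk⟩)
    have := card_dvd_of_le hKC
    rw [hK, hCcard] at this
    norm_num at this
  · obtain ⟨J, ⟨-, -, hcomm, hinf, hsup⟩, hsh⟩ := hfive.exists_product hQ'card
    refine ⟨J.map C.subtype, ⟨hQC, Subgroup.map_subtype_le J, ?_, ?_, ?_⟩, shape_map hsh⟩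
    · rintro a ha _ ⟨b, hb, rfl⟩
      exact congrArg Subtype.val (hcomm ⟨a, hQC ha⟩ (mem_subgroupOf.2 ha) b hb)
    · rw [eq_bot_iff]
      rintro a ⟨ha, b, hb, rfl⟩
      have : b ∈ Q.subgroupOf C ⊓ J := ⟨mem_subgroupOf.2 ha, hb⟩
      rw [hinf, mem_bot] at this
      simp [this]
    · have := congrArg (Subgroup.map C.subtype) hsup
      rwa [Subgroup.map_sup, subgroupOf_map_subtype, inf_eq_left.2 hQC, ← MonoidHom.range_eq_map,
        C.range_subtype] at this
  · obtain ⟨x, hxK, hx2, hnc⟩ := hl.exists_nonconj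
    set N := centralizer ({x} : Set G) with hN
    obtain ⟨V, hVle, -, hVcard, π, s, hsec, hπ⟩ := ht x hx2 hnc
    have hqN : hl.gen ∈ N := mem_cent_one.2 (mem_centralizer_iff.1 hxK.2 _ hl.gen_mem)
    set qN : N := ⟨hl.gen, hqN⟩ with hqNdef
    have hq5 : orderOf qN = 5 := by rw [← orderOf_coe]; exact hl.gen_ord
    have hπq : orderOf (π qN) = 5 := by
      refine orderOf_eq_prime (by rw [← map_pow, ← hq5, pow_orderOf_eq_one, map_one]) fun h => ?_
      have h' : (qN : G) ∈ V := by
        have : qN ∈ π.ker := h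
        rwa [hπ, mem_subgroupOf] at this
      have hd := Subgroup.orderOf_dvd_natCard V h'
      rw [hVcard, orderOf_coe, hq5] at hd
      exact absurd hd (by decide)
    obtain ⟨b, -, hb4, hbq⟩ := hl.facts.flip _ hπq
    have hu5 : orderOf (s (π qN)) = 5 := by
      rw [orderOf_injective s (fun a a' e => by rw [← hsec a, e, hsec]), hπq]
    have hf : (Nat.card N).factorization 5 = 1 := by
      have hsurj : Function.Surjective π := fun a => ⟨s a, hsec a⟩
      have h := π.ker.card_eq_card_quotient_mul_card_subgroup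
      rw [Nat.card_congr (QuotientGroup.quotientKerEquivOfSurjective π hsurj).toEquiv, hπ,
        Nat.card_congr (subgroupOfEquivOfLe hVle).toEquiv, hVcard, hl.data.card] at h
      rw [h, show 887040 * 2 ^ 11 = 5 ^ 1 * (177408 * 2 ^ 11) by norm_num,
        Nat.factorization_mul (by norm_num) (by norm_num), Nat.factorization_pow]
      simp [(show Nat.Prime 5 by norm_num).factorization, Nat.factorization_eq_zero_of_not_dvd]
    let S₀ : Sylow 5 N := Sylow.ofCard (zpowers (s (π qN))) (by
      rw [Nat.card_zpowers, hu5, hf, pow_one])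
    let S₁ : Sylow 5 N := Sylow.ofCard (zpowers qN) (by rw [Nat.card_zpowers, hq5, hf, pow_one])
    obtain ⟨n, hn⟩ := MulAction.exists_smul_eq N S₀ S₁
    set u : N := n * s (π qN) * n⁻¹ with hu
    set r : N := n * s b * n⁻¹ with hr
    have hru : r * u * r⁻¹ = u ^ 2 := by
      rw [hu, hr, conj_pow, ← map_pow, ← hbq, map_mul, map_mul, map_inv]
      group
    have hr4 : (r : G) ^ 4 = 1 := by
      rw [← SubmonoidClass.coe_pow, hr, conj_pow, ← map_pow, hb4, map_one, mul_one, mul_inv_cancel]
      rfl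
    have huQ : (u : G) ∈ Q := by
      have h1 : MulAut.conj n (s (π qN)) ∈ (S₁ : Subgroup N) := by
        rw [← hn, Sylow.coe_subgroup_smul]
        exact Subgroup.smul_mem_pointwise_smul _ (MulAut.conj n) _ (mem_zpowers _)
      obtain ⟨k, hk⟩ := mem_zpowers_iff.1 (h1 : MulAut.conj n (s (π qN)) ∈ zpowers qN)
      rw [show (u : G) = ((MulAut.conj n (s (π qN)) : N) : G) from rfl, ← hk, SubgroupClass.coe_zpow]
      exact zpow_mem hl.gen_mem k
    have hu' : orderOf (u : G) = 5 := by
      rw [orderOf_coe, hu, ← MulAut.conj_apply, MulEquiv.orderOf_eq, hu5]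
    have hu1 : (u : G) ≠ 1 := fun e => by rw [e, orderOf_one] at hu'; omega
    have hQu : zpowers (u : G) = Q := PGroups.zpowers_eq_of_card_eq hl.card huQ hu1
    have hru' : (r : G) * u * (r : G)⁻¹ = (u : G) ^ 2 := by
      simpa using congrArg Subtype.val hru
    have hrN : (r : G) ∈ normalizer (Q : Set G) := by
      have hle : ∀ a ∈ Q, (r : G) * a * (r : G)⁻¹ ∈ Q := fun a ha => by
        rw [← hQu, mem_zpowers_iff] at ha
        obtain ⟨k, rfl⟩ := ha
        rw [← conj_zpow, hru']
        exact zpow_mem (pow_mem huQ 2) k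
      exact Subgroup.mem_normalizer_iff.2 fun a => ⟨hle a, fun ha => by
        have hmap : Q.map (MulAut.conj (r : G)).toMonoidHom = Q := by
          refine Subgroup.eq_of_le_of_card_ge ?_ (by
            rw [Subgroup.card_map_of_injective (MulAut.conj (r : G)).injective])
          rintro _ ⟨y, hy, rfl⟩
          exact hle y hy
        have h2 : (r : G) * a * (r : G)⁻¹ ∈ Q.map (MulAut.conj (r : G)).toMonoidHom := by
          rw [hmap]; exact ha
        rw [mem_conj_map] at h2
        rwa [show (r : G)⁻¹ * ((r : G) * a * (r : G)⁻¹) * r = a by group] at h2⟩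
    obtain ⟨hne1, hne2⟩ := pow_conj (r : G) hru' (by rw [← hu', pow_orderOf_eq_one]) hu1
    have hrC : ∀ g : G, g ∈ C → g * u = u * g := fun g hg =>
      (mem_centralizer_iff.1 hg _ huQ).symm
    have hr_ord : orderOf (r : G) = 4 := by
      haveI : Fact (Nat.Prime 2) := ⟨Nat.prime_two⟩
      refine orderOf_eq_prime_pow (p := 2) (n := 1) (fun h => hne2 ?_) hr4
      rw [pow_one, pow_two] at h
      rw [h, one_mul, mul_one]
    set R := Q ⊔ zpowers (r : G) with hR
    have hRN : R ≤ normalizer (Q : Set G) := sup_le le_normalizer (zpowers_le.2 hrN)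
    have hRcard : Nat.card R = 20 := by
      refine le_antisymm ?_ ?_
      · have hs := Set.natCard_mul_le (s := (Q : Set G)) (t := (zpowers (r : G) : Set G))
        rw [← coe_mul_of_right_le_normalizer_left _ _ (zpowers_le.2 hrN)] at hs
        refine hs.trans ?_
        show Nat.card Q * Nat.card (zpowers (r : G)) ≤ 20
        rw [hl.card, Nat.card_zpowers, hr_ord]
      · have h1 : 5 ∣ Nat.card R := hl.card ▸ card_dvd_of_le le_sup_left
        have h2 : 4 ∣ Nat.card R := hr_ord ▸ Nat.card_zpowers (r : G) ▸ card_dvd_of_le le_sup_right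
        exact Nat.le_of_dvd Nat.card_pos (Nat.Coprime.mul_dvd_of_dvd_of_dvd (by decide) h1 h2)
    refine ⟨R, le_sup_left, hRN, hRcard, ?_⟩
    set X := R ⊓ C with hX
    have hQX : Q ≤ X := le_inf le_sup_left hQC
    have h5 : 5 ∣ Nat.card X := hl.card ▸ card_dvd_of_le hQX
    have h20 : Nat.card X ∣ 20 := hRcard ▸ card_dvd_of_le inf_le_left
    refine (Subgroup.eq_of_le_of_card_ge hQX ?_).symm
    rw [hl.card]
    by_contra hlt
    have hrR : (r : G) ∈ R := mem_sup_right (mem_zpowers _)
    have hXne : Nat.card X ≠ 20 := fun h => by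
      have := Subgroup.eq_of_le_of_card_ge (inf_le_left : X ≤ R) (by rw [hRcard, h])
      rw [← this] at hrR
      exact hne1 (hrC _ hrR.2)
    have h10 : Nat.card X = 10 := by
      obtain ⟨m, hm⟩ := h5
      have := Nat.le_of_dvd (by norm_num) h20
      rw [hm] at hlt hXne this h20 ⊢
      have h3 : m ≠ 3 := fun e => by rw [e] at h20; norm_num at h20
      omega
    have hidx : (X.subgroupOf R).index = 2 := by
      have := (X.subgroupOf R).card_mul_index
      rw [Nat.card_congr (subgroupOfEquivOfLe (inf_le_left : X ≤ R)).toEquiv, h10, hRcard] at this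
      omega
    haveI := Subgroup.normal_of_index_eq_two hidx
    have := Subgroup.pow_index_mem (X.subgroupOf R) (⟨r, hrR⟩ : R)
    rw [hidx, mem_subgroupOf, SubmonoidClass.coe_pow, pow_two] at this
    exact hne2 (hrC _ (Subgroup.mem_inf.1 this).2)
  · set N := normalizer (Q : Set G) with hN
    have hCN : C ≤ N := centralizer_le_normalizer _
    set f := Q.normalizerMonoidHom with hf
    have hker : f.ker = C.subgroupOf N := Q.normalizerMonoidHom_ker
    have h := f.ker.card_eq_card_quotient_mul_card_subgroup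
    rw [Nat.card_congr (QuotientGroup.quotientKerEquivRange f).toEquiv, hker,
      Nat.card_congr (subgroupOfEquivOfLe hCN).toEquiv, hCcard] at h
    haveI : IsCyclic Q := isCyclic_of_prime_card hl.card
    have haut : Nat.card (MulAut Q) = 4 := by
      rw [IsCyclic.card_mulAut, hl.card]; decide
    have hdvd : Nat.card f.range ∣ 4 := haut ▸ Subgroup.card_subgroup_dvd_card _
    obtain ⟨y, hy, hyq⟩ := hl.exists_square
    have hyN : y ∈ N := by
      have hle : Q.map (MulAut.conj y).toMonoidHom = Q := by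
        refine Subgroup.eq_of_le_of_card_ge ?_ (by
          rw [Subgroup.card_map_of_injective (MulAut.conj y).injective])
        rintro _ ⟨a, ha, rfl⟩
        rw [SetLike.mem_coe, ← hl.zpowers_gen, mem_zpowers_iff] at ha
        obtain ⟨k, rfl⟩ := ha
        show y * hl.gen ^ k * y⁻¹ ∈ Q
        rw [← conj_zpow, hyq]
        exact zpow_mem (pow_mem hl.gen_mem 2) k
      refine Subgroup.mem_normalizer_iff.2 fun a => ?_
      have h2 := mem_conj_map Q y (y * a * y⁻¹)
      rw [hle, show y⁻¹ * (y * a * y⁻¹) * y = a by group] at h2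
      exact h2.symm
    obtain ⟨hne1, hne2⟩ := pow_conj y hyq hl.gen_pow hl.gen_ne
    set Y : N := ⟨y, hyN⟩
    have hY1 : f Y ≠ 1 := fun e => hne1 (by
      have : Y ∈ f.ker := e
      rw [hker, mem_subgroupOf] at this
      exact (mem_centralizer_iff.1 this _ hl.gen_mem).symm)
    have hY2 : f Y * f Y ≠ 1 := fun e => hne2 (by
      have : Y * Y ∈ f.ker := by rw [MonoidHom.mem_ker, map_mul, e]
      rw [hker, mem_subgroupOf] at this
      exact (mem_centralizer_iff.1 this _ hl.gen_mem).symm)
    have hYm : f Y ∈ f.range := ⟨Y, rfl⟩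
    have hr4 : Nat.card f.range = 4 := by
      obtain ⟨i, hi, hir⟩ :=
        (Nat.dvd_prime_pow Nat.prime_two).1 (hdvd.trans (by norm_num : 4 ∣ 2 ^ 2))
      interval_cases i
      · exact absurd (Subgroup.eq_bot_of_card_eq _ (by rw [hir, pow_zero]) ▸ hYm :
          f Y ∈ (⊥ : Subgroup (MulAut Q))) (fun e => hY1 (mem_bot.1 e))
      · have := Subgroup.orderOf_dvd_natCard f.range hYm
        rw [hir, pow_one] at this
        exact absurd ((pow_two _).symm.trans (orderOf_dvd_iff_pow_eq_one.1 this)) hY2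
      · rw [hir]; norm_num
    rw [h, hr4]
    norm_num

end Loc

/-- The statement at an arbitrary subgroup of order five of the centraliser of the involution. -/
theorem five_main (hb : Base c M Q) (hQH : Q ≤ c.H) (ht : TData c) :
    ¬ (25 ∣ Nat.card G) ∧
    (∃ J : Subgroup G, IsInternalDirectProduct Q J (centralizer (Q : Set G)) ∧
      ∃ (E : Subgroup J) (_ : E.Normal), IsElementaryAbelian 2 E ∧ Nat.card E = 8 ∧
        Nonempty (J ⧸ E ≃* Matrix.SpecialLinearGroup (Fin 3) (ZMod 2)) ∧
          ∀ K : Subgroup J, ¬ E.IsComplement' K) ∧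
    (∃ R : Subgroup G, Q ≤ R ∧ R ≤ normalizer (Q : Set G) ∧ Nat.card R = 20 ∧
      R ⊓ centralizer (Q : Set G) = Q) ∧
    Nat.card (normalizer (Q : Set G)) = 2 ^ 8 * 3 * 5 * 7 := by
  obtain ⟨h, -, hl⟩ := hb.exists_loc hQH
  exact hl.main (ht.conj h)

end Cfsg.Agent.H54.JFour
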