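import Cfsg.Agent.H54.JFour.CentFive

/-!
The elementary abelian group of order eight spanned by the six conjugates of the involution, and its
independence of the choice of its involution.
-/

set_option autoImplicit false

namespace Cfsg.Agent.H54.JFour

open Subgroup Cfsg.Agent.H43.JFour Cfsg.Agent.H43.JFour.Ctx

universe u v

variable {G : Type u} [Group G] [Finite G] {A : Type v} [Group A] {M : Subgroup A} {c : Ctx G A}
  {Q : Subgroup G}

/-- The group generated by `z` and the six conjugates. -/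
def eight (c : Ctx G A) (Q : Subgroup G) : Subgroup G := closure (insert c.z (six c Q))

omit [Finite G] in
theorem P_cases (hc : c.Ok) {p s : G} (hp : p ∈ c.P) (hp1 : p ≠ 1) (hs : s ∈ c.P) :
    s = 1 ∨ s = p ∨ s = p * p := by
  haveI : Fact (Nat.Prime 3) := ⟨Nat.prime_three⟩
  have hgen := PGroups.zpowers_eq_of_card_eq hc.cardP hp hp1
  have hord : orderOf p = 3 := by rw [← Nat.card_zpowers, hgen, hc.cardP]
  rw [← hgen, mem_zpowers_iff] at hs
  obtain ⟨k, rfl⟩ := hs
  rw [← zpow_mod_orderOf, hord]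
  rcases (by omega : k % ((3 : ℕ) : ℤ) = 0 ∨ k % ((3 : ℕ) : ℤ) = 1 ∨ k % ((3 : ℕ) : ℤ) = 2) with
    e | e | e <;> rw [e]
  · exact Or.inl (zpow_zero p)
  · exact Or.inr (Or.inl (zpow_one p))
  · exact Or.inr (Or.inr (zpow_two p))

/-- Conjugation by an element of `H` permutes the conjugates of a vector under `P`, modulo `⟨z⟩`. -/
theorem conj_orbit (hc : c.Ok) {h p a : G} (hh : h ∈ c.H) (hp : p ∈ c.P) (hp1 : p ≠ 1)
    (ha : a ∈ c.E) : ∃ s ∈ c.P, s ≠ 1 ∧
      (h * (p * a * p⁻¹) * h⁻¹ = s * (h * a * h⁻¹) * s⁻¹ ∨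
        h * (p * a * p⁻¹) * h⁻¹ = s * (h * a * h⁻¹) * s⁻¹ * c.z) := by
  obtain ⟨e1, he1, n, hn, rfl⟩ := hc.frattini hh
  have hs : n * p * n⁻¹ ∈ c.P := (mem_normalizer_iff.1 hn.2 p).1 hp
  refine ⟨_, hs, fun e => hp1 ?_, ?_⟩
  · rwa [mul_inv_eq_one, mul_eq_left] at e
  set s := n * p * n⁻¹ with hsdef
  set a' := n * a * n⁻¹ with ha'
  have ha'E : a' ∈ c.E := hc.conjE hn.1 ha
  have hbE : s * a' * s⁻¹ ∈ c.E := hc.conjE (hc.P_le hs) ha'E
  have hL : e1 * n * (p * a * p⁻¹) * (e1 * n)⁻¹ = e1 * (s * a' * s⁻¹) * e1⁻¹ := by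
    rw [hsdef, ha']; group
  have hR : e1 * n * a * (e1 * n)⁻¹ = e1 * a' * e1⁻¹ := by rw [ha']; group
  have key : ∀ b ∈ c.E, e1 * b * e1⁻¹ = b ∨ e1 * b * e1⁻¹ = b * c.z := fun b hb => by
    rcases hc.swap he1 hb with e | e <;> rw [e]
    · exact Or.inl (by group)
    · refine Or.inr ?_
      calc c.z * (b * e1) * e1⁻¹ = c.z * b := by group
        _ = b * c.z := hc.z_comm hb
  have hzs : Commute c.z s⁻¹ := c.mem_H.1 (inv_mem (hc.P_le hs))
  rw [hL, hR]
  rcases key _ hbE with e | e <;> rcases key _ ha'E with e' | e' <;> rw [e, e']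
  · exact Or.inl rfl
  · refine Or.inr ?_
    calc s * a' * s⁻¹ = s * a' * s⁻¹ * (c.z * c.z) := by rw [hc.z_sq, mul_one]
      _ = s * a' * (s⁻¹ * c.z) * c.z := by group
      _ = s * (a' * c.z) * s⁻¹ * c.z := by rw [← hzs.eq]; group
  · exact Or.inr rfl
  · refine Or.inl ?_
    calc s * a' * s⁻¹ * c.z = s * a' * (s⁻¹ * c.z) := by group
      _ = s * (a' * c.z) * s⁻¹ := by rw [← hzs.eq]; group

namespace Loc

variable (hl : Loc c M Q)
include hl

omit [Finite G] in
theorem six_sq {a : G} (ha : a ∈ six c Q) : a * a = 1 := by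
  rw [← pow_two, ← isConj_ord hl.ok ha.1.2.2, pow_orderOf_eq_one]

/-- The three members of an orbit of `P` multiply into `⟨z⟩`. -/
theorem orbit_prod {e p : G} (he : e ∈ six c Q) (hp : p ∈ c.P) (hp1 : p ≠ 1) :
    e * (p * e * p⁻¹) = p * (p * e * p⁻¹) * p⁻¹ ∨
      e * (p * e * p⁻¹) = p * (p * e * p⁻¹) * p⁻¹ * c.z := by
  haveI := zE_normal hl.ok
  set w := p * e * p⁻¹ with hw
  set r := p * w * p⁻¹ with hr
  have hwE : w ∈ c.E := hl.ok.conjE (hl.ok.P_le hp) he.1.1
  have hrE : r ∈ c.E := hl.ok.conjE (hl.ok.P_le hp) hwE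
  have hr2 : r * r = 1 := by
    rw [hr, hw, show p * (p * e * p⁻¹) * p⁻¹ * (p * (p * e * p⁻¹) * p⁻¹) = p * p * (e * e) * (p * p)⁻¹
      by group, hl.six_sq he]
    group
  have h1 := sum_P hl.ok hp hp1 (QuotientGroup.mk ⟨e, he.1.1⟩)
  rw [actV_mk, actV_mk, ← QuotientGroup.mk_mul, ← QuotientGroup.mk_mul, ← QuotientGroup.mk_one] at h1
  have h2 := (cls_eq hl.ok _ _).1 h1
  have h3 : (1 : G) = e * w * r ∨ (1 : G) = e * w * r * c.z := h2
  rcases h3 with e' | e'
  · left
    calc e * w = e * w * (r * r) := by rw [hr2, mul_one]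
      _ = r := by rw [← mul_assoc, ← e', one_mul]
  · right
    calc e * w = e * w * (r * r) := by rw [hr2, mul_one]
      _ = e * w * r * c.z * (c.z * r) := by
        rw [show e * w * r * c.z * (c.z * r) = e * w * r * (c.z * c.z) * r by group, hl.ok.z_sq]
        group
      _ = r * c.z := by rw [← e', one_mul, hl.ok.z_comm hrE]

theorem orbit_comm {e p : G} (he : e ∈ six c Q) (hp : p ∈ c.P) :
    e * (p * e * p⁻¹) = p * e * p⁻¹ * e := by
  by_cases hp1 : p = 1
  · subst hp1; simp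
  have hwE : p * e * p⁻¹ ∈ c.E := hl.ok.conjE (hl.ok.P_le hp) he.1.1
  have hw := hl.six_conj (hl.ok.P_le hp) (hl.P_cent hp) he
  have hww := hl.six_sq hw
  set w := p * e * p⁻¹
  have hew : (e * w) * (e * w) = 1 := by
    have hr : p * w * p⁻¹ ∈ six c Q := hl.six_conj (hl.ok.P_le hp) (hl.P_cent hp) hw
    rcases hl.orbit_prod he hp hp1 with h | h <;> rw [h]
    · exact hl.six_sq hr
    · exact hl.six_sq (hl.six_flip hr)
  calc e * w = (e * w) * ((e * w) * (w * e)) := by
        rw [show e * w * (w * e) = e * (w * w) * e by group, hww, mul_one, hl.six_sq he, mul_one]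
    _ = w * e := by rw [← mul_assoc, hew, one_mul]

theorem six_comm {a b : G} (ha : a ∈ six c Q) (hb : b ∈ six c Q) : a * b = b * a := by
  obtain ⟨s, hs, e⟩ := hl.six_orbit ha hb
  have h := hl.orbit_comm ha hs
  rcases e with e | e <;> rw [e]
  · exact h
  · rw [← mul_assoc, h, mul_assoc _ a c.z, ← hl.ok.z_comm ha.1.1, ← mul_assoc]

theorem mem_eight {x : G} : x ∈ eight c Q ↔ x = 1 ∨ x = c.z ∨ x ∈ six c Q := by
  constructor
  · intro h
    refine closure_induction (p := fun y _ => y = 1 ∨ y = c.z ∨ y ∈ six c Q) ?_ (Or.inl rfl) ?_ ?_ h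
    · rintro y (rfl | hy)
      exacts [Or.inr (Or.inl rfl), Or.inr (Or.inr hy)]
    · rintro a b - - ha hb
      rcases ha with rfl | rfl | ha
      · rwa [one_mul]
      · rcases hb with rfl | rfl | hb
        · exact Or.inr (Or.inl (mul_one _))
        · exact Or.inl hl.ok.z_sq
        · exact Or.inr (Or.inr (by rw [hl.ok.z_comm hb.1.1]; exact hl.six_flip hb))
      · rcases hb with rfl | rfl | hb
        · exact Or.inr (Or.inr (by rwa [mul_one]))
        · exact Or.inr (Or.inr (hl.six_flip ha))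
        · obtain ⟨s, hs, e⟩ := hl.six_orbit ha hb
          have h1 : a * (s * a * s⁻¹) = 1 ∨ a * (s * a * s⁻¹) = c.z ∨ a * (s * a * s⁻¹) ∈ six c Q := by
            by_cases hs1 : s = 1
            · subst hs1; exact Or.inl (by simpa using hl.six_sq ha)
            · have hr := hl.six_conj (hl.ok.P_le hs) (hl.P_cent hs)
                (hl.six_conj (hl.ok.P_le hs) (hl.P_cent hs) ha)
              rcases hl.orbit_prod ha hs hs1 with e' | e' <;> rw [e']
              exacts [Or.inr (Or.inr hr), Or.inr (Or.inr (hl.six_flip hr))]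
          rcases e with e | e <;> rw [e]
          · exact h1
          · rw [← mul_assoc]
            rcases h1 with h1 | h1 | h1
            · exact Or.inr (Or.inl (by rw [h1, one_mul]))
            · exact Or.inl (by rw [h1, hl.ok.z_sq])
            · exact Or.inr (Or.inr (hl.six_flip h1))
    · rintro a - ha
      rcases ha with rfl | rfl | ha
      · exact Or.inl inv_one
      · exact Or.inr (Or.inl hl.ok.z_inv)
      · exact Or.inr (Or.inr (by rwa [inv_eq_of_mul_eq_one_right (hl.six_sq ha)]))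
  · rintro (rfl | rfl | h)
    exacts [one_mem _, subset_closure (Set.mem_insert _ _), subset_closure (Set.mem_insert_of_mem _ h)]

theorem six_mem_eight {a : G} (ha : a ∈ six c Q) : a ∈ eight c Q :=
  hl.mem_eight.2 (Or.inr (Or.inr ha))

theorem card_eight : Nat.card (eight c Q) = 8 := by
  have hset : (eight c Q : Set G) = insert 1 (insert c.z (six c Q)) := by
    ext x; exact hl.mem_eight
  have hnz : c.z ∉ six c Q := fun h => h.1.2.1 rfl
  have hn1 : (1 : G) ∉ insert c.z (six c Q) := by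
    rintro (h | h)
    exacts [hl.ok.z_ne h.symm, isConj_ne hl.ok h.1.2.2 rfl]
  rw [← SetLike.coe_sort_coe, Nat.card_coe_set_eq, hset, Set.ncard_insert_of_notMem hn1,
    Set.ncard_insert_of_notMem hnz, ← Nat.card_coe_set_eq, hl.card_six]

omit [Finite G] in
theorem eight_le_E : eight c Q ≤ c.E :=
  (closure_le _).2 (Set.insert_subset hl.ok.z_mem fun _ h => h.1.1)

theorem eight_le_cent : eight c Q ≤ centralizer (Q : Set G) :=
  (closure_le _).2 (Set.insert_subset hl.z_cent fun _ h => h.2)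

theorem eight_elem : IsElementaryAbelian 2 (eight c Q) := by
  refine ⟨⟨⟨fun a b => Subtype.ext ?_⟩⟩, fun a ha => ?_⟩
  · show (a : G) * b = b * a
    rcases hl.mem_eight.1 a.2 with e | e | ha <;> rcases hl.mem_eight.1 b.2 with e' | e' | hb
    all_goals first
      | (rw [e]; simp) | (rw [e']; simp)
      | (rw [e]; exact hl.ok.z_comm (hl.eight_le_E b.2))
      | (rw [e']; exact (hl.ok.z_comm (hl.eight_le_E a.2)).symm)
      | exact hl.six_comm ha hb
  · rw [pow_two]
    rcases hl.mem_eight.1 ha with rfl | rfl | h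
    exacts [mul_one 1, hl.ok.z_sq, hl.six_sq h]

/-- The six conjugates lie in the extraspecial group of each of them. -/
theorem six_mem_conj {e a : G} {g : G} (he : e ∈ six c Q) (hz : (c.conj g).z = e)
    (hl' : Loc (c.conj g) M Q) (ha : a ∈ six c Q) : a ∈ (c.conj g).E := by
  have hzE : c.z ∈ (c.conj g).E := z_mem_conj hl.ok hl.data (by rw [hz]; exact he.1)
  suffices h : ∀ p ∈ c.P, p * e * p⁻¹ ∈ (c.conj g).E by
    obtain ⟨p, hp, rfl | rfl⟩ := hl.six_orbit he ha
    exacts [h p hp, mul_mem (h p hp) hzE]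
  intro p hp
  have heE' : e ∈ (c.conj g).E := hz ▸ hl'.ok.z_mem
  by_cases hp1 : p = 1
  · subst hp1; simpa using heE'
  set c' := c.conj g with hc'def
  have hc' : c'.Ok := hl'.ok
  have hw := hl.six_conj (hl.ok.P_le hp) (hl.P_cent hp) he
  set w := p * e * p⁻¹ with hwdef
  have hew : e * w = w * e := hl.six_comm he hw
  have hwH : w ∈ c'.H := by rw [Ctx.mem_H, hz]; exact hew
  have hww : w * w = 1 := hl.six_sq hw
  by_cases hM : c'.pr w ∈ M
  · exact hl'.two_mem hwH hw.2 hM (k := 1) (by rw [pow_one, pow_two]; exact hww)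
  exfalso
  -- `w` would invert `P` modulo the extraspecial group, so would move too much
  obtain ⟨e2, he2, n, hn, hnC, hwn⟩ := hc'.outer_split hl'.data hwH hM
  set D := c'.E ⊓ centralizer ({c.z} : Set G) with hD
  have hze : c.z ≠ c'.z := fun h => he.1.2.1 (by rw [← hz, ← h])
  have hDcard : Nat.card D = 2 ^ 12 := card_cent_E hc' hzE hl.ok.z_ne hze
  set r := p * w * p⁻¹ with hrdef
  let S : Set G := {w, w * c.z, r, r * c.z}
  have hval : ∀ v ∈ D, v * w * v⁻¹ ∈ S := by
    intro v hv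
    have hvH : v ∈ c.H := hv.2
    have hve : v * e * v⁻¹ = e := by
      rw [← hz, ← hc'.z_comm hv.1, mul_inv_cancel_right]
    obtain ⟨s, hs, hs1, h⟩ := conj_orbit hl.ok hvH hp hp1 he.1.1
    rw [hve, ← hwdef] at h
    rcases P_cases hl.ok hp hp1 hs with rfl | rfl | rfl
    · exact absurd rfl hs1
    · rcases h with h | h <;> rw [h]
      exacts [Or.inl rfl, Or.inr (Or.inl rfl)]
    · have e3 : p * p * e * (p * p)⁻¹ = r := by rw [hrdef, hwdef]; group
      rcases h with h | h <;> rw [h, e3]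
      exacts [Or.inr (Or.inr (Or.inl rfl)), Or.inr (Or.inr (Or.inr rfl))]
  set X := c'.E ⊓ centralizer ({w} : Set G) with hX
  have hXcard : 2 ^ 10 ≤ Nat.card X := by
    set Cw := (centralizer ({w} : Set G)).subgroupOf D with hCw
    let f : D ⧸ Cw → S := fun q => ⟨_, hval _ q.out.2⟩
    have hf : Function.Injective f := by
      intro q q' h
      rw [← QuotientGroup.out_eq' q, ← QuotientGroup.out_eq' q']
      refine (QuotientGroup.eq).2 (mem_subgroupOf.2 (mem_cent_one.2 ?_))
      simp only [Subgroup.coe_mul, InvMemClass.coe_inv]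
      set a := ((q.out : D) : G)
      set b := ((q'.out : D) : G)
      have e' : a * w * a⁻¹ = b * w * b⁻¹ := congrArg Subtype.val h
      calc a⁻¹ * b * w = a⁻¹ * (b * w * b⁻¹) * b := by group
        _ = a⁻¹ * (a * w * a⁻¹) * b := by rw [e']
        _ = w * (a⁻¹ * b) := by group
    have h4 : Nat.card S ≤ 4 := by
      rw [Nat.card_coe_set_eq, show S = ({w, w * c.z, r, r * c.z} : Set G) from rfl]
      have e1 := Set.ncard_insert_le w ({w * c.z, r, r * c.z} : Set G)
      have e2 := Set.ncard_insert_le (w * c.z) ({r, r * c.z} : Set G)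
      have e3 := Set.ncard_insert_le r ({r * c.z} : Set G)
      rw [Set.ncard_singleton] at e3
      omega
    have h := Cw.card_mul_index
    rw [hDcard] at h
    have hi : Cw.index ≤ 4 := (Nat.card_le_card_of_injective f hf).trans h4
    have hle : Nat.card Cw ≤ Nat.card X :=
      Nat.card_le_card_of_injective (fun a : Cw => (⟨((a : D) : G), (a : D).2.1, a.2⟩ : X))
        fun a b e => Subtype.ext (Subtype.ext (congrArg Subtype.val e :))
    nlinarith
  obtain ⟨p', hp', hp'1⟩ : ∃ p' ∈ c'.P, p' ≠ 1 := by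
    refine (Subgroup.bot_or_exists_ne_one c'.P).resolve_left fun h => ?_
    have := hc'.cardP; rw [h, Subgroup.card_bot] at this; omega
  set Y := X.map (MulAut.conj p').toMonoidHom with hY
  have hYE : Y ≤ c'.E := by
    rintro _ ⟨u, hu, rfl⟩
    exact hc'.conjE (hc'.P_le hp') hu.1
  have hinf : ∀ v ∈ X ⊓ Y, v ∈ zpowers c'.z := by
    rintro v ⟨hv, u, hu, rfl⟩
    have hvw : p' * u * p'⁻¹ * w = w * (p' * u * p'⁻¹) := mem_cent_one.1 hv.2
    have huw : u * w = w * u := mem_cent_one.1 hu.2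
    set d := p'⁻¹ * u * p' with hd
    have hdE : d ∈ c'.E := by
      have := hc'.conjE (inv_mem (hc'.P_le hp')) hu.1
      rwa [inv_inv] at this
    set e3 := e2 * (p'⁻¹ * e2⁻¹ * p'⁻¹⁻¹) with he3
    have he3E : e3 ∈ c'.E := mul_mem he2 (hc'.conjE (inv_mem (hc'.P_le hp')) (inv_mem he2))
    have hinv : w * p' * w⁻¹ = e3 * p'⁻¹ := by
      rw [hwn, show e2 * n * p' * (e2 * n)⁻¹ = e2 * (n * p' * n⁻¹) * e2⁻¹ by group,
        hc'.inverts hn hnC hp', he3]
      group
    have h1 : p' * u * p'⁻¹ = e3 * d * e3⁻¹ := by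
      calc p' * u * p'⁻¹ = w * (p' * u * p'⁻¹) * w⁻¹ := by rw [← hvw, mul_inv_cancel_right]
        _ = (w * p' * w⁻¹) * (w * u * w⁻¹) * (w * p' * w⁻¹)⁻¹ := by group
        _ = e3 * p'⁻¹ * u * (e3 * p'⁻¹)⁻¹ := by
          rw [← huw, mul_inv_cancel_right, hinv]
        _ = e3 * d * e3⁻¹ := by rw [hd]; group
    have h2 : p' * u * p'⁻¹ = d ∨ p' * u * p'⁻¹ = d * c'.z := by
      rw [h1]
      rcases hc'.swap he3E hdE with e | e <;> rw [e]
      · exact Or.inl (by group)
      · refine Or.inr ?_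
        rw [← hc'.z_comm hdE]; group
    have hne2 : p' * p' ≠ 1 := fun e => by
      have h3 : p' ^ 3 = 1 :=
        orderOf_dvd_iff_pow_eq_one.1 (hc'.cardP ▸ Subgroup.orderOf_dvd_natCard c'.P hp')
      rw [pow_succ, pow_two, e, one_mul] at h3
      exact hp'1 h3
    have hzp : c'.z * p' = p' * c'.z := c'.mem_H.1 (hc'.P_le hp')
    have h3 : p' * p' * u * (p' * p')⁻¹ = u ∨ p' * p' * u * (p' * p')⁻¹ = u * c'.z := by
      rw [show p' * p' * u * (p' * p')⁻¹ = p' * (p' * u * p'⁻¹) * p'⁻¹ by group]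
      rcases h2 with e | e <;> rw [e, hd]
      · exact Or.inl (by group)
      · refine Or.inr ?_
        calc p' * (p'⁻¹ * u * p' * c'.z) * p'⁻¹ = u * (p' * c'.z) * p'⁻¹ := by group
          _ = u * c'.z := by rw [← hzp]; group
    rcases fixP_vec hc' (mul_mem hp' hp') hne2 hu.1 h3 with rfl | rfl
    · simp
    · show p' * c'.z * p'⁻¹ ∈ _
      rw [← hzp, mul_inv_cancel_right]
      exact mem_zpowers _
  have hYcard : Nat.card Y = Nat.card X := card_map_of_injective (MulAut.conj p').injective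
  have hXE : X ≤ c'.E := inf_le_left
  have hXi := (X.subgroupOf c'.E).card_mul_index
  have hYi := (Y.subgroupOf c'.E).card_mul_index
  rw [Nat.card_congr (subgroupOfEquivOfLe hXE).toEquiv, hc'.cardE] at hXi
  rw [Nat.card_congr (subgroupOfEquivOfLe hYE).toEquiv, hc'.cardE, hYcard] at hYi
  have hI := Subgroup.index_inf_le (H := X.subgroupOf c'.E) (K := Y.subgroupOf c'.E)
  have hIc := (X.subgroupOf c'.E ⊓ Y.subgroupOf c'.E).card_mul_index
  have h2 : Nat.card ↥(X.subgroupOf c'.E ⊓ Y.subgroupOf c'.E) ≤ 2 := by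
    rw [← hc'.ord, ← Nat.card_zpowers]
    exact Nat.card_le_card_of_injective
      (fun a : ↥(X.subgroupOf c'.E ⊓ Y.subgroupOf c'.E) =>
        (⟨((a : c'.E) : G), hinf _ ⟨a.2.1, a.2.2⟩⟩ : zpowers c'.z))
      fun a b h => Subtype.ext (Subtype.ext (congrArg Subtype.val h :))
  rw [hc'.cardE] at hIc
  have hX8 : (X.subgroupOf c'.E).index ≤ 8 := by nlinarith
  have hY8 : (Y.subgroupOf c'.E).index ≤ 8 := by nlinarith
  nlinarith [Nat.mul_le_mul hX8 hY8]

/-- The group of order eight is the same at each of its conjugates of `z`. -/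
theorem eight_eq {e g : G} (he : e ∈ six c Q) (hz : (c.conj g).z = e)
    (hl' : Loc (c.conj g) M Q) : eight (c.conj g) Q = eight c Q := by
  refine (Subgroup.eq_of_le_of_card_ge ?_ (by rw [hl.card_eight, hl'.card_eight])).symm
  refine (closure_le _).2 fun x hx => ?_
  refine hl'.mem_eight.2 ?_
  have hconj : ∀ y : G, IsConj c.z y → IsConj (c.conj g).z y := fun y hy => by
    rw [hz]; exact he.1.2.2.symm.trans hy
  rcases hx with rfl | hx
  · refine Or.inr (Or.inr ⟨⟨z_mem_conj hl.ok hl.data (by rw [hz]; exact he.1), ?_,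
      hconj _ (IsConj.refl _)⟩, hl.z_cent⟩)
    rw [hz]; exact fun h => he.1.2.1 h.symm
  · by_cases hxe : x = e
    · exact Or.inr (Or.inl (hxe.trans hz.symm))
    · exact Or.inr (Or.inr ⟨⟨hl.six_mem_conj he hz hl' hx, by rw [hz]; exact hxe,
        hconj _ hx.1.2.2⟩, hx.2⟩)

/-- Every non-trivial element of the group of order eight is a conjugate of `z` whose group is the
same. -/
theorem eight_at {a : G} (ha : a ∈ eight c Q) (ha1 : a ≠ 1) :
    ∃ g, (c.conj g).z = a ∧ Loc (c.conj g) M Q ∧ eight (c.conj g) Q = eight c Q := by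
  rcases hl.mem_eight.1 ha with h | h | h
  · exact absurd h ha1
  · obtain ⟨g, hg, hl'⟩ := hl.toBase.exists_loc_at (IsConj.refl c.z) hl.z_cent
    have hE : (c.conj g).E = (c.conj 1).E := E_unique hl.ok (hg.trans (by simp [Ctx.conj]))
    have hE1 : (c.conj 1).E = c.E := conj_E_eq hl.ok (one_mem _)
    refine ⟨g, hg.trans h.symm, hl', ?_⟩
    have hsix : six (c.conj g) Q = six c Q := by
      ext x
      show (x ∈ (c.conj g).E ∧ x ≠ (c.conj g).z ∧ IsConj (c.conj g).z x) ∧ _ ↔ _
      rw [hg, hE, hE1]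
      rfl
    show closure (insert (c.conj g).z (six (c.conj g) Q)) = _
    rw [hsix, hg]
    rfl
  · obtain ⟨g, hg, hl'⟩ := hl.toBase.exists_loc_at h.1.2.2 h.2
    exact ⟨g, hg, hl', hl.eight_eq h hg hl'⟩

end Loc

end Cfsg.Agent.H54.JFour
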