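import Cfsg.Agent.H54.JFour.Space
import Cfsg.Agent.H43.J4.ThreeSylow

/-!
General lemmas on the extraspecial group `E` of a context of Janko-four type and on elements of `E`
conjugate to the central involution.
-/

set_option autoImplicit false

namespace Cfsg.Agent.H54.JFour

open Subgroup Cfsg.Agent.H43.JFour Cfsg.Agent.H43.JFour.Ctx

universe u v

variable {G : Type u} [Group G] [Finite G] {A : Type v} [Group A] {M : Subgroup A} {c : Ctx G A}

/-- A fixed-point-free map of prime order divides the number of points. -/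
theorem prime_dvd_of_fpf {X : Type*} [Finite X] {p : ℕ} [Fact p.Prime] (f : X → X)
    (hf : f^[p] = id) (h : ∀ x, f x ≠ x) : p ∣ Nat.card X := by
  classical
  haveI := Fintype.ofFinite X
  haveI : IsEmpty (Function.fixedPoints (f : Function.End X)) := ⟨fun x => h _ x.2⟩
  have h1 := Equiv.Perm.card_fixedPoints_modEq (f := (f : Function.End X)) (p := p) (n := 1)
    (by rw [pow_one]; exact hf)
  rw [← Nat.card_eq_fintype_card, ← Nat.card_eq_fintype_card] at h1
  rw [Nat.card_of_isEmpty (α := Function.fixedPoints (f : Function.End X))] at h1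
  exact Nat.modEq_zero_iff_dvd.1 h1

/-- A point set with a map of prime order: the number of points is the number of fixed points modulo
the prime. -/
theorem card_mod_fixed {X : Type*} [Finite X] {p : ℕ} [Fact p.Prime] (f : X → X) (hf : f^[p] = id) :
    Nat.card X % p = Nat.card {x : X // f x = x} % p := by
  classical
  haveI := Fintype.ofFinite X
  have h1 := Equiv.Perm.card_fixedPoints_modEq (f := (f : Function.End X)) (p := p) (n := 1)
    (by rw [pow_one]; exact hf)
  rw [← Nat.card_eq_fintype_card, ← Nat.card_eq_fintype_card] at h1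
  exact h1

omit [Finite G] in
theorem mem_cent_one {g a : G} : g ∈ centralizer ({a} : Set G) ↔ g * a = a * g :=
  mem_centralizer_singleton_iff

omit [Finite G] in
/-- Inside a group with commutators in `⟨z⟩` the centraliser of a non-central element has index two. -/
theorem card_two_mul_cent (hc : c.Ok) {S : Subgroup G} (hS : S ≤ c.E) {a : G} (ha : a ∈ c.E)
    (hne : ∃ v ∈ S, v * a ≠ a * v) :
    Nat.card ↥(S ⊓ centralizer ({a} : Set G)) * 2 = Nat.card S := by
  have hidx : ((centralizer ({a} : Set G)).subgroupOf S).index = 2 := by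
    obtain ⟨v, hv, hva⟩ := hne
    rw [Subgroup.index_eq_two_iff]
    refine ⟨⟨v, hv⟩, fun b => ?_⟩
    simp only [mem_subgroupOf, Subgroup.coe_mul, mem_cent_one]
    have hbE := hS b.2
    have hvE := hS hv
    have e1 : v * a = c.z * (a * v) := (hc.swap hvE ha).resolve_left hva
    rcases hc.swap hbE ha with eb | eb
    · refine Or.inr ⟨eb, fun e => hva ?_⟩
      calc v * a = (b : G)⁻¹ * ((b : G) * v * a) := by group
        _ = (b : G)⁻¹ * (a * ((b : G) * v)) := by rw [e]
        _ = (b : G)⁻¹ * (a * (b : G)) * v := by group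
        _ = (b : G)⁻¹ * ((b : G) * a) * v := by rw [eb]
        _ = a * v := by group
    · refine Or.inl ⟨?_, fun e => hc.z_ne ?_⟩
      · calc (b : G) * v * a = (b : G) * (c.z * (a * v)) := by rw [mul_assoc, e1]
          _ = (b : G) * c.z * a * v := by group
          _ = c.z * ((b : G) * a) * v := by rw [← hc.z_comm hbE]; group
          _ = a * ((b : G) * v) := by rw [eb, ← mul_assoc c.z c.z, hc.z_sq, one_mul, mul_assoc]
      · exact mul_eq_right.1 (eb.symm.trans e)
  have h := ((centralizer ({a} : Set G)).subgroupOf S).card_mul_index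
  rw [hidx] at h
  rw [← h, ← Nat.card_congr (subgroupOfEquivOfLe (inf_le_left :
    S ⊓ centralizer ({a} : Set G) ≤ S)).toEquiv, inf_comm, inf_subgroupOf_right]

omit [Finite G] in
/-- Non-central elements of `E` are not centralised by `E`. -/
theorem exists_noncomm (hc : c.Ok) {a : G} (ha : a ∈ c.E) (h1 : a ≠ 1) (hz : a ≠ c.z) :
    ∃ v ∈ c.E, v * a ≠ a * v := by
  by_contra hall
  push Not at hall
  rcases hc.mem_of_center ha (fun b hb => (hall b hb).symm) with e | e
  exacts [h1 e, hz e]

theorem card_cent_E (hc : c.Ok) {a : G} (ha : a ∈ c.E) (h1 : a ≠ 1) (hz : a ≠ c.z) :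
    Nat.card ↥(c.E ⊓ centralizer ({a} : Set G)) = 2 ^ 12 := by
  have := card_two_mul_cent hc le_rfl ha (exists_noncomm hc ha h1 hz)
  rw [hc.cardE] at this
  omega

/-- Conjugates of the central involution in `E`, other than itself. -/
def zType (c : Ctx G A) : Set G := {a | a ∈ c.E ∧ a ≠ c.z ∧ IsConj c.z a}

omit [Finite G] in
theorem isConj_ord (hc : c.Ok) {a : G} (h : IsConj c.z a) : orderOf a = 2 := by
  obtain ⟨g, rfl⟩ := isConj_iff.1 h
  rw [← MulAut.conj_apply, MulEquiv.orderOf_eq]; exact hc.ord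

omit [Finite G] in
theorem isConj_ne (hc : c.Ok) {a : G} (h : IsConj c.z a) : a ≠ 1 := fun e => by
  have := isConj_ord hc h; rw [e, orderOf_one] at this; omega

omit [Finite G] in
theorem zType_flip (hc : c.Ok) {a : G} (ha : a ∈ zType c) : a * c.z ∈ zType c := by
  obtain ⟨haE, haz, hconj⟩ := ha
  refine ⟨mul_mem haE hc.z_mem, fun e => isConj_ne hc hconj (mul_eq_right.1 e), ?_⟩
  obtain ⟨v, hv, hva⟩ := exists_noncomm hc haE (isConj_ne hc hconj) haz
  refine hconj.trans (isConj_iff.2 ⟨v, ?_⟩)
  rw [(hc.swap hv haE).resolve_left hva, ← hc.z_comm haE]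
  group

omit [Finite G] in
theorem zType_conj (hc : c.Ok) {h a : G} (hh : h ∈ c.H) (ha : a ∈ zType c) :
    h * a * h⁻¹ ∈ zType c := by
  obtain ⟨haE, haz, hconj⟩ := ha
  refine ⟨hc.conjE hh haE, fun e => haz ?_, hconj.trans (isConj_iff.2 ⟨h, rfl⟩)⟩
  calc a = h⁻¹ * (h * a * h⁻¹) * h := by group
    _ = h⁻¹ * (c.z * h) := by rw [e, mul_assoc]
    _ = c.z := by rw [c.mem_H.1 hh]; group

omit [Finite G] in
/-- The extraspecial groups of two conjugate contexts with the same involution coincide. -/
theorem E_unique (hc : c.Ok) {g g' : G} (h : (c.conj g).z = (c.conj g').z) :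
    (c.conj g).E = (c.conj g').E := by
  have hh : g'⁻¹ * g ∈ c.H := by
    rw [c.mem_H]
    have h' : g * c.z * g⁻¹ = g' * c.z * g'⁻¹ := h
    calc c.z * (g'⁻¹ * g) = g'⁻¹ * (g' * c.z * g'⁻¹) * g := by group
      _ = g'⁻¹ * g * c.z := by rw [← h']; group
  ext x
  show x ∈ c.E.map _ ↔ x ∈ c.E.map _
  rw [mem_conj_map, mem_conj_map]
  have := (mem_normalizer_iff.1 (hc.norm hh) (g⁻¹ * x * g))
  rw [show g'⁻¹ * g * (g⁻¹ * x * g) * (g'⁻¹ * g)⁻¹ = g'⁻¹ * x * g' by group] at this
  exact this

/-- An involution of `E` conjugate to `z` has `z` in its own extraspecial group. -/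
theorem z_mem_conj (hc : c.Ok) (hd : AutData A M) {g : G} (he : (c.conj g).z ∈ zType c) :
    c.z ∈ (c.conj g).E := by
  set c' := c.conj g with hc'def
  have hc' : c'.Ok := hc.conj g
  obtain ⟨heE, hez, hconj⟩ := he
  set e := c'.z with hedef
  have he1 : e ≠ 1 := hc'.z_ne
  by_contra hzE
  set D := c.E ⊓ centralizer ({e} : Set G) with hD
  have hDcard : Nat.card D = 2 ^ 12 := card_cent_E hc heE he1 hez
  have hDH : D ≤ c'.H := inf_le_right
  have hA0 : ∀ a ∈ D, a ∈ c'.E → a = 1 ∨ a = e := by
    intro a haD haE'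
    -- such an element is central in `D`
    have hcen : ∀ v ∈ D, v * a = a * v := by
      intro v hv
      refine (hc.swap hv.1 haD.1).resolve_right fun e' => hzE ?_
      have h1 : v * a * v⁻¹ * a⁻¹ ∈ c'.E := mul_mem (hc'.conjE (hDH hv) haE') (inv_mem haE')
      rwa [e', show c.z * (a * v) * v⁻¹ * a⁻¹ = c.z by group] at h1
    by_cases ha : a ∈ zpowers c.z
    · exact (hc.mem_zp.1 ha).imp id fun e' => absurd (e' ▸ haE') hzE
    -- otherwise it agrees with `e` modulo the centre
    have ha1 : a ≠ 1 := fun e' => ha (e' ▸ one_mem _)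
    have haz : a ≠ c.z := fun e' => ha (e' ▸ mem_zpowers _)
    have hDle : D ≤ c.E ⊓ centralizer ({a} : Set G) := fun v hv =>
      ⟨hv.1, mem_cent_one.2 (hcen v hv)⟩
    have heq := Subgroup.eq_of_le_of_card_ge hDle (by rw [hDcard, card_cent_E hc haD.1 ha1 haz])
    have hprod : ∀ v ∈ c.E, v * (a * e) = a * e * v := by
      intro v hv
      by_cases hve : v * e = e * v
      · have h1 : v ∈ D := ⟨hv, mem_cent_one.2 hve⟩
        rw [← mul_assoc, hcen v h1, mul_assoc, hve, mul_assoc]
      · have hva : ¬ v * a = a * v := fun h => by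
          have : v ∈ c.E ⊓ centralizer ({a} : Set G) := ⟨hv, mem_cent_one.2 h⟩
          rw [← heq] at this
          exact hve (mem_cent_one.1 this.2)
        calc v * (a * e) = (v * a) * e := by group
          _ = c.z * (a * (v * e)) := by rw [(hc.swap hv haD.1).resolve_left hva]; group
          _ = (c.z * a * c.z) * (e * v) := by rw [(hc.swap hv heE).resolve_left hve]; group
          _ = a * e * v := by rw [hc.z_comm haD.1, mul_assoc a, hc.z_sq]; group
    have hee : e * e = 1 := hc'.z_sq
    rcases hc.mem_of_center (mul_mem haD.1 heE) (fun b hb => (hprod b hb).symm) with h | h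
    · exact Or.inr (by rw [eq_inv_of_mul_eq_one_left h, hc'.z_inv])
    · exfalso
      apply hzE
      rw [← h]
      exact mul_mem haE' hc'.z_mem
  -- the image in the quotient is a 2-group of order at least 2 ^ 11
  let f : D →* A := hc'.prHom.comp (inclusion hDH)
  have hker : Nat.card f.ker ≤ 2 := by
    rw [← hc'.ord, ← Nat.card_zpowers]
    refine Nat.card_le_card_of_injective
      (fun a : f.ker => (⟨((a : D) : G), ?_⟩ : zpowers e)) fun a b h => ?_
    · have h1 : ((a : D) : G) ∈ c'.E ⊔ c'.P :=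
        (hc'.pr_ker _ (hDH (a : D).2)).1 (MonoidHom.mem_ker.1 a.2)
      have h2 : ((a : D) : G) ^ (2 ^ 13) = 1 := by
        rw [← hc.cardE]
        exact orderOf_dvd_iff_pow_eq_one.1 (Subgroup.orderOf_dvd_natCard c.E (a : D).2.1)
      rcases hA0 _ (a : D).2 (hc'.mem_E_of_pow h1 h2) with h' | h' <;> rw [h']
      exacts [one_mem _, mem_zpowers _]
    · exact Subtype.ext (Subtype.ext (congrArg Subtype.val h :))
  haveI := hd.finite
  have h := f.ker.card_eq_card_quotient_mul_card_subgroup
  rw [Nat.card_congr (QuotientGroup.quotientKerEquivRange f).toEquiv, hDcard] at h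
  have hdvd : Nat.card f.range ∣ 887040 := hd.card ▸ Subgroup.card_subgroup_dvd_card _
  have hdvd' : Nat.card f.range ∣ 2 ^ 12 := ⟨_, h⟩
  obtain ⟨i, hi, hir⟩ := (Nat.dvd_prime_pow Nat.prime_two).1 hdvd'
  rw [hir] at h hdvd
  have h9 : i ≤ 8 := by
    by_contra h9
    have := (Nat.pow_dvd_pow 2 (show 9 ≤ i by omega)).trans hdvd
    omega
  interval_cases i <;> omega

end Cfsg.Agent.H54.JFour
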