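import Cfsg.Agent.H54.JFour.SevenQuot
import Cfsg.Agent.H54.JFour.FiveMain

/-!
An element of order seven commuting with an involution outside the class of `z` and with an element of
order five.
-/

set_option autoImplicit false

namespace Cfsg.Agent.H54.JFour

open Subgroup Cfsg.Agent.H43.JFour Cfsg.Agent.H43.JFour.Ctx

universe u v

variable {G : Type u} [Group G] [Finite G] {A : Type v} [Group A] {M : Subgroup A} {c : Ctx G A}

omit [Finite G] in
theorem NonzData.conj (hn : NonzData c) (g : G) : NonzData (c.conj g) := by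
  have key : ∀ t : G, ¬ IsConj (c.conj g).z t → ¬ IsConj c.z t := fun t h e =>
    h ((isConj_iff.2 ⟨g⁻¹, by show g⁻¹ * (g * c.z * g⁻¹) * g⁻¹⁻¹ = c.z; group⟩ :
      IsConj (g * c.z * g⁻¹) c.z).trans e)
  exact
    { shape := fun t h2 h => hn.shape t h2 (key t h)
      unique := hn.unique
      norm := fun U he hc t ht h1 h => hn.norm U he hc t ht h1 (key t h)
      small := fun U W he hc hW h => hn.small U W he hc hW fun w hw h1 => key w (h w hw h1) }

omit [Finite G] in
theorem NonzData.tdata (hn : NonzData c) : TData c := fun t h2 h => by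
  obtain ⟨U, htU, hel, hcard, -, π, σ, hsec, hπ⟩ := hn.shape t h2 h
  exact ⟨U, fun a ha => mem_cent_one.2 (mem_comm hel ha htU), hel, hcard, π, σ, hsec, hπ⟩

omit [Finite G] in
/-- An automorphism of a cyclic group of order seven inducing an element of two-power order has exponent
one or minus one. -/
theorem pow_two_part {x : G} (hx : x ^ 7 = 1) {y : G} {k : ℕ} (hy : y * x * y⁻¹ = x ^ k) {a : ℕ}
    (ha : y ^ (2 ^ a) = 1) : y * x * y⁻¹ = x ∨ y * x * y⁻¹ = x⁻¹ := by
  have hit : ∀ n : ℕ, y ^ n * x * (y ^ n)⁻¹ = x ^ (k ^ n) := by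
    intro n
    induction n with
    | zero => simp
    | succ n ih =>
      rw [pow_succ', show y * y ^ n * x * (y * y ^ n)⁻¹ = y * (y ^ n * x * (y ^ n)⁻¹) * y⁻¹ by group, ih,
        ← conj_pow, hy, ← pow_mul, pow_succ']
  by_cases hx1 : x = 1
  · left; rw [hx1]; group
  haveI : Fact (Nat.Prime 7) := ⟨by norm_num⟩
  have ho : orderOf x = 7 := orderOf_eq_prime hx hx1
  have h1 := hit (2 ^ a)
  rw [ha, one_mul, inv_one, mul_one] at h1
  have h2 : x ^ (k ^ 2 ^ a) = x ^ 1 := by rw [pow_one]; exact h1.symm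
  rw [pow_eq_pow_iff_modEq, ho] at h2
  have hk : k % 7 = 1 ∨ k % 7 = 6 := by
    have hmod : (k % 7) ^ 2 ^ a % 7 = 1 := by rw [← Nat.pow_mod]; exact h2
    have hlt : k % 7 < 7 := Nat.mod_lt _ (by norm_num)
    -- reduce the exponent modulo six
    have hper : ∀ j : ℕ, 2 ^ a = j → ∀ r : ℕ, r < 7 → r ^ j % 7 = 1 → r = 1 ∨ r = 6 := by
      intro j hj
      have h23 : j % 6 = 1 ∨ j % 6 = 2 ∨ j % 6 = 4 := by
        subst hj
        clear h2 hmod ha h1
        induction a with
        | zero => simp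
        | succ a ih => rw [pow_succ]; omega
      intro r hr he
      rcases Nat.eq_zero_or_pos r with rfl | hr0
      · rw [zero_pow (by rintro rfl; omega)] at he; omega
      have h6 : r ^ 6 % 7 = 1 := by interval_cases r <;> rfl
      have he' : r ^ (j % 6) % 7 = 1 := by
        conv_lhs at he => rw [← Nat.div_add_mod j 6, pow_add, pow_mul, Nat.mul_mod, Nat.pow_mod, h6, one_pow]
        simpa [Nat.mod_mod] using he
      rcases h23 with e | e | e <;> rw [e] at he' <;> interval_cases r <;> simp at he' ⊢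
    exact hper _ rfl _ hlt hmod
  rw [hy, ← pow_mod_orderOf, ho]
  rcases hk with e | e <;> rw [e]
  · exact Or.inl (pow_one x)
  · refine Or.inr (eq_inv_of_mul_eq_one_left ?_)
    rw [← pow_succ]; exact hx

namespace Loc

variable {Q : Subgroup G} (hl : Loc c M Q)
include hl

/-- The witness. -/
theorem seven_witness (hb : BaseSeven c M) (hn : NonzData c) :
    ∃ s t q : G, orderOf s = 7 ∧ orderOf t = 2 ∧ ¬ IsConj c.z t ∧ t * s = s * t ∧ orderOf q = 5 ∧
      q * s = s * q := by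
  haveI : Fact (Nat.Prime 7) := ⟨by norm_num⟩
  haveI : Fact (Nat.Prime 2) := ⟨Nat.prime_two⟩
  set C := centralizer (Q : Set G) with hC
  have hQC : Q ≤ C := by
    rw [hC, ← hl.cent_gen]
    intro a ha
    rw [← hl.zpowers_gen, mem_zpowers_iff] at ha
    obtain ⟨k, rfl⟩ := ha
    exact mem_cent_one.2 ((Commute.refl hl.gen).zpow_left k).eq
  have hQ'card : Nat.card (Q.subgroupOf C) = 5 := by
    rw [Nat.card_congr (subgroupOfEquivOfLe hQC).toEquiv, hl.card]
  have hCcard : Nat.card C = 6720 := (hl.five hn.tdata).card_five hQ'card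
  obtain ⟨sC, hs7⟩ := exists_prime_orderOf_dvd_card' (G := C) 7 (by rw [hCcard]; norm_num)
  set s : G := (sC : G) with hs
  have hso : orderOf s = 7 := by rw [hs, orderOf_coe]; exact hs7
  have hs7' : s ^ 7 = 1 := by rw [← hso, pow_orderOf_eq_one]
  set q := hl.gen with hq
  have hcq : ∀ {g : G}, g ∈ C → g * q = q * g := fun hg => by
    rw [hC, ← hl.cent_gen] at hg; exact mem_cent_one.1 hg
  have hqs : q * s = s * q := (hcq sC.2).symm
  obtain ⟨y0, hy0, hy0q⟩ := hl.exists_square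
  have hy0C : y0 * s * y0⁻¹ ∈ C := by
    rw [hC, ← hl.cent_gen]
    refine mem_cent_one.2 ?_
    have h1 : Commute (y0 * s * y0⁻¹) (q ^ 2) := by
      rw [← hy0q]
      show y0 * s * y0⁻¹ * (y0 * q * y0⁻¹) = y0 * q * y0⁻¹ * (y0 * s * y0⁻¹)
      calc _ = y0 * (s * q) * y0⁻¹ := by group
        _ = _ := by rw [← hqs]; group
    have h2 := h1.pow_right 3
    rwa [← pow_mul, show 2 * 3 = 5 + 1 from rfl, pow_succ, hl.gen_pow, one_mul] at h2
  have hf : (Nat.card C).factorization 7 = 1 := by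
    rw [hCcard, show 6720 = 7 ^ 1 * 960 by norm_num, Nat.factorization_mul (by norm_num) (by norm_num),
      Nat.factorization_pow]
    simp [(show Nat.Prime 7 by norm_num).factorization, Nat.factorization_eq_zero_of_not_dvd]
  have hs'7 : orderOf (⟨y0 * s * y0⁻¹, hy0C⟩ : C) = 7 := by
    rw [← orderOf_coe, ← hso]; exact MulEquiv.orderOf_eq (MulAut.conj y0) s
  let S₀ : Sylow 7 C := Sylow.ofCard (zpowers (⟨y0 * s * y0⁻¹, hy0C⟩ : C))
    (by rw [Nat.card_zpowers, hs'7, hf, pow_one])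
  let S₁ : Sylow 7 C := Sylow.ofCard (zpowers sC) (by rw [Nat.card_zpowers, hs7, hf, pow_one])
  obtain ⟨c0, hc0⟩ := MulAction.exists_smul_eq C S₀ S₁
  have hmem : c0 * ⟨y0 * s * y0⁻¹, hy0C⟩ * c0⁻¹ ∈ zpowers sC := by
    have : c0 * ⟨y0 * s * y0⁻¹, hy0C⟩ * c0⁻¹ ∈ (S₁ : Subgroup C) := by
      rw [← hc0, Sylow.coe_subgroup_smul]
      exact Subgroup.smul_mem_pointwise_smul _ (MulAut.conj c0) _ (mem_zpowers _)
    exact this
  obtain ⟨k, hk⟩ := (isOfFinOrder_of_finite sC).mem_powers_iff_mem_zpowers.2 hmem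
  set y1 := (c0 : G) * y0 with hy1
  have hy1s : y1 * s * y1⁻¹ = s ^ k := by
    have := congrArg Subtype.val hk
    simp only [SubmonoidClass.coe_pow, Subgroup.coe_mul, InvMemClass.coe_inv] at this
    rw [← hs] at this
    rw [this, hy1]; group
  have hy1q : y1 * q * y1⁻¹ = q ^ 2 := by
    rw [hy1, show (c0 : G) * y0 * q * ((c0 : G) * y0)⁻¹ = c0 * (y0 * q * y0⁻¹) * (c0 : G)⁻¹ by group, hy0q,
      ((show Commute (c0 : G) q from hcq c0.2).pow_right 2).eq, mul_inv_cancel_right]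
  obtain ⟨a, m, hm, hord⟩ := Nat.exists_eq_two_pow_mul_odd (orderOf_pos y1).ne'
  set y := y1 ^ m with hy
  have hya : y ^ (2 ^ a) = 1 := by rw [hy, ← pow_mul, mul_comm, ← hord, pow_orderOf_eq_one]
  have hpowq : ∀ n : ℕ, y1 ^ n * q * (y1 ^ n)⁻¹ = q ^ (2 ^ n) := by
    intro n
    induction n with
    | zero => simp
    | succ n ih =>
      rw [pow_succ', show y1 * y1 ^ n * q * (y1 * y1 ^ n)⁻¹ = y1 * (y1 ^ n * q * (y1 ^ n)⁻¹) * y1⁻¹ by group,
        ih, ← conj_pow, hy1q, ← pow_mul, pow_succ']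
  have hpows : ∀ n : ℕ, y1 ^ n * s * (y1 ^ n)⁻¹ = s ^ (k ^ n) := by
    intro n
    induction n with
    | zero => simp
    | succ n ih =>
      rw [pow_succ', show y1 * y1 ^ n * s * (y1 * y1 ^ n)⁻¹ = y1 * (y1 ^ n * s * (y1 ^ n)⁻¹) * y1⁻¹ by group,
        ih, ← conj_pow, hy1s, ← pow_mul, pow_succ']
  have hy_s := pow_two_part hs7' (hpows m) hya
  have hy2s : y * y * s = s * (y * y) := by
    refine mul_inv_eq_iff_eq_mul.1 ?_
    rw [show y * y * s * (y * y)⁻¹ = y * (y * s * y⁻¹) * y⁻¹ by group]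
    rcases hy_s with e | e
    · rw [e, e]
    · rw [e, show y * s⁻¹ * y⁻¹ = (y * s * y⁻¹)⁻¹ by group, e, inv_inv]
  have hy2q : y * y * q ≠ q * (y * y) := fun e => by
    have h1 : q ^ (2 ^ (m + m)) = q ^ 1 := by
      rw [← hpowq, pow_add, ← hy, e, mul_inv_cancel_right, pow_one]
    rw [pow_eq_pow_iff_modEq, hl.gen_ord] at h1
    obtain ⟨j, rfl⟩ := hm
    have : 2 ^ (2 * j + 1 + (2 * j + 1)) % 5 = 4 := by
      rw [show 2 * j + 1 + (2 * j + 1) = 4 * j + 2 by ring, pow_add, pow_mul, Nat.mul_mod, Nat.pow_mod]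
      norm_num
    have h2 : 2 ^ (2 * j + 1 + (2 * j + 1)) % 5 = 1 % 5 := h1
    omega
  have hy4q : (y ^ 4) * q = q * y ^ 4 := by
    refine mul_inv_eq_iff_eq_mul.1 ?_
    rw [hy, ← pow_mul, hpowq, mul_comm m 4, pow_mul]
    rw [← pow_mod_orderOf, hl.gen_ord, Nat.pow_mod]
    norm_num
  have hy4s : y ^ 4 * s = s * y ^ 4 := by
    rw [show y ^ 4 = (y * y) ^ 2 by simp only [pow_succ, pow_zero, one_mul, mul_assoc]]
    exact ((show Commute (y * y) s from hy2s).pow_left 2).eq
  have hy4 : y ^ 4 = 1 := by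
    by_contra hne
    set w := y ^ 4 with hw
    have hwa : orderOf w ∣ 2 ^ a := orderOf_dvd_of_pow_eq_one (by
      rw [hw, ← pow_mul, mul_comm, pow_mul, hya, one_pow])
    obtain ⟨b, -, hwb⟩ := (Nat.dvd_prime_pow Nat.prime_two).1 hwa
    rcases b with - | b
    · exact hne (orderOf_eq_one_iff.1 (by simpa using hwb))
    set i := w ^ (2 ^ b) with hi
    have hio : orderOf i = 2 := by
      rw [hi, orderOf_pow_of_dvd (by simp) (hwb ▸ pow_dvd_pow 2 (Nat.le_succ b)), hwb, pow_succ,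
        Nat.mul_div_cancel_left _ (by simp)]
    have his : i * s = s * i := ((show Commute w s from hy4s).pow_left _).eq
    have hiq : i * q = q * i := ((show Commute w q from hy4q).pow_left _).eq
    by_cases hiz : IsConj c.z i
    · have hiQ : i ∈ centralizer (Q : Set G) := by rw [← hl.cent_gen]; exact mem_cent_one.2 hiq
      obtain ⟨g, hg, hl'⟩ := hl.toBase.exists_loc_at hiz hiQ
      have hsK : s ∈ (c.conj g).H ⊓ centralizer (Q : Set G) :=
        ⟨(c.conj g).mem_H.2 (by rw [hg]; exact his), sC.2⟩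
      have hd := Subgroup.orderOf_dvd_natCard _ hsK
      rw [hl'.card_K, hso] at hd
      norm_num at hd
    · have hlt : LocT c M s i :=
        { hb with nonz := hn, ord := hso, t_ord := hio, t_not := hiz, comm := his }
      have hqm : q ∈ centralizer ({i} : Set G) ⊓ centralizer ({s} : Set G) :=
        ⟨mem_cent_one.2 hiq.symm, mem_cent_one.2 hqs⟩
      have hd := Subgroup.orderOf_dvd_natCard _ hqm
      rw [hlt.card_pair.1, hl.gen_ord] at hd
      norm_num at hd
  have hyy1 : y * y ≠ 1 := fun e => hy2q (by rw [e, one_mul, mul_one])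
  have hto : orderOf (y * y) = 2 := orderOf_eq_prime (by simpa only [pow_succ, pow_zero, one_mul, mul_assoc] using hy4) hyy1
  refine ⟨s, y * y, q, hso, hto, fun hz => hyy1 ?_, hy2s, hl.gen_ord, hqs⟩
  obtain ⟨g, hg, hls⟩ := hb.exists_loc_at hz hy2s hso
  have hyH : y ∈ (c.conj g).H := (c.conj g).mem_H.2 (by rw [hg]; group)
  rcases hy_s with e | e
  · exact hls.two_sq hyH (mul_inv_eq_iff_eq_mul.1 e) hya
  · exact absurd e (hls.no_inv hyH)

end Loc

end Cfsg.Agent.H54.JFour
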