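import Cfsg.Agent.H54.JFour.SevenVec
import Cfsg.Agent.H54.JFour.CentFive
import Cfsg.Agent.H43.J4.RankMain

/-!
The centraliser of an element of order seven inside the centraliser of the central involution.
-/

set_option autoImplicit false

namespace Cfsg.Agent.H54.JFour

open Subgroup Cfsg.Agent.H43.JFour Cfsg.Agent.H43.JFour.Ctx

universe u v

variable {G : Type u} [Group G] {A : Type v} [Group A]

/-- The facts about elements of order seven of `Aut M22`. -/
structure SevenFacts (A : Type v) [Group A] (M : Subgroup A) : Prop where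
  cent : ∀ a : A, orderOf a = 7 → Nat.card (centralizer ({a} : Set A)) = 14
  outer : ∀ a : A, orderOf a = 7 → ∃ u, u ∉ M ∧ u * a = a * u
  flip : ∀ a : A, orderOf a = 7 → ∃ y ∈ M, y * a * y⁻¹ = a ^ 2
  noinv : ∀ a : A, orderOf a = 7 → ∀ b : A, b * a * b⁻¹ ≠ a⁻¹

/-- Every outer involution of `A` is the image of an involution of `H`. -/
def OuterLift (c : Ctx G A) (M : Subgroup A) : Prop :=
  ∀ a : A, a ∉ M → orderOf a = 2 → ∃ x ∈ c.H, x * x = 1 ∧ c.pr x = a

/-- The hypotheses for the local analysis at elements of order seven. -/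
structure BaseSeven (c : Ctx G A) (M : Subgroup A) : Prop where
  ok : c.Ok
  data : AutData A M
  facts : SevenFacts A M
  lift : OuterLift c M

/-- An element of order seven of `C`. -/
structure LocSeven (c : Ctx G A) (M : Subgroup A) (s : G) : Prop extends BaseSeven c M where
  mem : s ∈ c.C
  ord : orderOf s = 7

variable {M : Subgroup A} {c : Ctx G A} {s : G}

theorem BaseSeven.conj (hb : BaseSeven c M) (g : G) : BaseSeven (c.conj g) M where
  ok := hb.ok.conj g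
  data := hb.data
  facts := hb.facts
  lift a ha ho := by
    obtain ⟨x, hx, hx2, hpr⟩ := hb.lift a ha ho
    refine ⟨g * x * g⁻¹, by rw [conj_H]; exact ⟨x, hx, rfl⟩, ?_, ?_⟩
    · rw [show g * x * g⁻¹ * (g * x * g⁻¹) = g * (x * x) * g⁻¹ by group, hx2]; group
    · show c.pr (g⁻¹ * (g * x * g⁻¹) * g) = a
      rw [show g⁻¹ * (g * x * g⁻¹) * g = x by group, hpr]

variable [Finite G]

theorem SevenFacts.mem_zpowers (hf : SevenFacts A M) [Finite A] {q : A} (hq : orderOf q = 7)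
    (hqM : q ∈ M) {a : A} (ha : a * q = q * a) (haM : a ∈ M) : a ∈ zpowers q := by
  set Cq := M ⊓ centralizer ({q} : Set A) with hCq
  have h1 : zpowers q ≤ Cq := zpowers_le.2 ⟨hqM, mem_cent_one.2 rfl⟩
  have h7 : 7 ∣ Nat.card Cq := hq ▸ Nat.card_zpowers q ▸ card_dvd_of_le h1
  have h14 : Nat.card Cq ∣ 14 := hf.cent q hq ▸ card_dvd_of_le inf_le_right
  have hne : Nat.card Cq ≠ 14 := fun h => by
    have he := Subgroup.eq_of_le_of_card_ge (inf_le_right : Cq ≤ _) (by rw [h, hf.cent q hq])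
    obtain ⟨u, hu, huq⟩ := hf.outer q hq
    have : u ∈ M ⊓ centralizer ({q} : Set A) := by rw [he]; exact mem_cent_one.2 huq
    exact hu this.1
  have hcard : Nat.card Cq = 7 := by
    obtain ⟨m, hm⟩ := h7
    have h3 := Nat.le_of_dvd (by norm_num) h14
    have h0 : 0 < Nat.card Cq := Nat.card_pos
    omega
  rw [Subgroup.eq_of_le_of_card_ge h1 (by rw [hcard, Nat.card_zpowers, hq])]
  exact ⟨haM, mem_cent_one.2 ha⟩

/-- A subgroup of order seven of `H` lies in `C` after conjugation of the context in `H`. -/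
theorem BaseSeven.exists_loc (hb : BaseSeven c M) (hs : s ∈ c.H) (h7 : orderOf s = 7) :
    ∃ h ∈ c.H, LocSeven (c.conj h) M s := by
  haveI : Fact (Nat.Prime 7) := ⟨by norm_num⟩
  have h7C : 7 ∣ Nat.card c.C := by rw [hb.ok.card_C hb.data]; norm_num
  obtain ⟨x, hx⟩ := exists_prime_orderOf_dvd_card' 7 h7C
  set Q0 : Subgroup G := zpowers (x : G) with hQ0
  have hQ0card : Nat.card Q0 = 7 := by rw [Nat.card_zpowers, orderOf_coe, hx]
  have hQ0C : Q0 ≤ c.C := zpowers_le.2 x.2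
  have hQ0H : Q0 ≤ c.H := hQ0C.trans inf_le_left
  have hQH : zpowers s ≤ c.H := zpowers_le.2 hs
  have hf : (Nat.card c.H).factorization 7 = 1 := by
    rw [hb.ok.card_H, hb.data.card,
      show 3 * 2 ^ 13 * 887040 = 7 ^ 1 * (3 * 2 ^ 13 * 126720) by norm_num,
      Nat.factorization_mul (by norm_num) (by norm_num), Nat.factorization_pow]
    simp [(show Nat.Prime 7 by norm_num).factorization, Nat.factorization_eq_zero_of_not_dvd]
  let S₀ : Sylow 7 c.H := Sylow.ofCard (Q0.subgroupOf c.H) (by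
    rw [Nat.card_congr (subgroupOfEquivOfLe hQ0H).toEquiv, hQ0card, hf, pow_one])
  let S₁ : Sylow 7 c.H := Sylow.ofCard ((zpowers s).subgroupOf c.H) (by
    rw [Nat.card_congr (subgroupOfEquivOfLe hQH).toEquiv, Nat.card_zpowers, h7, hf, pow_one])
  obtain ⟨h, hh⟩ := MulAction.exists_smul_eq c.H S₀ S₁
  refine ⟨h, h.2, hb.conj h, ?_, h7⟩
  rw [conj_C]
  have h1 : (⟨s, hs⟩ : c.H) ∈ (S₁ : Subgroup c.H) := mem_zpowers s
  rw [← hh, Sylow.coe_subgroup_smul] at h1
  obtain ⟨b, hb', e⟩ := h1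
  exact ⟨b, hQ0C hb', congrArg Subtype.val e⟩

/-- At any conjugate of `z` commuting with `s` there is a context with `s` in `C`. -/
theorem BaseSeven.exists_loc_at (hb : BaseSeven c M) {x : G} (hx : IsConj c.z x) (hxs : x * s = s * x)
    (h7 : orderOf s = 7) : ∃ g : G, (c.conj g).z = x ∧ LocSeven (c.conj g) M s := by
  obtain ⟨g, hg⟩ := isConj_iff.1 hx
  have hs : s ∈ (c.conj g).H := by
    rw [Ctx.mem_H, show (c.conj g).z = x from hg]
    exact hxs
  obtain ⟨h, hh, hl⟩ := (hb.conj g).exists_loc hs h7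
  have e1 : (c.conj g).conj h = c.conj (h * g) := by
    simp only [Ctx.conj, Subgroup.map_map]
    refine Ctx.mk.injEq .. |>.mpr ⟨by group, ?_, ?_, ?_⟩
    · congr 1; ext x; simp [mul_assoc]
    · congr 1; ext x; simp [mul_assoc]
    · funext x; congr 1; group
  rw [e1] at hl
  refine ⟨h * g, ?_, hl⟩
  rw [← e1, conj_z_eq hh]
  exact hg

namespace LocSeven

variable (hl : LocSeven c M s)
include hl

omit [Finite G] in
theorem s_H : s ∈ c.H := (mem_inf.1 hl.mem).1

omit [Finite G] in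
theorem s_pow : s ^ 7 = 1 := by rw [← hl.ord, pow_orderOf_eq_one]

omit [Finite G] in
theorem s_ne : s ≠ 1 := fun e => by have := hl.ord; rw [e, orderOf_one] at this; omega

theorem P_comm {p : G} (hp : p ∈ c.P) : p * s = s * p := hl.ok.P_central hp hl.mem

omit [Finite G] in
theorem pr_hom {g h : G} (hg : g ∈ c.H) (hh : h ∈ c.H) (hgs : g * h = h * g) :
    c.pr g * c.pr h = c.pr h * c.pr g := by
  rw [← hl.ok.pr_mul _ hg _ hh, hgs, hl.ok.pr_mul _ hh _ hg]

theorem pr_ord : orderOf (c.pr s) = 7 := by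
  haveI : Fact (Nat.Prime 7) := ⟨by norm_num⟩
  have h7 : c.pr s ^ 7 = 1 := by
    have := map_pow hl.ok.prHom ⟨_, hl.s_H⟩ 7
    rw [show (⟨s, hl.s_H⟩ : c.H) ^ 7 = 1 from Subtype.ext hl.s_pow, map_one] at this
    exact this.symm
  refine orderOf_eq_prime h7 fun h1 => ?_
  obtain ⟨p, hp, e⟩ := hl.ok.Nh_ker (c.C_le_Nh hl.mem) h1
  have hp6 : p ^ 6 = 1 := by
    rw [show 6 = 3 * 2 from rfl, pow_mul, pow_three', hl.ok.P_pow hp, one_pow]
  have h6 : s ^ 6 = 1 := by
    rcases e with e | e <;> rw [e]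
    · exact hp6
    · rw [(show Commute c.z p from c.mem_H.1 (hl.ok.P_le hp)).mul_pow, hp6,
        show 6 = 2 * 3 from rfl, pow_mul, pow_two, hl.ok.z_sq, one_pow, one_mul]
  have := hl.s_pow
  rw [pow_succ, h6, one_mul] at this
  exact hl.s_ne this

theorem pr_M : c.pr s ∈ M :=
  hl.data.mem_of_odd (n := 7) (by decide) (by rw [← hl.pr_ord, pow_orderOf_eq_one])

/-- Elements of `N_H(P)` act on `⟨s⟩` as their images do. -/
theorem lift_conj {n : G} (hn : n ∈ c.Nh) (k : ℕ)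
    (h : c.pr n * c.pr s * (c.pr n)⁻¹ = c.pr s ^ k) : n * s * n⁻¹ = s ^ k := by
  have hok := hl.ok
  have hqN : s ∈ c.Nh := c.C_le_Nh hl.mem
  set m := n * s * n⁻¹ * (s ^ k)⁻¹ with hm
  have hmN : m ∈ c.Nh := mul_mem (mul_mem (mul_mem hn hqN) (inv_mem hn)) (inv_mem (pow_mem hqN k))
  have hk : c.pr (s ^ k) = c.pr s ^ k := map_pow hok.prHom ⟨s, hl.s_H⟩ k
  have hm1 : c.pr m = 1 := by
    rw [hm, hok.pr_mul _ (mul_mem (mul_mem hn hqN) (inv_mem hn)).1 _ (inv_mem (pow_mem hqN k)).1,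
      hok.pr_conj hn.1 hl.s_H, hok.pr_inv (pow_mem hl.s_H k), hk, h, mul_inv_cancel]
  obtain ⟨p, hp, hmp⟩ := hok.Nh_ker hmN hm1
  have hp6 : p ^ 6 = 1 := by rw [show 6 = 3 * 2 from rfl, pow_mul, pow_three', hok.P_pow hp, one_pow]
  have hpc : Commute p (s ^ k) := hok.P_central hp (pow_mem hl.mem k)
  have hzc : Commute c.z (s ^ k) := c.mem_H.1 (pow_mem hl.s_H k)
  have hcomm : Commute m (s ^ k) := by
    rcases hmp with e | e <;> rw [e]
    exacts [hpc, hzc.mul_left hpc]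
  have hm6 : m ^ 6 = 1 := by
    rcases hmp with e | e <;> rw [e]
    · exact hp6
    · rw [(show Commute c.z p from c.mem_H.1 (hok.P_le hp)).mul_pow, hp6,
        show 6 = 2 * 3 from rfl, pow_mul, pow_two, hok.z_sq, one_pow, one_mul]
  have hm7 : m ^ 7 = 1 := by
    have e : (m * s ^ k) ^ 7 = 1 := by
      rw [hm, inv_mul_cancel_right, conj_pow, hl.s_pow, mul_one, mul_inv_cancel]
    rwa [hcomm.mul_pow, ← pow_mul, mul_comm, pow_mul, hl.s_pow, one_pow, mul_one] at e
  have hm0 : m = 1 := by rwa [pow_succ, hm6, one_mul] at hm7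
  rwa [hm, mul_inv_eq_one] at hm0

theorem exists_square : ∃ y ∈ c.C, y * s * y⁻¹ = s ^ 2 := by
  obtain ⟨b, hb, hbq⟩ := hl.facts.flip _ hl.pr_ord
  obtain ⟨y, hy, rfl⟩ := hl.ok.C_surj hl.data hb
  exact ⟨y, hy, hl.lift_conj (c.C_le_Nh hy) 2 hbq⟩

/-- No element of `H` inverts `s`. -/
theorem no_inv {g : G} (hg : g ∈ c.H) : g * s * g⁻¹ ≠ s⁻¹ := fun e => by
  refine hl.facts.noinv _ hl.pr_ord (c.pr g) ?_
  rw [← hl.ok.pr_conj hg hl.s_H, e, hl.ok.pr_inv hl.s_H]

/-- An involution inverting `P` and centralising `s`. -/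
theorem exists_outer : ∃ n ∈ c.Nh, c.pr n ∉ M ∧ n * n = 1 ∧ n * s = s * n := by
  haveI := hl.data.finite
  haveI := hl.data.normal
  haveI : Fact (Nat.Prime 2) := ⟨Nat.prime_two⟩
  obtain ⟨w, hwM, hws⟩ := hl.facts.outer _ hl.pr_ord
  have hw14 : w ^ 14 = 1 := orderOf_dvd_iff_pow_eq_one.1
    (hl.facts.cent _ hl.pr_ord ▸ Subgroup.orderOf_dvd_natCard _ (mem_cent_one.2 hws))
  have hsq : w ^ 2 ∈ M := hl.data.index ▸ Subgroup.pow_index_mem M w
  have haM : w ^ 7 ∉ M := fun h => hwM (by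
    have := mul_mem h (inv_mem (pow_mem hsq 3))
    rwa [← pow_mul, show 7 = 1 + 2 * 3 from rfl, pow_add, pow_one, mul_inv_cancel_right] at this)
  have hao : orderOf (w ^ 7) = 2 := orderOf_eq_prime (by rw [← pow_mul]; exact hw14)
    fun e => haM (e ▸ one_mem _)
  have has : w ^ 7 * c.pr s = c.pr s * w ^ 7 := ((show Commute w (c.pr s) from hws).pow_left 7).eq
  obtain ⟨x, hx, hx2, hxpr⟩ := hl.lift _ haM hao
  obtain ⟨n, hn, hnpr⟩ := hl.ok.Nh_surj (w ^ 7)
  have hnM : c.pr n ∉ M := hnpr ▸ haM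
  have hnC : n ∉ c.C := fun h => hnM ((hl.ok.mem_C_iff hl.data hn).1 h)
  have hns : n * s = s * n := by
    have := hl.lift_conj hn 1 (by rw [pow_one, hnpr, has, mul_inv_cancel_right])
    rwa [pow_one, mul_inv_eq_iff_eq_mul] at this
  refine ⟨n, hn, hnM, ?_, hns⟩
  -- the square is `1` or `z`
  have hsq' : n * n = 1 ∨ n * n = c.z := by
    obtain ⟨p, hp, e⟩ := hl.ok.Nh_ker (mul_mem hn hn) (by
      rw [hl.ok.pr_mul _ hn.1 _ hn.1, hnpr, ← pow_two, ← hao, pow_orderOf_eq_one])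
    have hp1 : p = p⁻¹ := by
      have h1 := hl.ok.inverts hn hnC hp
      rcases e with e | e
      · rw [← e] at h1 ⊢
        rw [← h1]; group
      · have h2 : n * (c.z * p) * n⁻¹ = c.z * p := by rw [← e]; group
        rw [show n * (c.z * p) * n⁻¹ = n * c.z * n⁻¹ * (n * p * n⁻¹) by group, ← c.mem_H.1 hn.1,
          mul_inv_cancel_right, h1] at h2
        exact (mul_left_cancel h2).symm
    have hp0 : p = 1 := by
      have h3 := hl.ok.P_pow hp
      rwa [show p * p = 1 by nth_rewrite 2 [hp1]; exact mul_inv_cancel p, one_mul] at h3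
    subst hp0
    simpa using e
  refine hsq'.resolve_right fun hnn => hl.ok.z_ne ?_
  -- the involution `x` gives a contradiction
  have hker : x * n⁻¹ ∈ c.E ⊔ c.P := (hl.ok.pr_ker _ (mul_mem hx (inv_mem hn.1))).1 (by
    rw [hl.ok.pr_mul _ hx _ (inv_mem hn.1), hl.ok.pr_inv hn.1, hxpr, hnpr, mul_inv_cancel])
  obtain ⟨e, he, p, hp, hep⟩ := exists_mul_of_mem_sup hl.ok.P_norm hker
  have hpH := hl.ok.P_le hp
  set e' := p * e * p⁻¹ with he'
  have he'E : e' ∈ c.E := hl.ok.conjE hpH he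
  have hy : p * x * p⁻¹ = e' * n := by
    have hinv := hl.ok.inverts hn hnC (inv_mem hp)
    rw [inv_inv] at hinv
    calc p * x * p⁻¹ = p * (x * n⁻¹) * (n * p⁻¹ * n⁻¹) * n := by group
      _ = p * (e * p) * p * n := by rw [hinv, hep]
      _ = e' * (p * p * p) * n := by rw [he']; group
      _ = e' * n := by rw [hl.ok.P_pow hp, mul_one]
  have h22 : e' * n * (e' * n) = 1 := by
    rw [← hy, show p * x * p⁻¹ * (p * x * p⁻¹) = p * (x * x) * p⁻¹ by group, hx2]; group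
  have hne' : e' * (n * e' * n⁻¹) * (n * n) = 1 := by rw [← h22]; group
  have hinvol := hl.ok.involMod_of_sq (Or.inr hnn)
  have hfix : e' ∈ hl.ok.fixMod n := by
    refine ⟨he'E, hl.ok.eqz_trans (hl.ok.eqz_inv_self he'E) ?_⟩
    have h1 : n * e' * n⁻¹ = e'⁻¹ * (n * n)⁻¹ := by
      calc n * e' * n⁻¹ = e'⁻¹ * (e' * (n * e' * n⁻¹) * (n * n)) * (n * n)⁻¹ := by group
        _ = _ := by rw [hne', mul_one]
    rw [h1, hnn, hl.ok.z_inv]
    exact Or.inr (hl.ok.z_comm (inv_mem he'E)).symm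
  rw [← (hl.ok.card_fix_outer hl.data hn.1 hnM hinvol).2.2] at hfix
  obtain ⟨v, hv, ev⟩ := hfix
  have hone : e' * (n * e' * n⁻¹) = 1 := by
    set u := v * (n * v⁻¹ * n⁻¹) with hu
    have huu : u * (n * u * n⁻¹) = 1 := by
      rw [hu]
      calc v * (n * v⁻¹ * n⁻¹) * (n * (v * (n * v⁻¹ * n⁻¹)) * n⁻¹)
          = v * ((n * n) * v⁻¹ * (n * n)⁻¹) := by group
        _ = 1 := by rw [hnn, hl.ok.z_comm (inv_mem hv), mul_inv_cancel_right, mul_inv_cancel]
    rcases ev with f | f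
    · rw [f]; exact huu
    · rw [f, show c.z * u * (n * (c.z * u) * n⁻¹) = c.z * u * (n * c.z * n⁻¹) * (n * u * n⁻¹) by group,
        ← c.mem_H.1 hn.1, mul_inv_cancel_right, hl.ok.z_comm (hl.ok.cm_mem hn.1 hv), mul_assoc u,
        hl.ok.z_sq, mul_one]
      exact huu
  rw [hone, one_mul] at hne'
  rw [← hnn]; exact hne'

/-- The inner part of `C_H(s)`. -/
theorem inner_split {g : G} (hg : g ∈ c.H) (hgs : g * s = s * g) (hM : c.pr g ∈ M) :
    ∃ ζ ∈ zpowers c.z, ∃ p ∈ c.P, ∃ r ∈ zpowers s, g = ζ * p * r := by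
  haveI := hl.data.finite
  obtain ⟨k, hk⟩ := mem_zpowers_iff.1
    (hl.facts.mem_zpowers hl.pr_ord hl.pr_M (hl.pr_hom hg hl.s_H hgs) hM)
  set r := s ^ k with hr
  have hrH : r ∈ c.H := zpow_mem hl.s_H k
  have h1 : c.pr (g * r⁻¹) = 1 := by
    rw [hl.ok.pr_mul _ hg _ (inv_mem hrH), hl.ok.pr_inv hrH,
      show c.pr r = c.pr s ^ k from map_zpow hl.ok.prHom ⟨_, hl.s_H⟩ k, hk, mul_inv_cancel]
  obtain ⟨e, he, p, hp, hep⟩ := exists_mul_of_mem_sup hl.ok.P_norm
    ((hl.ok.pr_ker _ (mul_mem hg (inv_mem hrH))).1 h1)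
  have hes : s * e = e * s := by
    have h2 : Commute s (g * r⁻¹) :=
      (show Commute s g from hgs.symm).mul_right ((Commute.refl s).zpow_right k).inv_right
    rw [hep] at h2
    have h3 := h2.mul_right (show Commute s p from (hl.P_comm hp).symm).inv_right
    rwa [mul_inv_cancel_right] at h3
  refine ⟨e, hl.ok.mem_zp.2 (fix_E_seven hl.ok hl.mem hl.ord he hes), p, hp, r,
    zpow_mem (mem_zpowers s) k, ?_⟩
  rw [← hep, inv_mul_cancel_right]

/-- An element of two-power order of the inner part is `1` or `z`. -/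
theorem inner_two {g : G} (hg : g ∈ c.H) (hgs : g * s = s * g) (hM : c.pr g ∈ M) {k : ℕ}
    (hk : g ^ (2 ^ k) = 1) : g = 1 ∨ g = c.z := by
  obtain ⟨ζ, hζ, p, hp, r, hr, rfl⟩ := hl.inner_split hg hgs hM
  obtain ⟨i, rfl⟩ := mem_zpowers_iff.1 hr
  have hp3 : p ^ 3 = 1 := by rw [pow_three']; exact hl.ok.P_pow hp
  have hζc : ∀ x ∈ c.H, Commute ζ x := fun x hx => by
    obtain ⟨j, rfl⟩ := mem_zpowers_iff.1 hζ
    exact (show Commute c.z x from c.mem_H.1 hx).zpow_left j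
  have h21 : (ζ * p * s ^ i) ^ 21 = ζ := by
    have c1 : Commute (ζ * p) (s ^ i) :=
      (hζc _ (zpow_mem hl.s_H i)).mul_left ((show Commute p s from hl.P_comm hp).zpow_right i)
    rw [c1.mul_pow, (hζc p (hl.ok.P_le hp)).mul_pow,
      show p ^ 21 = 1 by rw [show 21 = 3 * 7 from rfl, pow_mul, hp3, one_pow],
      show (s ^ i) ^ 21 = 1 by
        rw [← zpow_natCast, ← zpow_mul, mul_comm, zpow_mul, zpow_natCast, show 21 = 7 * 3 from rfl,
          pow_mul, hl.s_pow, one_pow, one_zpow], mul_one, mul_one]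
    rcases hl.ok.mem_zp.1 hζ with e | e <;> rw [e]
    · exact one_pow 21
    · rw [pow_succ, show 20 = 2 * 10 from rfl, pow_mul, pow_two, hl.ok.z_sq, one_pow, one_mul]
  have hsq : (ζ * p * s ^ i) ^ 42 = 1 := by
    rw [show 42 = 21 * 2 from rfl, pow_mul, h21, pow_two]
    rcases hl.ok.mem_zp.1 hζ with e | e <;> rw [e]
    exacts [one_mul 1, hl.ok.z_sq]
  have h2 : orderOf (ζ * p * s ^ i) ∣ 2 := by
    have h := Nat.dvd_gcd (orderOf_dvd_of_pow_eq_one hk) (orderOf_dvd_of_pow_eq_one hsq)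
    refine h.trans ?_
    rcases k with - | k
    · simp
    · rw [show 2 ^ (k + 1) = 2 * 2 ^ k by ring, show 42 = 2 * 21 from rfl, Nat.gcd_mul_left,
        ((by decide : Nat.Coprime 2 21).pow_left k).gcd_eq_one, mul_one]
  rw [show ζ * p * s ^ i = (ζ * p * s ^ i) ^ 21 by
    rw [pow_succ, show 20 = 2 * 10 from rfl, pow_mul, orderOf_dvd_iff_pow_eq_one.1 h2, one_pow,
      one_mul], h21]
  exact hl.ok.mem_zp.1 hζ

/-- Elements of two-power order of `C_H(s)` are involutions. -/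
theorem two_sq {g : G} (hg : g ∈ c.H) (hgs : g * s = s * g) {k : ℕ} (hk : g ^ (2 ^ k) = 1) :
    g * g = 1 := by
  haveI := hl.data.finite
  haveI := hl.data.normal
  by_cases hM : c.pr g ∈ M
  · rcases hl.inner_two hg hgs hM hk with e | e <;> rw [e]
    exacts [one_mul 1, hl.ok.z_sq]
  obtain ⟨n, hn, hnM, hnn, hns⟩ := hl.exists_outer
  have hgn : g * n ∈ c.H := mul_mem hg hn.1
  have hgnM : c.pr (g * n) ∈ M := by
    rw [hl.ok.pr_mul _ hg _ hn.1]
    exact (Subgroup.mul_mem_iff_of_index_two hl.data.index).2 (iff_of_false hM hnM)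
  obtain ⟨ζ, hζ, p, hp, r, hr, e⟩ := hl.inner_split hgn
    (show Commute (g * n) s from (show Commute g s from hgs).mul_left hns).eq hgnM
  have hg' : g = ζ * p * r * n := by rw [← e, mul_assoc, hnn, mul_one]
  have hnC : n ∉ c.C := fun h => hnM ((hl.ok.mem_C_iff hl.data hn).1 h)
  have hnp : n * p = p⁻¹ * n := by rw [← hl.ok.inverts hn hnC hp]; group
  obtain ⟨i, rfl⟩ := mem_zpowers_iff.1 hr
  have hζH : ∀ x ∈ c.H, Commute ζ x := fun x hx => by
    obtain ⟨j, rfl⟩ := mem_zpowers_iff.1 hζ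
    exact (show Commute c.z x from c.mem_H.1 hx).zpow_left j
  have hnr : Commute n (s ^ i) := (show Commute n s from hns).zpow_right i
  have hpr : Commute p⁻¹ (s ^ i) := ((show Commute p s from hl.P_comm hp).zpow_right i).inv_left
  have hgg : g * g = s ^ i * s ^ i := by
    rw [hg']
    calc ζ * p * s ^ i * n * (ζ * p * s ^ i * n)
        = ζ * p * s ^ i * ((n * ζ) * p) * s ^ i * n := by group
      _ = ζ * p * (s ^ i * ζ) * ((n * p) * s ^ i * n) := by rw [← (hζH n hn.1).eq]; group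
      _ = ζ * (p * ζ) * (s ^ i * ((n * p) * s ^ i * n)) := by rw [← (hζH _ (zpow_mem hl.s_H i)).eq]; group
      _ = ζ * ζ * p * (s ^ i * (p⁻¹ * (n * s ^ i) * n)) := by
          rw [← (hζH p (hl.ok.P_le hp)).eq, hnp]; group
      _ = ζ * ζ * p * ((s ^ i * p⁻¹) * s ^ i * (n * n)) := by rw [hnr.eq]; group
      _ = _ := by
          rw [← hpr.eq, hnn]
          rcases hl.ok.mem_zp.1 hζ with e | e <;> rw [e]
          · group
          · rw [hl.ok.z_sq]; group
  have h1 : orderOf (g * g) ∣ 7 := orderOf_dvd_of_pow_eq_one (by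
    rw [hgg, ← zpow_add, ← zpow_natCast, ← zpow_mul, mul_comm, zpow_mul, zpow_natCast, hl.s_pow,
      one_zpow])
  have h2 : orderOf (g * g) ∣ 2 ^ k := orderOf_dvd_of_pow_eq_one (by
    rw [← pow_two, ← pow_mul, mul_comm, pow_mul, hk, one_pow])
  exact orderOf_eq_one_iff.1 (Nat.eq_one_of_dvd_coprimes
    ((by decide : Nat.Coprime 7 2).pow_right k) h1 h2)

/-- Subgroups of exponent two of `C_H(s)` have order at most four. -/
theorem two_card_le {B : Subgroup G} (hB : ∀ b ∈ B, b * b = 1) (hBH : B ≤ c.H)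
    (hBs : ∀ b ∈ B, b * s = s * b) : Nat.card B ≤ 4 := by
  haveI := hl.data.finite
  haveI := hl.data.normal
  let f : B →* A ⧸ M := (QuotientGroup.mk' M).comp (hl.ok.prHom.comp (inclusion hBH))
  have h := f.ker.card_eq_card_quotient_mul_card_subgroup
  rw [Nat.card_congr (QuotientGroup.quotientKerEquivRange f).toEquiv] at h
  have h1 : Nat.card f.range ≤ 2 :=
    (Nat.le_of_dvd Nat.card_pos (Subgroup.card_subgroup_dvd_card _)).trans
      (le_of_eq hl.data.index)
  have h2 : Nat.card f.ker ≤ Nat.card (zpowers c.z) := by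
    refine Nat.card_le_card_of_injective (fun b : f.ker => (⟨((b : B) : G), hl.ok.mem_zp.2
      (hl.inner_two (hBH (b : B).2) (hBs _ (b : B).2)
        ((QuotientGroup.eq_one_iff _).1 (MonoidHom.mem_ker.1 b.2)) (k := 1)
        (by rw [pow_one, pow_two]; exact hB _ (b : B).2))⟩ : zpowers c.z)) ?_
    exact fun a b e => Subtype.ext (Subtype.ext (congrArg Subtype.val e :))
  rw [Nat.card_zpowers, hl.ok.ord] at h2
  rw [h]
  exact Nat.mul_le_mul h1 h2

end LocSeven

end Cfsg.Agent.H54.JFour
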