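import Cfsg.Agent.H54.JFour.SevenX
import Cfsg.Agent.H54.JFour.SevenFive
import Cfsg.Prelude.Def_TwoFusion

/-!
The centraliser and the normaliser of a subgroup of order seven of the centraliser of the central
involution.
-/

set_option autoImplicit false

namespace Cfsg.Agent.H54.JFour

open Subgroup Cfsg.Agent.H43.JFour Cfsg.Agent.H43.JFour.Ctx

universe u v

variable {G : Type u} [Group G] [Finite G] {A : Type v} [Group A] {M : Subgroup A} {c : Ctx G A} {s : G}

/-- Subgroups of order seven are conjugate when seven divides the order exactly once. -/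
theorem conj_zpowers_seven {K : Subgroup G} (hf : (Nat.card K).factorization 7 = 1) {a b : G} (ha : a ∈ K)
    (hb : b ∈ K) (hao : orderOf a = 7) (hbo : orderOf b = 7) : ∃ k ∈ K, k * a * k⁻¹ ∈ zpowers b := by
  haveI : Fact (Nat.Prime 7) := ⟨by norm_num⟩
  let S₀ : Sylow 7 K := Sylow.ofCard (zpowers (⟨a, ha⟩ : K))
    (by rw [Nat.card_zpowers, Subgroup.orderOf_mk, hao, hf, pow_one])
  let S₁ : Sylow 7 K := Sylow.ofCard (zpowers (⟨b, hb⟩ : K))
    (by rw [Nat.card_zpowers, Subgroup.orderOf_mk, hbo, hf, pow_one])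
  obtain ⟨k, hk⟩ := MulAction.exists_smul_eq K S₀ S₁
  refine ⟨k, k.2, ?_⟩
  have h : k * ⟨a, ha⟩ * k⁻¹ ∈ (S₁ : Subgroup K) := by
    rw [← hk, Sylow.coe_subgroup_smul]
    exact Subgroup.smul_mem_pointwise_smul _ (MulAut.conj k) _ (mem_zpowers _)
  obtain ⟨i, hi⟩ := mem_zpowers_iff.1 (show k * ⟨a, ha⟩ * k⁻¹ ∈ zpowers (⟨b, hb⟩ : K) from h)
  exact mem_zpowers_iff.2 ⟨i, congrArg Subtype.val hi⟩

/-- An element commuting with a generator of `⟨s⟩` commutes with `s`. -/
theorem comm_gen {a x : G} (h7 : orderOf s = 7) (ha : a ∈ zpowers s) (hao : orderOf a = 7)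
    (hx : x * a = a * x) : x * s = s * x := by
  have e : zpowers a = zpowers s := Subgroup.eq_of_le_of_card_ge (zpowers_le.2 ha)
    (by rw [Nat.card_zpowers, Nat.card_zpowers, h7, hao])
  obtain ⟨i, hi⟩ := mem_zpowers_iff.1 (e ▸ mem_zpowers s : s ∈ zpowers a)
  rw [← hi]
  exact ((show Commute x a from hx).zpow_right i).eq

/-- The square of seven does not divide the order of the group when the centraliser does not allow it. -/
theorem not_sq_seven (h7 : orderOf s = 7) (hn : ¬ 49 ∣ Nat.card (centralizer ({s} : Set G))) :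
    ¬ 49 ∣ Nat.card G := fun h49 => by
  haveI : Fact (Nat.Prime 7) := ⟨by norm_num⟩
  obtain ⟨K, hK, hsK⟩ := Sylow.exists_subgroup_card_pow_prime_le (p := 7) (m := 2) (n := 1)
    (by norm_num; exact h49) (zpowers s) (by rw [Nat.card_zpowers, h7, pow_one]) (by norm_num)
  haveI : IsMulCommutative K := IsPGroup.isMulCommutative_of_card_eq_prime_sq (p := 7) (by rw [hK])
  have hcomm : ∀ a b : K, a * b = b * a := mul_comm'
  have hKC : K ≤ centralizer ({s} : Set G) := fun k hk => mem_cent_one.2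
    (congrArg Subtype.val (hcomm ⟨k, hk⟩ ⟨s, hsK (mem_zpowers s)⟩))
  have h := card_dvd_of_le hKC
  rw [hK] at h
  exact hn h

omit [Finite G] in
/-- An element of order five of the centraliser gives an element of order five of the quotient. -/
theorem five_dvd_quot (h7 : orderOf s = 7) {q : G} (hq : orderOf q = 5) (hqs : q * s = s * q) :
    5 ∣ Nat.card (centralizer ({s} : Set G) ⧸ gq s) := by
  haveI : Fact (Nat.Prime 5) := ⟨by norm_num⟩
  set qC : centralizer ({s} : Set G) := ⟨q, mem_cent_one.2 hqs⟩ with hqC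
  have h5 : qC ^ 5 = 1 := Subtype.ext (by
    rw [SubmonoidClass.coe_pow, hqC, ← hq]; exact pow_orderOf_eq_one q)
  have ho : orderOf (QuotientGroup.mk qC : _ ⧸ gq s) = 5 := by
    refine orderOf_eq_prime (by rw [← QuotientGroup.mk_pow, h5, QuotientGroup.mk_one]) fun e => ?_
    have h := gq_pow h7 ((QuotientGroup.eq_one_iff qC).1 e)
    have h1 : qC = 1 := by
      have h2 : qC ^ 2 = 1 := by rwa [show 7 = 5 + 2 from rfl, pow_add, h5, one_mul] at h
      calc qC = qC ^ 5 * ((qC ^ 2) ^ 2)⁻¹ := by group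
        _ = 1 := by rw [h5, h2]; group
    have : q = 1 := congrArg Subtype.val h1
    rw [this, orderOf_one] at hq
    omega
  exact ho ▸ orderOf_dvd_natCard _

omit [Finite G] in
theorem conj_val {x y : centralizer ({s} : Set G)} (h : IsConj x y) : IsConj (x : G) y := by
  obtain ⟨g, hg⟩ := isConj_iff.1 h
  exact isConj_iff.2 ⟨g, congrArg Subtype.val hg⟩

omit [Finite G] in
theorem card_quot (h7 : orderOf s = 7) : Nat.card (centralizer ({s} : Set G)) =
    Nat.card (centralizer ({s} : Set G) ⧸ gq s) * 7 := by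
  rw [(gq s).card_eq_card_quotient_mul_card_subgroup, card_gq, h7]

/-- The witness for the local analysis. -/
def Witness (c : Ctx G A) (s : G) : Prop :=
  ∃ t q : G, orderOf t = 2 ∧ ¬ IsConj c.z t ∧ t * s = s * t ∧ orderOf q = 5 ∧ q * s = s * q

namespace LocSeven

variable (hl : LocSeven c M s)
include hl

theorem fact_H : (Nat.card c.H).factorization 7 = 1 := by
  rw [hl.ok.card_H, hl.data.card,
    show 3 * 2 ^ 13 * 887040 = 7 ^ 1 * (3 * 2 ^ 13 * 126720) by norm_num,
    Nat.factorization_mul (by norm_num) (by norm_num), Nat.factorization_pow]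
  simp [(show Nat.Prime 7 by norm_num).factorization, Nat.factorization_eq_zero_of_not_dvd]

/-- The witness moves to `s`. -/
theorem witness (hn : NonzData c) (hw : ∃ s' : G, orderOf s' = 7 ∧ Witness c s') : Witness c s := by
  haveI : Fact (Nat.Prime 7) := ⟨by norm_num⟩
  obtain ⟨s', hs', t, q, ht, htz, hts, hq, hqs⟩ := hw
  obtain ⟨x, hx, hxs⟩ : ∃ x, IsConj c.z x ∧ x * s' = s' * x := by
    by_contra hno
    push Not at hno
    have hlt : ∀ y : G, orderOf y = 2 → y * s' = s' * y → LocT c M s' y := fun y hy hys =>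
      { hl.toBaseSeven with
        nonz := hn, ord := hs', t_ord := hy, t_not := fun e => hno y e hys, comm := hys }
    have hX : Nat.card (centralizer ({s'} : Set G) ⧸ gq s') = 360 := by
      refine card_of_all_dihedral (t := QuotientGroup.mk ⟨t, mem_cent_one.2 hts⟩) ?_ ?_
        (five_dvd_quot hs' hq hqs)
      · exact mk_ord hs' (Subtype.ext (sq_of_ord ht)) fun e => ne_of_ord ht (congrArg Subtype.val e)
      · intro y hy
        obtain ⟨w, hw2, hw1, rfl⟩ := lift_invol hs' hy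
        haveI : Fact (Nat.Prime 2) := ⟨Nat.prime_two⟩
        have hwo : orderOf (w : G) = 2 := orderOf_eq_prime
          (by rw [pow_two]; exact congrArg Subtype.val hw2) fun e => hw1 (Subtype.ext e)
        exact (hlt w hwo (mem_cent_one.1 w.2)).quot_dihedral w rfl
    have hC : Nat.card (centralizer ({s'} : Set G)) = 2520 := by rw [card_quot hs', hX]
    have h49 := not_sq_seven hs' (by rw [hC]; norm_num)
    have hf : (Nat.card (⊤ : Subgroup G)).factorization 7 = 1 := by
      have h7d : 7 ∣ Nat.card G := hs' ▸ orderOf_dvd_natCard s'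
      have h1 := ((show Nat.Prime 7 by norm_num).pow_dvd_iff_le_factorization Nat.card_pos.ne' (k := 1)).1
        (by rw [pow_one]; exact h7d)
      have h2 := mt ((show Nat.Prime 7 by norm_num).pow_dvd_iff_le_factorization Nat.card_pos.ne' (k := 2)).2
        (by norm_num; exact h49)
      rw [Subgroup.card_top]; omega
    obtain ⟨g, -, hg⟩ := conj_zpowers_seven hf (mem_top s) (mem_top s') hl.ord hs'
    have hzs : c.z * s = s * c.z := c.mem_H.1 hl.s_H
    refine hno (g * c.z * g⁻¹) (isConj_iff.2 ⟨g, rfl⟩) (comm_gen hs' hg ?_ ?_)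
    · rw [← hl.ord]; exact MulEquiv.orderOf_eq (MulAut.conj g) s
    · calc g * c.z * g⁻¹ * (g * s * g⁻¹) = g * (c.z * s) * g⁻¹ := by group
        _ = g * (s * c.z) * g⁻¹ := by rw [hzs]
        _ = _ := by group
  obtain ⟨g, -, hl'⟩ := hl.toBaseSeven.exists_loc_at hx hxs hs'
  have hs'H : g⁻¹ * s' * g ∈ c.H := by
    have := hl'.s_H
    rw [conj_H] at this
    obtain ⟨b, hb, e⟩ := this
    rw [show g⁻¹ * s' * g = b by rw [← e]; show g⁻¹ * (g * b * g⁻¹) * g = b; group]
    exact hb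
  have ho : orderOf (g⁻¹ * s' * g) = 7 := by
    rw [← hs']; exact (MulEquiv.orderOf_eq (MulAut.conj g⁻¹) s' ▸ by simp)
  obtain ⟨h, -, hh⟩ := conj_zpowers_seven hl.fact_H hs'H hl.s_H ho hl.ord
  set d := h * g⁻¹ with hd
  have hds : d * s' * d⁻¹ ∈ zpowers s := by
    rw [show d * s' * d⁻¹ = h * (g⁻¹ * s' * g) * h⁻¹ by rw [hd]; group]; exact hh
  have hdo : orderOf (d * s' * d⁻¹) = 7 := by rw [← hs']; exact MulEquiv.orderOf_eq (MulAut.conj d) s'
  refine ⟨d * t * d⁻¹, d * q * d⁻¹, by rw [← ht]; exact MulEquiv.orderOf_eq (MulAut.conj d) t,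
    fun e => htz (e.trans (isConj_iff.2 ⟨d⁻¹, by group⟩)), comm_gen hl.ord hds hdo ?_,
    by rw [← hq]; exact MulEquiv.orderOf_eq (MulAut.conj d) q, comm_gen hl.ord hds hdo ?_⟩
  · calc d * t * d⁻¹ * (d * s' * d⁻¹) = d * (t * s') * d⁻¹ := by group
      _ = d * (s' * t) * d⁻¹ := by rw [hts]
      _ = _ := by group
  · calc d * q * d⁻¹ * (d * s' * d⁻¹) = d * (q * s') * d⁻¹ := by group
      _ = d * (s' * q) * d⁻¹ := by rw [hqs]
      _ = _ := by group

omit [Finite G] in
theorem z_cent : c.z ∈ centralizer ({s} : Set G) := mem_cent_one.2 (c.mem_H.1 hl.s_H)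

omit [Finite G] in
theorem zC_sq : (⟨c.z, hl.z_cent⟩ : centralizer ({s} : Set G)) * ⟨c.z, hl.z_cent⟩ = 1 :=
  Subtype.ext hl.ok.z_sq

/-- The quotient of the centraliser is the symmetric group of degree five. -/
theorem quot_perm_five (hn : NonzData c) (hw : Witness c s) :
    Nonempty (centralizer ({s} : Set G) ⧸ gq s ≃* Equiv.Perm (Fin 5)) := by
  haveI := hl.data.finite
  obtain ⟨t, q, ht, htz, hts, hq, hqs⟩ := hw
  have hlt : LocT c M s t :=
    { hl.toBaseSeven with nonz := hn, ord := hl.ord, t_ord := ht, t_not := htz, comm := hts }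
  set tC : centralizer ({s} : Set G) := ⟨t, mem_cent_one.2 hts⟩ with htC
  have htt : tC * tC = 1 := Subtype.ext (sq_of_ord ht)
  have hzz := hl.zC_sq
  set zC : centralizer ({s} : Set G) := ⟨c.z, hl.z_cent⟩ with hzC
  refine perm_five (t := QuotientGroup.mk tC) (x := QuotientGroup.mk zC)
    (mk_ord hl.ord htt fun e => ne_of_ord ht (congrArg Subtype.val e))
    (hlt.quot_dihedral tC rfl)
    (mk_ord hl.ord hzz fun e => hl.ok.z_ne (congrArg Subtype.val e))
    (fun e => htz (conj_val (conj_lift hl.ord htt hzz e)).symm) ?_ (five_dvd_quot hl.ord hq hqs)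
  intro g hgz hodd
  obtain ⟨h, rfl⟩ := QuotientGroup.mk_surjective g
  set n := orderOf (QuotientGroup.mk h : _ ⧸ gq s) with hn'
  have hhz := cent_lift hl.ord hzz hgz
  have hhH : (h : G) ∈ c.H := c.mem_H.2 (congrArg Subtype.val hhz).symm
  have hmem : h ^ n ∈ gq s := (QuotientGroup.eq_one_iff _).1
    (by rw [QuotientGroup.mk_pow, hn', pow_orderOf_eq_one])
  have h7n : (h : G) ^ (n * 7) = 1 := by
    have := congrArg Subtype.val (gq_pow hl.ord hmem)
    rwa [← pow_mul, SubmonoidClass.coe_pow] at this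
  have hM : c.pr h ∈ M := hl.data.mem_of_odd (n := n * 7) (hodd.mul (by decide)) (by
    have := map_pow hl.ok.prHom ⟨(h : G), hhH⟩ (n * 7)
    rw [show (⟨(h : G), hhH⟩ : c.H) ^ (n * 7) = 1 from Subtype.ext h7n, map_one] at this
    exact this.symm)
  obtain ⟨ζ, hζ, p, hp, r, hr, e⟩ := hl.inner_split hhH (mem_cent_one.1 h.2) hM
  have hp3 : p ^ 3 = 1 := by rw [pow_three']; exact hl.ok.P_pow hp
  have hζc : ∀ x ∈ c.H, Commute ζ x := fun x hx => by
    obtain ⟨j, rfl⟩ := mem_zpowers_iff.1 hζ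
    exact (show Commute c.z x from c.mem_H.1 hx).zpow_left j
  obtain ⟨i, rfl⟩ := mem_zpowers_iff.1 hr
  have h3 : (h : G) ^ 3 = ζ ^ 3 * (s ^ i) ^ 3 := by
    have c1 : Commute (ζ * p) (s ^ i) :=
      (hζc _ (zpow_mem hl.s_H i)).mul_left ((show Commute p s from hl.P_comm hp).zpow_right i)
    rw [e, c1.mul_pow, (hζc p (hl.ok.P_le hp)).mul_pow, hp3, mul_one]
  have hs7 : ((s ^ i) ^ 3) ^ 7 = 1 := by
    rw [← pow_mul, ← zpow_natCast, ← zpow_mul, mul_comm, zpow_mul, zpow_natCast,
      show 3 * 7 = 7 * 3 from rfl, pow_mul, hl.s_pow, one_pow, one_zpow]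
  have hζ1 : ζ = 1 := by
    refine (hl.ok.mem_zp.1 hζ).resolve_right fun ez => hl.ok.z_ne ?_
    have h21 : (h : G) ^ (n * 7 * 3) = ζ := by
      rw [show n * 7 * 3 = 3 * 7 * n by ring, pow_mul, pow_mul, h3, (hζc _ (pow_mem (zpow_mem hl.s_H i) 3)).pow_left 3
        |>.mul_pow, hs7, mul_one, ← pow_mul, ← pow_mul, ez]
      obtain ⟨j, hj⟩ : Odd (3 * (7 * n)) := (by decide : Odd 3).mul ((by decide : Odd 7).mul hodd)
      rw [hj, pow_succ, pow_mul, pow_two, hl.ok.z_sq, one_pow, one_mul]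
    rw [pow_mul, h7n, one_pow, ez] at h21
    exact h21.symm
  rw [← QuotientGroup.mk_pow, QuotientGroup.eq_one_iff]
  show ((h ^ 3 : centralizer ({s} : Set G)) : G) ∈ zpowers s
  rw [SubmonoidClass.coe_pow, h3, hζ1, one_pow, one_mul]
  exact pow_mem (zpow_mem (mem_zpowers s) i) 3

theorem card_cent (hn : NonzData c) (hw : Witness c s) :
    Nat.card (centralizer ({s} : Set G)) = 840 := by
  obtain ⟨e⟩ := hl.quot_perm_five hn hw
  rw [card_quot hl.ord, Nat.card_congr e.toEquiv, Nat.card_perm, Nat.card_fin]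
  rfl

/-- The centraliser splits. -/
theorem exists_complement (hn : NonzData c) (hw : Witness c s) :
    ∃ I : Subgroup G, IsInternalDirectProduct (zpowers s) I (centralizer ({s} : Set G)) ∧
      Nonempty (I ≃* Equiv.Perm (Fin 5)) := by
  obtain ⟨e⟩ := hl.quot_perm_five hn hw
  obtain ⟨I, hI⟩ := Subgroup.exists_right_complement'_of_coprime (N := gq s) (by
    rw [card_gq, hl.ord, Subgroup.index_eq_card, Nat.card_congr e.toEquiv, Nat.card_perm, Nat.card_fin]
    decide)
  have hmap : (gq s).map (centralizer ({s} : Set G)).subtype = zpowers s := by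
    rw [gq, Subgroup.subgroupOf_map_subtype, inf_eq_left.2 (zpowers_le_cent s)]
  refine ⟨I.map (centralizer ({s} : Set G)).subtype,
    ⟨zpowers_le_cent s, Subgroup.map_subtype_le I, ?_, ?_, ?_⟩,
    ⟨(I.equivMapOfInjective _ (subtype_injective _)).symm.trans (hI.symm.QuotientMulEquiv.symm.trans e)⟩⟩
  · rintro a ha _ ⟨b, -, rfl⟩
    obtain ⟨i, rfl⟩ := mem_zpowers_iff.1 ha
    exact ((show Commute (b : G) s from mem_cent_one.1 b.2).zpow_right i).eq.symm
  · rw [← hmap, ← Subgroup.map_inf_eq _ _ _ (subtype_injective _), hI.disjoint.eq_bot, Subgroup.map_bot]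
  · rw [← hmap, ← Subgroup.map_sup, hI.sup_eq_top, ← MonoidHom.range_eq_map, Subgroup.range_subtype]

/-- No element inverts `s`. -/
theorem not_inverted (hn : NonzData c) (hw : Witness c s) (g : G) : g * s * g⁻¹ ≠ s⁻¹ := fun hg => by
  haveI : Fact (Nat.Prime 2) := ⟨Nat.prime_two⟩
  have hX := hl.quot_perm_five hn hw
  obtain ⟨t, q, ht, htz, hts, -, -⟩ := hw
  have hzs : c.z * s = s * c.z := c.mem_H.1 hl.s_H
  set x := g * c.z * g⁻¹ with hx
  have hxs : x * s = s * x := by
    have h1 : Commute x (s⁻¹) := by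
      rw [← hg]
      show g * c.z * g⁻¹ * (g * s * g⁻¹) = g * s * g⁻¹ * (g * c.z * g⁻¹)
      calc _ = g * (c.z * s) * g⁻¹ := by group
        _ = g * (s * c.z) * g⁻¹ := by rw [hzs]
        _ = _ := by group
    exact (Commute.inv_right_iff.1 h1).eq
  have hxz : IsConj c.z x := isConj_iff.2 ⟨g, rfl⟩
  have hxo : x * x = 1 := sq_of_ord (isConj_ord hl.ok hxz)
  set xC : centralizer ({s} : Set G) := ⟨x, mem_cent_one.2 hxs⟩ with hxC
  set tC : centralizer ({s} : Set G) := ⟨t, mem_cent_one.2 hts⟩ with htC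
  have htt : tC * tC = 1 := Subtype.ext (sq_of_ord ht)
  have hxx : xC * xC = 1 := Subtype.ext hxo
  have hzz := hl.zC_sq
  have h := conj_of_perm_five hX (t := QuotientGroup.mk tC) (x := QuotientGroup.mk xC)
    (y := QuotientGroup.mk ⟨c.z, hl.z_cent⟩)
    (mk_ord hl.ord htt fun e => ne_of_ord ht (congrArg Subtype.val e))
    (mk_ord hl.ord hxx fun e => isConj_ne hl.ok hxz (congrArg Subtype.val e))
    (mk_ord hl.ord hzz fun e => hl.ok.z_ne (congrArg Subtype.val e))
    (fun e => htz (hxz.trans (conj_val (conj_lift hl.ord htt hxx e)).symm))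
    (fun e => htz (conj_val (conj_lift hl.ord htt hzz e)).symm)
  obtain ⟨k, hk⟩ := isConj_iff.1 (conj_lift hl.ord hxx hzz h)
  have hk' : (k : G) * x * (k : G)⁻¹ = c.z := congrArg Subtype.val hk
  have hkH : (k : G) * g ∈ c.H := by
    refine c.mem_H.2 ?_
    calc c.z * ((k : G) * g) = (k : G) * x * (k : G)⁻¹ * ((k : G) * g) := by rw [hk']
      _ = (k : G) * g * c.z := by rw [hx]; group
  refine hl.no_inv hkH ?_
  rw [show (k : G) * g * s * ((k : G) * g)⁻¹ = k * (g * s * g⁻¹) * (k : G)⁻¹ by group, hg,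
    ← ((show Commute (k : G) s from mem_cent_one.1 k.2).inv_right).eq.symm, mul_inv_cancel_right]

theorem card_normalizer (hn : NonzData c) (hw : Witness c s) :
    Nat.card (normalizer (zpowers s : Set G)) = 3 * Nat.card (centralizer ({s} : Set G)) := by
  haveI : Fact (Nat.Prime 7) := ⟨by norm_num⟩
  set N := normalizer (zpowers s : Set G) with hN
  set C := centralizer ({s} : Set G) with hC
  have hCN : C ≤ N := fun g hg => mem_normalizer_iff.2 fun a => by
    have hcomm : ∀ b ∈ zpowers s, g * b * g⁻¹ = b := fun b hb => by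
      obtain ⟨i, rfl⟩ := mem_zpowers_iff.1 hb
      rw [((show Commute g s from mem_cent_one.1 hg).zpow_right i).eq, mul_inv_cancel_right]
    refine ⟨fun ha => by rwa [hcomm a ha], fun ha => ?_⟩
    have h := hcomm _ ha
    rw [show a = g * a * g⁻¹ by
      calc a = g⁻¹ * (g * a * g⁻¹) * g := by group
        _ = g⁻¹ * (g * (g * a * g⁻¹) * g⁻¹) * g := by rw [h]
        _ = _ := by group]
    exact ha
  have hpow : ∀ {g : G} {k : ℕ}, g * s * g⁻¹ = s ^ k → g * g * g * s * (g * g * g)⁻¹ = s ^ (k * k * k) := by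
    intro g k h
    calc g * g * g * s * (g * g * g)⁻¹ = g * (g * (g * s * g⁻¹) * g⁻¹) * g⁻¹ := by group
      _ = _ := by rw [h, ← conj_pow, h, ← pow_mul, ← conj_pow, h, ← pow_mul]; congr 1; ring
  have hinv : s ^ 6 = s⁻¹ := eq_inv_of_mul_eq_one_left (by rw [← pow_succ, hl.s_pow])
  have hmem : ∀ g ∈ N, g * s * g⁻¹ ∈ ({s, s ^ 2, s ^ 4} : Set G) := by
    intro g hg
    obtain ⟨k, hk⟩ := (isOfFinOrder_of_finite s).mem_powers_iff_mem_zpowers.2
      ((mem_normalizer_iff.1 hg s).1 (mem_zpowers s))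
    have hk' : g * s * g⁻¹ = s ^ (k % 7) := by rw [← hl.ord, pow_mod_orderOf]; exact hk.symm
    have hlt : k % 7 < 7 := Nat.mod_lt _ (by norm_num)
    obtain ⟨j, hj⟩ : ∃ j, j = k % 7 := ⟨_, rfl⟩
    rw [← hj] at hk' hlt
    have hno : ∀ {g : G} {m : ℕ}, g * s * g⁻¹ = s ^ m → m % 7 ≠ 6 := fun {g m} h h6 =>
      hl.not_inverted hn hw g (by rw [h, ← pow_mod_orderOf, hl.ord, h6, hinv])
    interval_cases j
    · exact absurd (conj_eq_one_iff.1 (hk'.trans (pow_zero s))) hl.s_ne
    · left; rw [hk', pow_one]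
    · right; left; exact hk'
    · exact absurd (by norm_num : (3 * 3 * 3) % 7 = 6) (hno (hpow hk'))
    · right; right; exact hk'
    · exact absurd (by norm_num : (5 * 5 * 5) % 7 = 6) (hno (hpow hk'))
    · exact absurd (by norm_num : 6 % 7 = 6) (hno hk')
  have hset : Nat.card ({s, s ^ 2, s ^ 4} : Set G) = 3 := by
    have hne : ∀ {a b : ℕ}, a < 7 → b < 7 → a ≠ b → s ^ a ≠ s ^ b := fun ha hb hab e => hab
      (by rw [pow_eq_pow_iff_modEq, hl.ord] at e; rw [← Nat.mod_eq_of_lt ha, ← Nat.mod_eq_of_lt hb]; exact e)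
    rw [Nat.card_coe_set_eq]
    refine Set.ncard_eq_three.2 ⟨s, s ^ 2, s ^ 4, ?_, ?_, hne (by norm_num) (by norm_num) (by norm_num), rfl⟩
    · simpa using hne (a := 1) (b := 2) (by norm_num) (by norm_num) (by norm_num)
    · simpa using hne (a := 1) (b := 4) (by norm_num) (by norm_num) (by norm_num)
  obtain ⟨y, hy, hys⟩ := hl.exists_square
  have hyN : ∀ {g : G} {k : ℕ}, ¬ 7 ∣ k → g * s * g⁻¹ = s ^ k → g ∈ N := by
    intro g k hk h
    have e : zpowers (g * s * g⁻¹) = zpowers s := Subgroup.eq_of_le_of_card_ge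
      (zpowers_le.2 (h ▸ pow_mem (mem_zpowers s) k)) (by
        rw [Nat.card_zpowers, Nat.card_zpowers, show orderOf (g * s * g⁻¹) = orderOf s from
          MulEquiv.orderOf_eq (MulAut.conj g) s])
    rw [hN, mem_normalizer_iff]
    intro a
    conv_rhs => rw [← e, mem_zpowers_iff]
    rw [mem_zpowers_iff]
    refine exists_congr fun i => ?_
    rw [conj_zpow, mul_left_inj, mul_right_inj]
  let f : N → ({s, s ^ 2, s ^ 4} : Set G) := fun g => ⟨g * s * (g : G)⁻¹, hmem g g.2⟩
  have hfib : ∀ a b : N, f a = f b ↔ a⁻¹ * b ∈ C.subgroupOf N := by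
    intro a b
    rw [mem_subgroupOf, hC, mem_cent_one, Subgroup.coe_mul, InvMemClass.coe_inv]
    constructor
    · intro h
      have h' : (a : G) * s * (a : G)⁻¹ = b * s * (b : G)⁻¹ := congrArg Subtype.val h
      calc (a : G)⁻¹ * b * s = (a : G)⁻¹ * (b * s * (b : G)⁻¹) * b := by group
        _ = _ := by rw [← h']; group
    · intro h
      refine Subtype.ext ?_
      show (a : G) * s * (a : G)⁻¹ = b * s * (b : G)⁻¹
      calc (a : G) * s * (a : G)⁻¹ = (a : G) * (s * ((a : G)⁻¹ * b)) * (b : G)⁻¹ := by group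
        _ = _ := by rw [← h]; group
  have hsurj : Function.Surjective f := by
    rintro ⟨a, rfl | rfl | rfl⟩
    · exact ⟨1, Subtype.ext (by simp [f])⟩
    · exact ⟨⟨y, hyN (k := 2) (by norm_num) hys⟩, Subtype.ext hys⟩
    · have h4 : y * y * s * (y * y)⁻¹ = s ^ 4 := by
        calc y * y * s * (y * y)⁻¹ = y * (y * s * y⁻¹) * y⁻¹ := by group
          _ = _ := by rw [hys, ← conj_pow, hys, ← pow_mul]
      exact ⟨⟨y * y, hyN (k := 4) (by norm_num) h4⟩, Subtype.ext h4⟩
  let F : N ⧸ C.subgroupOf N → ({s, s ^ 2, s ^ 4} : Set G) :=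
    Quotient.lift f fun a b h => (hfib a b).2 (QuotientGroup.leftRel_apply.1 h)
  have hF : Function.Bijective F := by
    refine ⟨fun a b => ?_, fun x => ?_⟩
    · induction a using QuotientGroup.induction_on with
      | H a => induction b using QuotientGroup.induction_on with
        | H b => exact fun h => QuotientGroup.eq.2 ((hfib a b).1 h)
    · obtain ⟨a, ha⟩ := hsurj x
      exact ⟨QuotientGroup.mk a, ha⟩
  rw [(C.subgroupOf N).card_eq_card_quotient_mul_card_subgroup,
    Nat.card_congr (Equiv.ofBijective F hF), hset, Nat.card_congr (subgroupOfEquivOfLe hCN).toEquiv]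

end LocSeven

omit [Finite G] in
theorem cent_zpowers (s : G) : centralizer (zpowers s : Set G) = centralizer ({s} : Set G) := by
  ext g
  rw [mem_cent_one, mem_centralizer_iff]
  refine ⟨fun h => (h s (mem_zpowers s)).symm, fun h a ha => ?_⟩
  obtain ⟨i, rfl⟩ := mem_zpowers_iff.1 ha
  exact ((show Commute g s from h).zpow_right i).eq.symm

/-- The conclusions at a subgroup of order seven of `H`. -/
theorem seven_main (hb : BaseSeven c M) (hn : NonzData c) {Q : Subgroup G} (h5 : Base c M Q)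
    (hQ : Q ≤ c.H) (S : Subgroup G) (hS : Nat.card S = 7) (hSH : S ≤ c.H) :
    ¬ (49 ∣ Nat.card G) ∧
    (∃ I : Subgroup G, IsInternalDirectProduct S I (centralizer (S : Set G)) ∧
      Nonempty (I ≃* Equiv.Perm (Fin 5))) ∧
    Nat.card (normalizer (S : Set G)) = 3 * Nat.card (centralizer (S : Set G)) ∧
    Nat.card (normalizer (S : Set G)) = 2 ^ 3 * 3 ^ 2 * 5 * 7 := by
  haveI : Fact (Nat.Prime 7) := ⟨by norm_num⟩
  obtain ⟨s, hsS, hs7⟩ : ∃ s ∈ S, orderOf s = 7 := by
    obtain ⟨x, hx⟩ := exists_prime_orderOf_dvd_card' (G := S) 7 (by rw [hS])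
    exact ⟨x, x.2, by rw [orderOf_coe, hx]⟩
  obtain rfl : S = zpowers s := (Subgroup.eq_of_le_of_card_ge (zpowers_le.2 hsS)
    (by rw [Nat.card_zpowers, hs7, hS])).symm
  obtain ⟨h₀, hh₀, hl5⟩ := h5.exists_loc hQ
  obtain ⟨s', t, q, hs', hw⟩ := hl5.seven_witness (hb.conj h₀) (hn.conj h₀)
  obtain ⟨h, hh, hl⟩ := hb.exists_loc (hSH (mem_zpowers s)) hs7
  have hn' := hn.conj h
  have hz : ∀ {g : G}, g ∈ c.H → (c.conj g).z = c.z := fun hg => conj_z_eq hg
  have hw' : Witness (c.conj h) s := hl.witness hn' ⟨s', hs', t, q, by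
    rw [hz hh]; rw [hz hh₀] at hw; exact hw⟩
  have hC := hl.card_cent hn' hw'
  refine ⟨not_sq_seven hs7 (by rw [hC]; norm_num), ?_, ?_, ?_⟩
  · rw [cent_zpowers]; exact hl.exists_complement hn' hw'
  · rw [cent_zpowers]; exact hl.card_normalizer hn' hw'
  · rw [hl.card_normalizer hn' hw', hC]; norm_num

end Cfsg.Agent.H54.JFour
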