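import Cfsg.Agent.H54.JFour.SevenT

/-!
The quotient of the centraliser of an element of order seven by the subgroup it generates.
-/

set_option autoImplicit false

namespace Cfsg.Agent.H54.JFour

open Subgroup Cfsg.Agent.H43.JFour Cfsg.Agent.H43.JFour.Ctx

universe u v

variable {G : Type u} [Group G] {A : Type v} [Group A]

/-- The subgroup generated by `s` inside its centraliser. -/
def gq (s : G) : Subgroup (centralizer ({s} : Set G)) := (zpowers s).subgroupOf _

theorem gq_central {s : G} {a : centralizer ({s} : Set G)} (ha : a ∈ gq s)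
    (g : centralizer ({s} : Set G)) : g * a = a * g := by
  obtain ⟨i, hi⟩ := mem_zpowers_iff.1 (mem_subgroupOf.1 ha)
  refine Subtype.ext ?_
  show (g : G) * a = a * g
  rw [← hi]
  exact ((show Commute (g : G) s from mem_cent_one.1 g.2).zpow_right i).eq

instance gq_normal (s : G) : (gq s).Normal :=
  ⟨fun a ha g => by rwa [gq_central ha g, mul_inv_cancel_right]⟩

theorem zpowers_le_cent (s : G) : zpowers s ≤ centralizer ({s} : Set G) :=
  zpowers_le.2 (mem_cent_one.2 rfl)

theorem card_gq (s : G) : Nat.card (gq s) = orderOf s := by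
  rw [gq, Nat.card_congr (subgroupOfEquivOfLe (zpowers_le_cent s)).toEquiv, Nat.card_zpowers]

variable {s : G} (h7 : orderOf s = 7)
include h7

theorem gq_pow {a : centralizer ({s} : Set G)} (ha : a ∈ gq s) : a ^ 7 = 1 :=
  orderOf_dvd_iff_pow_eq_one.1 (h7 ▸ card_gq s ▸ Subgroup.orderOf_dvd_natCard (gq s) ha)

theorem gq_odd {a : centralizer ({s} : Set G)} (ha : a ∈ gq s) (h2 : a * a = 1) : a = 1 := by
  have h := gq_pow h7 ha
  rwa [show 7 = 2 * 3 + 1 from rfl, pow_succ, pow_mul, pow_two, h2, one_pow, one_mul] at h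

/-- An involution of the quotient is the image of an involution. -/
theorem lift_invol {x : centralizer ({s} : Set G) ⧸ gq s} (hx : orderOf x = 2) :
    ∃ y : centralizer ({s} : Set G), y * y = 1 ∧ y ≠ 1 ∧ (QuotientGroup.mk y : _ ⧸ gq s) = x := by
  obtain ⟨g, rfl⟩ := QuotientGroup.mk_surjective x
  have h2 : ((QuotientGroup.mk g : _ ⧸ gq s)) ^ 2 = 1 := by rw [← hx, pow_orderOf_eq_one]
  rw [← QuotientGroup.mk_pow, QuotientGroup.eq_one_iff] at h2
  have hmk : (QuotientGroup.mk (g ^ 7) : _ ⧸ gq s) = QuotientGroup.mk g := by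
    refine (QuotientGroup.eq.2 ?_).symm
    rw [show g⁻¹ * g ^ 7 = (g ^ 2) ^ 3 by rw [← pow_mul, pow_succ' g 6, inv_mul_cancel_left]]
    exact pow_mem h2 3
  refine ⟨g ^ 7, ?_, fun e => ?_, hmk⟩
  · rw [← pow_add, show 7 + 7 = 2 * 7 from rfl, pow_mul, gq_pow h7 h2]
  · rw [e, QuotientGroup.mk_one] at hmk
    rw [← hmk, orderOf_one] at hx
    omega

/-- The centraliser of an involution of the quotient comes from the centraliser of the involution. -/
theorem cent_lift {y g : centralizer ({s} : Set G)} (hy : y * y = 1)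
    (h : (QuotientGroup.mk g : _ ⧸ gq s) * QuotientGroup.mk y = QuotientGroup.mk y * QuotientGroup.mk g) :
    g * y = y * g := by
  rw [← QuotientGroup.mk_mul, ← QuotientGroup.mk_mul, QuotientGroup.eq] at h
  set r := (g * y)⁻¹ * (y * g) with hr
  have hc := gq_central h
  have e1 : y * g = g * y * r := by rw [hr]; group
  have hr2 : r * r = 1 := by
    have e2 : g = g * (r * r) := by
      calc g = y * y * g := by rw [hy, one_mul]
        _ = y * (g * y * r) := by rw [← e1, mul_assoc]
        _ = y * g * y * r := by group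
        _ = g * y * r * y * r := by rw [e1]
        _ = g * y * (r * y) * r := by group
        _ = g * (y * y) * (r * r) := by rw [← hc y]; group
        _ = _ := by rw [hy, mul_one]
    exact mul_eq_left.1 e2.symm
  rw [e1, gq_odd h7 h hr2, mul_one]

/-- Conjugate involutions of the quotient come from conjugate involutions. -/
theorem conj_lift {x y : centralizer ({s} : Set G)} (hx : x * x = 1) (hy : y * y = 1)
    (h : IsConj (QuotientGroup.mk x : _ ⧸ gq s) (QuotientGroup.mk y)) : IsConj x y := by
  obtain ⟨k, hk⟩ := isConj_iff.1 h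
  obtain ⟨g, rfl⟩ := QuotientGroup.mk_surjective k
  rw [← QuotientGroup.mk_inv, ← QuotientGroup.mk_mul, ← QuotientGroup.mk_mul, QuotientGroup.eq] at hk
  set w := g * x * g⁻¹ with hw
  refine isConj_iff.2 ⟨g, ?_⟩
  set r := w⁻¹ * y with hr
  have hc := gq_central hk
  have hww : w * w = 1 := by rw [hw, show g * x * g⁻¹ * (g * x * g⁻¹) = g * (x * x) * g⁻¹ by group, hx]; group
  have hy' : y = w * r := by rw [hr]; group
  have hr2 : r * r = 1 := by
    calc r * r = w * w * (r * r) := by rw [hww, one_mul]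
      _ = w * (w * r) * r := by group
      _ = w * (r * w) * r := by rw [hc w]
      _ = w * r * (w * r) := by group
      _ = 1 := by rw [← hy', hy]
  have h1 := gq_odd h7 hk hr2
  rw [hr, inv_mul_eq_one] at h1
  exact h1

theorem mk_ord {y : centralizer ({s} : Set G)} (hy : y * y = 1) (hy1 : y ≠ 1) :
    orderOf (QuotientGroup.mk y : _ ⧸ gq s) = 2 := by
  haveI : Fact (Nat.Prime 2) := ⟨Nat.prime_two⟩
  refine orderOf_eq_prime (by rw [pow_two, ← QuotientGroup.mk_mul, hy, QuotientGroup.mk_one]) fun e => hy1 ?_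
  exact gq_odd h7 ((QuotientGroup.eq_one_iff _).1 e) hy

omit h7

variable [Finite G] {M : Subgroup A} {c : Ctx G A} {t : G}

/-- The centraliser of the image of an involution outside the class of `z` is dihedral of order eight. -/
theorem LocT.quot_dihedral (hl : LocT c M s t) (tC : centralizer ({s} : Set G)) (htC : (tC : G) = t) :
    Nonempty (↥(centralizer ({(QuotientGroup.mk tC : _ ⧸ gq s)} : Set _)) ≃* DihedralGroup 4) := by
  obtain ⟨T, hT8, hTY, hTall, ⟨e⟩, -⟩ := hl.exists_dihedral
  have htt : tC * tC = 1 := Subtype.ext (by rw [Subgroup.coe_mul, htC, sq_of_ord hl.t_ord]; rfl)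
  let f : T →* centralizer ({(QuotientGroup.mk tC : _ ⧸ gq s)} : Set _) :=
    ((QuotientGroup.mk' (gq s)).comp (inclusion (hTY.trans inf_le_right))).codRestrict _ fun a => by
      refine mem_centralizer_singleton_iff.2 ?_
      show QuotientGroup.mk _ * QuotientGroup.mk tC = _
      rw [← QuotientGroup.mk_mul]
      refine congrArg QuotientGroup.mk (Subtype.ext ?_)
      show (a : G) * tC = tC * a
      rw [htC]; exact mem_cent_one.1 (hTY a.2).1
  have hf : Function.Bijective f := by
    refine ⟨(injective_iff_map_eq_one f).2 fun a ha => ?_, fun x => ?_⟩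
    · have h0 : (QuotientGroup.mk (inclusion (hTY.trans inf_le_right) a) : _ ⧸ gq s) = 1 :=
        congrArg Subtype.val ha
      have h0' := mem_subgroupOf.1 ((QuotientGroup.eq_one_iff _).1 h0 : _ ∈ gq s)
      have h1 : (a : G) ∈ zpowers s := h0'
      have h2 : (a : G) ∈ T ⊓ zpowers s := ⟨a.2, h1⟩
      rw [(disjoint_of_coprime_natCard (by rw [hT8, Nat.card_zpowers, hl.ord]; decide)).eq_bot, mem_bot] at h2
      exact Subtype.ext h2
    · obtain ⟨g, hg⟩ := QuotientGroup.mk_surjective (x : _ ⧸ gq s)
      have hgt : g * tC = tC * g := by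
        refine cent_lift hl.ord htt ?_
        rw [hg]; exact mem_centralizer_singleton_iff.1 x.2
      obtain ⟨a, ha, r, hr, hgar⟩ := hTall g ⟨mem_cent_one.2 (by
        rw [← htC]; exact congrArg Subtype.val hgt), g.2⟩
      refine ⟨⟨a, ha⟩, Subtype.ext ?_⟩
      rw [← hg]
      show (QuotientGroup.mk _ : _ ⧸ gq s) = QuotientGroup.mk g
      rw [QuotientGroup.eq]
      show a⁻¹ * (g : G) ∈ zpowers s
      rw [hgar, inv_mul_cancel_left]; exact hr
  exact ⟨(MulEquiv.ofBijective f hf).symm.trans e⟩

end Cfsg.Agent.H54.JFour
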