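import Cfsg.Agent.H54.JFour.SevenH
import Cfsg.Agent.H54.JFour.Pre
import Cfsg.Agent.S0206
import Cfsg.Prelude.Def_Transfer

/-!
An element of order seven commuting with an involution outside the class of the central one.
-/

set_option autoImplicit false

namespace Cfsg.Agent.H54.JFour

open Subgroup Cfsg.Agent.H43.JFour Cfsg.Agent.H43.JFour.Ctx

universe u v

variable {G : Type u} [Group G] {A : Type v} [Group A]

/-- The elementary group of order `2 ^ 11` attached to an involution outside the class of `z`, with the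
projection of its centraliser onto `A` and a section. -/
def ShapeAt (A : Type v) [Group A] (t : G) (U : Subgroup G) : Prop :=
  t ∈ U ∧ IsElementaryAbelian 2 U ∧ Nat.card U = 2 ^ 11 ∧
    centralizer ({t} : Set G) ≤ normalizer (U : Set G) ∧
      ∃ (π : centralizer ({t} : Set G) →* A) (σ : A →* centralizer ({t} : Set G)),
        (∀ a, π (σ a) = a) ∧ π.ker = U.subgroupOf (centralizer ({t} : Set G))

/-- The facts on the involutions outside the class of `z`. -/
structure NonzData (c : Ctx G A) : Prop where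
  shape : ∀ t : G, orderOf t = 2 → ¬ IsConj c.z t → ∃ U, ShapeAt A t U
  unique : ∀ U U' : Subgroup G, IsElementaryAbelian 2 U → Nat.card U = 2 ^ 11 →
    IsElementaryAbelian 2 U' → Nat.card U' = 2 ^ 11 → U' ≤ normalizer (U : Set G) → U' = U
  norm : ∀ U : Subgroup G, IsElementaryAbelian 2 U → Nat.card U = 2 ^ 11 → ∀ t ∈ U, t ≠ 1 →
    ¬ IsConj c.z t → centralizer ({t} : Set G) ≤ normalizer (U : Set G)
  small : ∀ U W : Subgroup G, IsElementaryAbelian 2 U → Nat.card U = 2 ^ 11 → W ≤ U →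
    (∀ w ∈ W, w ≠ 1 → ¬ IsConj c.z w) → Nat.card W ≤ 4

variable [Finite G] {M : Subgroup A} {c : Ctx G A} {s t : G}

omit [Finite G] in
theorem sq_of_ord (h : orderOf t = 2) : t * t = 1 := by rw [← pow_two, ← h, pow_orderOf_eq_one]

omit [Finite G] in
theorem ne_of_ord (h : orderOf t = 2) : t ≠ 1 := fun e => by rw [e, orderOf_one] at h; omega

/-- An element of order seven commuting with an involution. -/
structure LocT (c : Ctx G A) (M : Subgroup A) (s t : G) : Prop extends BaseSeven c M where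
  nonz : NonzData c
  ord : orderOf s = 7
  t_ord : orderOf t = 2
  t_not : ¬ IsConj c.z t
  comm : t * s = s * t

omit [Finite G] in
/-- A subgroup of the centraliser of `s` containing a conjugate of `z` and of exponent two has order at
most four. -/
theorem exp_two_le (hb : BaseSeven c M) [Finite G] (h7 : orderOf s = 7) {B : Subgroup G}
    (hB : ∀ b ∈ B, b * b = 1) (hBs : ∀ b ∈ B, b * s = s * b) {x : G} (hxB : x ∈ B)
    (hx : IsConj c.z x) (hBx : ∀ b ∈ B, b * x = x * b) : Nat.card B ≤ 4 := by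
  obtain ⟨g, hg, hl⟩ := hb.exists_loc_at hx (hBs x hxB) h7
  exact hl.two_card_le hB (fun b hb => by rw [Ctx.mem_H, hg]; exact (hBx b hb).symm) hBs

namespace LocT

variable (hl : LocT c M s t)
include hl

omit [Finite G] in
theorem s_pow : s ^ 7 = 1 := by rw [← hl.ord, pow_orderOf_eq_one]

/-- The group attached to `t`. -/
noncomputable def U : Subgroup G := (hl.nonz.shape t hl.t_ord hl.t_not).choose

omit [Finite G] in
theorem U_spec : ShapeAt A t hl.U := (hl.nonz.shape t hl.t_ord hl.t_not).choose_spec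

omit [Finite G] in
theorem U_elem : IsElementaryAbelian 2 hl.U := hl.U_spec.2.1

omit [Finite G] in
theorem U_comm {a b : G} (ha : a ∈ hl.U) (hb : b ∈ hl.U) : a * b = b * a :=
  congrArg Subtype.val (hl.U_elem.1.is_comm.comm (⟨a, ha⟩ : hl.U) ⟨b, hb⟩)

omit [Finite G] in
theorem U_sq {a : G} (ha : a ∈ hl.U) : a * a = 1 := by rw [← pow_two]; exact hl.U_elem.2 a ha

omit [Finite G] in
theorem U_le : hl.U ≤ centralizer ({t} : Set G) := fun _ ha =>
  mem_cent_one.2 (hl.U_comm ha hl.U_spec.1)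

/-- The fixed points of `s` on the group of order `2 ^ 11` form a four-group. -/
theorem card_fix : Nat.card ↥(hl.U ⊓ centralizer ({s} : Set G)) = 4 := by
  haveI : Fact (Nat.Prime 7) := ⟨by norm_num⟩
  set U := hl.U with hU
  have hsN : s ∈ normalizer (U : Set G) := hl.U_spec.2.2.2.1 (mem_cent_one.2 hl.comm.symm)
  let f : U → U := fun a => ⟨s * a * s⁻¹, (mem_normalizer_iff.1 hsN a).1 a.2⟩
  have h7 := card_mod_fixed (p := 7) f (funext fun a => Subtype.ext (by
    show s * (s * (s * (s * (s * (s * (s * (a : G) * s⁻¹) * s⁻¹) * s⁻¹) * s⁻¹) * s⁻¹) * s⁻¹) * s⁻¹ = (a : G)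
    calc _ = s ^ 7 * (a : G) * (s ^ 7)⁻¹ := by simp [pow_succ, mul_assoc]
      _ = (a : G) := by rw [hl.s_pow]; simp))
  have hfix : Nat.card {a : U // f a = a} = Nat.card ↥(U ⊓ centralizer ({s} : Set G)) :=
    Nat.card_congr
      { toFun := fun a => ⟨a.1, a.1.2, mem_cent_one.2
          (mul_inv_eq_iff_eq_mul.1 (congrArg Subtype.val a.2 :)).symm⟩
        invFun := fun a => ⟨⟨a, a.2.1⟩, Subtype.ext (by
          show s * (a : G) * s⁻¹ = a
          rw [← mem_cent_one.1 a.2.2, mul_inv_cancel_right])⟩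
        left_inv := fun _ => rfl
        right_inv := fun _ => rfl }
  rw [hfix, hl.U_spec.2.2.1] at h7
  have hle : Nat.card ↥(U ⊓ centralizer ({s} : Set G)) ≤ 4 := by
    by_cases hz : ∀ w ∈ U ⊓ centralizer ({s} : Set G), w ≠ 1 → ¬ IsConj c.z w
    · exact hl.nonz.small U _ hl.U_elem hl.U_spec.2.2.1 inf_le_left hz
    · push Not at hz
      obtain ⟨x, hx, -, hxz⟩ := hz
      exact exp_two_le hl.toBaseSeven hl.ord (fun b hb => hl.U_sq hb.1)
        (fun b hb => mem_cent_one.1 hb.2) hx hxz fun b hb => hl.U_comm hb.1 hx.1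
  omega

/-- The centraliser of `t` and `s` has order 56 and has elements outside the group of order `2 ^ 11`. -/
theorem card_pair : Nat.card ↥(centralizer ({t} : Set G) ⊓ centralizer ({s} : Set G)) = 56 ∧
    ∃ u ∈ centralizer ({t} : Set G) ⊓ centralizer ({s} : Set G), u * u = 1 ∧ u ∉ hl.U := by
  haveI := hl.data.finite
  haveI : Fact (Nat.Prime 7) := ⟨by norm_num⟩
  set N := centralizer ({t} : Set G) with hN
  obtain ⟨-, -, hUcard, -, π, σ, hsec, hπ⟩ := hl.U_spec
  set U := hl.U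
  set qN : N := ⟨s, mem_cent_one.2 hl.comm.symm⟩ with hqN
  have hq7 : orderOf qN = 7 := by rw [← orderOf_coe]; exact hl.ord
  have hπq : orderOf (π qN) = 7 := by
    refine orderOf_eq_prime (by rw [← map_pow, ← hq7, pow_orderOf_eq_one, map_one]) fun h => ?_
    have h' : (qN : G) ∈ U := by
      have : qN ∈ π.ker := h
      rwa [hπ, mem_subgroupOf] at this
    have hd := Subgroup.orderOf_dvd_natCard U h'
    rw [hUcard, orderOf_coe, hq7] at hd
    exact absurd hd (by decide)
  have hσinj : Function.Injective σ := fun a a' e => by rw [← hsec a, e, hsec]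
  have hσ7 : orderOf (σ (π qN)) = 7 := by rw [orderOf_injective σ hσinj, hπq]
  have hf : (Nat.card N).factorization 7 = 1 := by
    have h := π.ker.card_eq_card_quotient_mul_card_subgroup
    rw [Nat.card_congr (QuotientGroup.quotientKerEquivOfSurjective π fun a => ⟨σ a, hsec a⟩).toEquiv, hπ,
      Nat.card_congr (subgroupOfEquivOfLe hl.U_le).toEquiv, hUcard, hl.data.card] at h
    rw [h, show 887040 * 2 ^ 11 = 7 ^ 1 * (126720 * 2 ^ 11) by norm_num,
      Nat.factorization_mul (by norm_num) (by norm_num), Nat.factorization_pow]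
    simp [(show Nat.Prime 7 by norm_num).factorization, Nat.factorization_eq_zero_of_not_dvd]
  let S₀ : Sylow 7 N := Sylow.ofCard (zpowers (σ (π qN))) (by rw [Nat.card_zpowers, hσ7, hf, pow_one])
  let S₁ : Sylow 7 N := Sylow.ofCard (zpowers qN) (by rw [Nat.card_zpowers, hq7, hf, pow_one])
  obtain ⟨n, hn⟩ := MulAction.exists_smul_eq N S₀ S₁
  obtain ⟨k, hk⟩ : ∃ k : ℤ, (n * σ (π qN) * n⁻¹) ^ k = qN := by
    have h1 : qN ∈ (S₁ : Subgroup N) := mem_zpowers qN
    rw [← hn, Sylow.coe_subgroup_smul] at h1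
    obtain ⟨b, hb, e⟩ := h1
    obtain ⟨k, rfl⟩ := mem_zpowers_iff.1 (hb : b ∈ zpowers (σ (π qN)))
    refine ⟨k, ?_⟩
    rw [← MulAut.conj_apply, ← map_zpow]
    exact e
  set Y := N ⊓ centralizer ({s} : Set G) with hY
  let f : Y →* A := π.comp (inclusion inf_le_left)
  let lft : centralizer ({π qN} : Set A) → Y := fun a => ⟨((n * σ a * n⁻¹ : N) : G), (n * σ a * n⁻¹).2, by
    have h1 : Commute (n * σ a * n⁻¹) (n * σ (π qN) * n⁻¹) := by
      show n * σ a * n⁻¹ * (n * σ (π qN) * n⁻¹) = n * σ (π qN) * n⁻¹ * (n * σ a * n⁻¹)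
      calc _ = n * σ ((a : A) * π qN) * n⁻¹ := by rw [map_mul]; group
        _ = _ := by rw [mem_cent_one.1 a.2, map_mul]; group
    have h2 := h1.zpow_right k
    rw [hk] at h2
    exact mem_cent_one.2 (congrArg Subtype.val h2.eq :)⟩
  have hlft : ∀ a, f (lft a) = π n * a * (π n)⁻¹ := fun a => by
    show π (n * σ a * n⁻¹) = _
    rw [map_mul, map_mul, map_inv, hsec]
  have hrle : f.range ≤ centralizer ({π qN} : Set A) := by
    rintro _ ⟨y, rfl⟩
    refine mem_cent_one.2 ?_
    show π _ * π qN = π qN * π _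
    rw [← map_mul, ← map_mul]
    exact congrArg π (Subtype.ext (mem_cent_one.1 y.2.2))
  have hrcard : Nat.card f.range = 14 := by
    refine le_antisymm ?_ ?_
    · exact (Subgroup.card_le_of_le hrle).trans (le_of_eq (hl.facts.cent _ hπq))
    · rw [← hl.facts.cent _ hπq]
      refine Nat.card_le_card_of_injective (fun a => (⟨f (lft a), lft a, rfl⟩ : f.range)) fun a b e => ?_
      have e' := congrArg Subtype.val e
      simp only [hlft] at e'
      exact Subtype.ext (mul_left_cancel (mul_right_cancel e'))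
  have hker : Nat.card f.ker = Nat.card ↥(U ⊓ centralizer ({s} : Set G)) := by
    have hiff : ∀ y : Y, y ∈ f.ker ↔ (y : G) ∈ U := fun y => by
      show inclusion inf_le_left y ∈ π.ker ↔ _
      rw [hπ, mem_subgroupOf]; rfl
    exact Nat.card_congr
      { toFun := fun y => ⟨((y : Y) : G), (hiff y).1 y.2, (y : Y).2.2⟩
        invFun := fun a => ⟨⟨a, hl.U_le a.2.1, a.2.2⟩, (hiff _).2 a.2.1⟩
        left_inv := fun _ => rfl
        right_inv := fun _ => rfl }
  have hcard : Nat.card Y = 56 := by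
    have h := f.ker.card_eq_card_quotient_mul_card_subgroup
    rw [Nat.card_congr (QuotientGroup.quotientKerEquivRange f).toEquiv, hrcard, hker, hl.card_fix] at h
    exact h
  refine ⟨hcard, ?_⟩
  obtain ⟨w, hwM, hws⟩ := hl.facts.outer _ hπq
  have hw14 : w ^ 14 = 1 := orderOf_dvd_iff_pow_eq_one.1
    (hl.facts.cent _ hπq ▸ Subgroup.orderOf_dvd_natCard _ (mem_cent_one.2 hws))
  have ha : w ^ 7 ≠ 1 := fun h7 => hwM (hl.data.mem_of_odd (n := 7) (by decide) h7)
  have hac : w ^ 7 ∈ centralizer ({π qN} : Set A) := pow_mem (mem_cent_one.2 hws) 7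
  refine ⟨lft ⟨w ^ 7, hac⟩, (lft ⟨w ^ 7, hac⟩).2, ?_, fun hu => ha ?_⟩
  · show ((n * σ (w ^ 7) * n⁻¹ : N) : G) * ((n * σ (w ^ 7) * n⁻¹ : N) : G) = 1
    rw [← Subgroup.coe_mul, show n * σ (w ^ 7) * n⁻¹ * (n * σ (w ^ 7) * n⁻¹) =
      n * (σ (w ^ 7) * σ (w ^ 7)) * n⁻¹ by group, ← map_mul, ← pow_add, hw14, map_one, mul_one,
      mul_inv_cancel]
    rfl
  · have h : lft ⟨w ^ 7, hac⟩ ∈ f.ker := by
      show inclusion inf_le_left (lft ⟨w ^ 7, hac⟩) ∈ π.ker
      rw [hπ, mem_subgroupOf]; exact hu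
    rw [MonoidHom.mem_ker, hlft] at h
    exact mul_eq_left.1 (mul_inv_eq_one.1 h)

/-- A Sylow 2-subgroup of the centraliser of `t` and `s`, with its properties. -/
theorem exists_two : ∃ T : Subgroup G, Nat.card T = 8 ∧
    T ≤ centralizer ({t} : Set G) ⊓ centralizer ({s} : Set G) ∧
    (∀ g ∈ centralizer ({t} : Set G) ⊓ centralizer ({s} : Set G), ∃ a ∈ T, ∃ r ∈ zpowers s, g = a * r) ∧
    ∀ g ∈ centralizer ({t} : Set G) ⊓ centralizer ({s} : Set G), ∀ k : ℕ, g ^ (2 ^ k) = 1 → g ∈ T := by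
  haveI : Fact (Nat.Prime 2) := ⟨Nat.prime_two⟩
  set Y := centralizer ({t} : Set G) ⊓ centralizer ({s} : Set G) with hY
  have h56 : Nat.card Y = 56 := hl.card_pair.1
  obtain ⟨T0, hT0⟩ := Sylow.exists_subgroup_card_pow_prime (G := Y) 2 (n := 3) (by rw [h56]; norm_num)
  set T := T0.map Y.subtype with hT
  have hTcard : Nat.card T = 8 := by rw [hT, Subgroup.card_map_of_injective Y.subtype_injective, hT0]; rfl
  have hTY : T ≤ Y := map_subtype_le T0
  have hsY : s ∈ Y := ⟨mem_cent_one.2 hl.comm.symm, mem_cent_one.2 rfl⟩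
  have hall : ∀ g ∈ Y, ∃ a ∈ T, ∃ r ∈ zpowers s, g = a * r := by
    let F : T × zpowers s → Y := fun p => ⟨p.1 * p.2, mul_mem (hTY p.1.2) (zpowers_le.2 hsY p.2.2)⟩
    have hF : Function.Bijective F := by
      refine (Nat.bijective_iff_injective_and_card F).2 ⟨fun p q e => ?_, ?_⟩
      · have e' : (p.1 : G) * p.2 = q.1 * q.2 := congrArg Subtype.val e
        have h1 : (q.1 : G)⁻¹ * p.1 = q.2 * (p.2 : G)⁻¹ := by
          rw [eq_mul_inv_iff_mul_eq, mul_assoc, e', inv_mul_cancel_left]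
        have h2 : (q.1 : G)⁻¹ * p.1 ∈ T ⊓ zpowers s :=
          ⟨T.mul_mem (T.inv_mem q.1.2) p.1.2, h1 ▸ (zpowers s).mul_mem q.2.2 ((zpowers s).inv_mem p.2.2)⟩
        rw [(disjoint_of_coprime_natCard (by rw [hTcard, Nat.card_zpowers, hl.ord]; decide)).eq_bot,
          mem_bot, inv_mul_eq_one] at h2
        rw [← h2, mul_left_cancel_iff] at e'
        exact Prod.ext (Subtype.ext h2.symm) (Subtype.ext e')
      · rw [Nat.card_prod, hTcard, Nat.card_zpowers, hl.ord, h56]
    intro g hg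
    obtain ⟨⟨a, r⟩, e⟩ := hF.2 ⟨g, hg⟩
    exact ⟨a, a.2, r, r.2, (congrArg Subtype.val e).symm⟩
  refine ⟨T, hTcard, hTY, hall, fun g hg k hk => ?_⟩
  obtain ⟨a, ha, r, hr, rfl⟩ := hall g hg
  have har : Commute a r := by
    obtain ⟨i, rfl⟩ := mem_zpowers_iff.1 hr
    exact (show Commute a s from mem_cent_one.1 (hTY ha).2).zpow_right i
  have ha8 : a ^ 8 = 1 := orderOf_dvd_iff_pow_eq_one.1 (hTcard ▸ Subgroup.orderOf_dvd_natCard T ha)
  have hk' : (a * r) ^ (2 ^ (k + 3)) = 1 := by rw [pow_add, pow_mul, hk, one_pow]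
  rw [har.mul_pow, show a ^ (2 ^ (k + 3)) = 1 by
    rw [pow_add, mul_comm, pow_mul, show (2 : ℕ) ^ 3 = 8 from rfl, ha8, one_pow], one_mul] at hk'
  have hr1 : r = 1 := by
    have h7 : orderOf r ∣ 7 := hl.ord ▸ Nat.card_zpowers s ▸ Subgroup.orderOf_dvd_natCard _ hr
    exact orderOf_eq_one_iff.1 (Nat.eq_one_of_dvd_coprimes ((by decide : Nat.Coprime 7 2).pow_right (k + 3))
      h7 (orderOf_dvd_of_pow_eq_one hk'))
  rwa [hr1, mul_one]

/-- The centraliser of `t` and `s` is the product of `⟨s⟩` and a dihedral group of order 8. -/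
theorem exists_dihedral : ∃ T : Subgroup G, Nat.card T = 8 ∧
    T ≤ centralizer ({t} : Set G) ⊓ centralizer ({s} : Set G) ∧
    (∀ g ∈ centralizer ({t} : Set G) ⊓ centralizer ({s} : Set G), ∃ a ∈ T, ∃ r ∈ zpowers s, g = a * r) ∧
    Nonempty (T ≃* DihedralGroup 4) ∧ t ∈ T := by
  classical
  obtain ⟨T, hT8, hTY, hTall, hTmem⟩ := hl.exists_two
  obtain ⟨-, u, huY, huu, huU⟩ := hl.card_pair
  set U := hl.U with hUdef
  set W := U ⊓ centralizer ({s} : Set G) with hW
  have huT : u ∈ T := hTmem u huY 1 (by rw [pow_one, pow_two, huu])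
  have hWT : W ≤ T := fun w hw => hTmem w ⟨hl.U_le hw.1, hw.2⟩ 1 (by rw [pow_one, pow_two, hl.U_sq hw.1])
  have htW : t ∈ W := ⟨hl.U_spec.1, mem_cent_one.2 hl.comm⟩
  refine ⟨T, hT8, hTY, hTall, ?_, hWT htW⟩
  obtain ⟨w, hw, hwu⟩ : ∃ w ∈ W, u * w ≠ w * u := by
    by_contra hcomm
    push Not at hcomm
    -- the group is elementary abelian
    set B := W ⊔ zpowers u with hB
    have hzu : ∀ b ∈ zpowers u, b = 1 ∨ b = u := fun b hb => by
      obtain ⟨i, rfl⟩ := mem_zpowers_iff.1 hb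
      rcases Int.even_or_odd' i with ⟨j, rfl | rfl⟩
      · left; rw [zpow_mul, zpow_two, huu, one_zpow]
      · right; rw [zpow_add, zpow_mul, zpow_two, huu, one_zpow, one_mul, zpow_one]
    have hnorm : zpowers u ≤ normalizer (W : Set G) := zpowers_le.2 (mem_normalizer_iff.2 fun a => by
      constructor
      · intro ha; rwa [hcomm a ha, mul_inv_cancel_right]
      · intro ha
        have := hcomm _ ha
        have e : a = u * a * u⁻¹ := by
          calc a = u⁻¹ * (u * a * u⁻¹ * u) := by group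
            _ = u * a * u⁻¹ := by rw [← this, inv_mul_cancel_left]
        rwa [← e] at ha)
    have hBsq : ∀ b ∈ B, b * b = 1 := fun b hb => by
      obtain ⟨a, ha, v, hv, rfl⟩ := exists_mul_of_mem_sup hnorm hb
      rcases hzu v hv with rfl | rfl
      · rw [mul_one]; exact hl.U_sq ha.1
      · rw [show a * v * (a * v) = a * (v * a) * v by group, hcomm a ha,
          show a * (a * v) * v = a * a * (v * v) by group, hl.U_sq ha.1, huu, mul_one]
    have hWB : W ≤ B := le_sup_left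
    have hBT : B ≤ T := sup_le hWT (zpowers_le.2 huT)
    have huB : u ∈ B := mem_sup_right (mem_zpowers u)
    have hBT' : B = T := by
      refine Subgroup.eq_of_le_of_card_ge hBT ?_
      have hlt : Nat.card W ≠ Nat.card B := fun e => huU
        ((Subgroup.eq_of_le_of_card_ge hWB e.ge) ▸ huB : u ∈ W).1
      have hd := card_dvd_of_le hWB
      have hd' := card_dvd_of_le hBT
      rw [hT8] at hd' ⊢
      have h4 : Nat.card W = 4 := hl.card_fix
      rw [h4] at hd hlt
      obtain ⟨m, hm⟩ := hd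
      have hB8 : Nat.card B ≤ 8 := Nat.le_of_dvd (by norm_num) hd'
      have hB0 : 0 < Nat.card B := Nat.card_pos
      omega
    have hTsq : ∀ b ∈ T, b * b = 1 := fun b hb => hBsq b (hBT' ▸ hb)
    have hTcomm : ∀ a ∈ T, ∀ b ∈ T, a * b = b * a := fun a ha b hb => by
      calc a * b = (a * b)⁻¹ := (inv_eq_of_mul_eq_one_left (hTsq _ (mul_mem ha hb))).symm
        _ = b * a := by
          rw [mul_inv_rev, inv_eq_of_mul_eq_one_left (hTsq a ha), inv_eq_of_mul_eq_one_left (hTsq b hb)]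
    have hTs : ∀ b ∈ T, b * s = s * b := fun b hb => mem_cent_one.1 (hTY hb).2
    have hnz : ∀ b ∈ T, ¬ IsConj c.z b := fun x hx hxz => by
      have := exp_two_le hl.toBaseSeven hl.ord hTsq hTs hx hxz fun b hb => hTcomm b hb x hx
      omega
    -- the four-group attached to `u`
    have hu1 : u ≠ 1 := fun e => huU (e ▸ one_mem U)
    have hu2 : orderOf u = 2 := orderOf_eq_prime (by rw [pow_two]; exact huu) hu1
    have hlu : LocT c M s u :=
      { hl.toBaseSeven with
        nonz := hl.nonz, ord := hl.ord, t_ord := hu2, t_not := hnz u huT, comm := hTs u huT }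
    obtain ⟨Tu, hTu8, -, -, hTumem⟩ := hlu.exists_two
    have hTTu : T = Tu := Subgroup.eq_of_le_of_card_ge (fun b hb => hTumem b
      ⟨mem_cent_one.2 (hTcomm b hb u huT), mem_cent_one.2 (hTs b hb)⟩ 1
      (by rw [pow_one, pow_two, hTsq b hb])) (by rw [hT8, hTu8])
    set W' := hlu.U ⊓ centralizer ({s} : Set G) with hW'
    have hW'T : W' ≤ T := fun w hw => hTTu ▸
      hTumem w ⟨hlu.U_le hw.1, hw.2⟩ 1 (by rw [pow_one, pow_two, hlu.U_sq hw.1])
    obtain ⟨x, hx, hx1⟩ : ∃ x ∈ W ⊓ W', x ≠ 1 := by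
      refine (Subgroup.bot_or_exists_ne_one _).resolve_left fun e => ?_
      let F : W × W' → T := fun p => ⟨p.1 * p.2, mul_mem (hWT p.1.2) (hW'T p.2.2)⟩
      have hF : Function.Injective F := fun p q e' => by
        have e'' : (p.1 : G) * p.2 = q.1 * q.2 := congrArg Subtype.val e'
        have h1 : (q.1 : G)⁻¹ * p.1 = q.2 * (p.2 : G)⁻¹ := by
          rw [eq_mul_inv_iff_mul_eq, mul_assoc, e'', inv_mul_cancel_left]
        have h2 : (q.1 : G)⁻¹ * p.1 ∈ W ⊓ W' :=
          ⟨W.mul_mem (W.inv_mem q.1.2) p.1.2, h1 ▸ W'.mul_mem q.2.2 (W'.inv_mem p.2.2)⟩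
        rw [e, mem_bot, inv_mul_eq_one] at h2
        rw [← h2, mul_left_cancel_iff] at e''
        exact Prod.ext (Subtype.ext h2.symm) (Subtype.ext e'')
      have := Nat.card_le_card_of_injective F hF
      rw [Nat.card_prod, hl.card_fix, hlu.card_fix, hT8] at this
      omega
    obtain ⟨⟨hxU, hxs⟩, hxU', -⟩ := hx
    have hxT : x ∈ T := hWT ⟨hxU, hxs⟩
    have hxz := hnz x hxT
    have hcle : hlu.U ≤ normalizer (U : Set G) := fun a ha =>
      hl.nonz.norm U hl.U_elem hl.U_spec.2.2.1 x hxU hx1 hxz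
        (mem_cent_one.2 (hlu.U_comm ha hxU'))
    have := hl.nonz.unique U hlu.U hl.U_elem hl.U_spec.2.2.1 hlu.U_elem hlu.U_spec.2.2.1 hcle
    exact huU (this ▸ hlu.U_spec.1)
  have hww : w * w = 1 := hl.U_sq hw.1
  have hw1 : w ≠ 1 := fun e => hwu (by rw [e, mul_one, one_mul])
  have hu1 : u ≠ 1 := fun e => hwu (by rw [e, mul_one, one_mul])
  have hne : u ≠ w := fun e => hwu (by rw [e])
  haveI : Fact (Nat.Prime 2) := ⟨Nat.prime_two⟩
  obtain ⟨e⟩ := S0206.result u w (orderOf_eq_prime (by rw [pow_two]; exact huu) hu1)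
    (orderOf_eq_prime (by rw [pow_two]; exact hww) hw1) hne
  set D := closure ({u, w} : Set G) with hD
  have hDT : D ≤ T := (closure_le _).2 (by rintro a (rfl | rfl); exacts [huT, hWT hw])
  have huw : u * w ∈ D := mul_mem (subset_closure (by simp)) (subset_closure (by simp))
  have hcardD : Nat.card D = 2 * orderOf (u * w) := by
    rw [Nat.card_congr e.toEquiv, DihedralGroup.nat_card]
  have hle4 : orderOf (u * w) ≤ 4 := by
    have := Subgroup.card_le_of_le hDT
    rw [hcardD, hT8] at this; omega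
  have hd8 : orderOf (u * w) ∣ 2 ^ 3 := (Subgroup.orderOf_dvd_natCard T (hDT huw)).trans (dvd_of_eq (by rw [hT8]; rfl))
  have h2 : ¬ orderOf (u * w) ∣ 2 := fun h => hwu (by
    have h' := orderOf_dvd_iff_pow_eq_one.1 h
    calc u * w = (u * w) * (u * w) * ((u * w))⁻¹ := by group
      _ = w⁻¹ * u⁻¹ := by rw [← pow_two, h', one_mul, mul_inv_rev]
      _ = w * u := by rw [inv_eq_of_mul_eq_one_left hww, inv_eq_of_mul_eq_one_left huu])
  have h4 : orderOf (u * w) = 4 := by
    obtain ⟨i, -, hi⟩ := (Nat.dvd_prime_pow Nat.prime_two).1 hd8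
    rw [hi] at h2 hle4 ⊢
    rcases i with - | - | - | i
    · simp at h2
    · simp at h2
    · rfl
    · exfalso
      have := Nat.one_le_two_pow (n := i)
      rw [pow_succ, pow_succ, pow_succ] at hle4
      omega
  rw [h4] at hcardD e
  exact ⟨(MulEquiv.subgroupCongr (Subgroup.eq_of_le_of_card_ge hDT (by rw [hT8, hcardD]))).symm.trans e⟩

end LocT

end Cfsg.Agent.H54.JFour
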