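import Cfsg.Agent.H54.JFour.Vec
import Cfsg.Agent.H43.J4.Struct

/-!
The quotient of the extraspecial group by its centre as an elementary abelian group, with the action of
the centraliser of the involution.
-/

set_option autoImplicit false

namespace Cfsg.Agent.H54.JFour

open Subgroup Cfsg.Agent.H43.JFour Cfsg.Agent.H43.JFour.Ctx

universe u v

variable {G : Type u} [Group G] {A : Type v} [Group A] {c : Ctx G A}

/-- The centre of `E`. -/
def zE (c : Ctx G A) : Subgroup c.E := (zpowers c.z).subgroupOf c.E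

theorem zE_normal (hc : c.Ok) : (zE c).Normal := by
  refine ⟨fun a ha b => ?_⟩
  rw [zE, mem_subgroupOf] at ha ⊢
  rcases hc.mem_zp.1 ha with h | h <;> rw [Subgroup.coe_mul, Subgroup.coe_mul, h, InvMemClass.coe_inv]
  · simp
  · rw [← hc.z_comm b.2, mul_inv_cancel_right]; exact mem_zpowers _

/-- Equality up to the centre. -/
theorem eq_mod (hc : c.Ok) {a b : G} :
    a⁻¹ * b ∈ zpowers c.z ↔ b = a ∨ b = a * c.z := by
  rw [hc.mem_zp, inv_mul_eq_one, inv_mul_eq_iff_eq_mul, eq_comm (a := a)]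

/-- Conjugation by an element of `H`, on `E`. -/
noncomputable def conjE' (hc : c.Ok) (h : c.H) : c.E →* c.E where
  toFun a := ⟨(h : G) * a * (h : G)⁻¹, hc.conjE h.2 a.2⟩
  map_one' := Subtype.ext (by simp)
  map_mul' a b := Subtype.ext (by simp [mul_assoc])

theorem conjE'_zE (hc : c.Ok) (h : c.H) : zE c ≤ (zE c).comap (conjE' hc h) := by
  intro a ha
  rw [zE, mem_comap, mem_subgroupOf] at *
  show (h : G) * a * (h : G)⁻¹ ∈ zpowers c.z
  rcases hc.mem_zp.1 ha with e | e <;> rw [e]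
  · simp
  · rw [← c.mem_H.1 h.2, mul_inv_cancel_right]; exact mem_zpowers _

/-- The space `E / ⟨z⟩`. -/
abbrev VE (c : Ctx G A) : Type u := Additive (c.E ⧸ zE c)

/-- `E / ⟨z⟩` is abelian. -/
@[reducible] noncomputable def commGroupVE (hc : c.Ok) [(zE c).Normal] : CommGroup (c.E ⧸ zE c) :=
  { (inferInstance : Group (c.E ⧸ zE c)) with
    mul_comm := by
      rintro ⟨a⟩ ⟨b⟩
      refine (QuotientGroup.eq).2 ?_
      rw [zE, mem_subgroupOf]
      show ((a : G) * b)⁻¹ * (b * a) ∈ zpowers c.z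
      rw [eq_mod hc]
      rcases hc.swap b.2 a.2 with e | e
      · exact Or.inl e
      · refine Or.inr (e.trans ?_)
        rw [hc.z_comm (mul_mem a.2 b.2)] }

variable [(zE c).Normal]

omit [(zE c).Normal] in
theorem cls_eq (hc : c.Ok) (a b : c.E) :
    (QuotientGroup.mk a : c.E ⧸ zE c) = QuotientGroup.mk b ↔ (b : G) = a ∨ (b : G) = a * c.z := by
  rw [QuotientGroup.eq, zE, mem_subgroupOf, ← eq_mod hc]
  rfl

theorem cls_two (hc : c.Ok) [Finite G] (v : c.E ⧸ zE c) : v * v = 1 := by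
  obtain ⟨a, rfl⟩ := QuotientGroup.mk_surjective v
  rw [← QuotientGroup.mk_mul, ← QuotientGroup.mk_one, cls_eq hc]
  rcases hc.sq_mem a.2 with e | e
  · exact Or.inl (by simp [e])
  · exact Or.inr (by simp [e, hc.z_sq])

omit [(zE c).Normal] in
theorem card_zE (hc : c.Ok) : Nat.card (zE c) = 2 := by
  rw [zE, Nat.card_congr (subgroupOfEquivOfLe (zpowers_le.2 hc.z_mem)).toEquiv, Nat.card_zpowers,
    hc.ord]

omit [(zE c).Normal] in
theorem card_VE (hc : c.Ok) [Finite G] : Nat.card (c.E ⧸ zE c) = 2 ^ 12 := by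
  have h := (zE c).card_eq_card_quotient_mul_card_subgroup
  rw [hc.cardE, card_zE hc] at h
  omega

/-- The action of an element of `H` on `E / ⟨z⟩`. -/
noncomputable def actV (hc : c.Ok) (h : c.H) : c.E ⧸ zE c →* c.E ⧸ zE c :=
  QuotientGroup.map _ _ (conjE' hc h) (conjE'_zE hc h)

theorem actV_mk (hc : c.Ok) (h : c.H) (a : c.E) :
    actV hc h (QuotientGroup.mk a) = QuotientGroup.mk ⟨(h : G) * a * (h : G)⁻¹, hc.conjE h.2 a.2⟩ :=
  rfl

theorem actV_mul (hc : c.Ok) (g h : c.H) (v : c.E ⧸ zE c) :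
    actV hc (g * h) v = actV hc g (actV hc h v) := by
  obtain ⟨a, rfl⟩ := QuotientGroup.mk_surjective v
  rw [actV_mk, actV_mk, actV_mk]
  congr 1
  exact Subtype.ext (by simp [mul_assoc])

theorem actV_inj (hc : c.Ok) (h : c.H) : Function.Injective (actV hc h) := by
  intro v w e
  have := congrArg (actV hc h⁻¹) e
  rw [← actV_mul, ← actV_mul, inv_mul_cancel] at this
  obtain ⟨a, rfl⟩ := QuotientGroup.mk_surjective v
  obtain ⟨b, rfl⟩ := QuotientGroup.mk_surjective w
  rw [actV_mk, actV_mk] at this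
  simpa using this

omit [(zE c).Normal] in
/-- An element of odd order fixing a vector fixes its representatives. -/
theorem fix_of_odd (hc : c.Ok) {h : G} {n : ℕ} (hn : Odd n) (hh : h ^ n = 1) (hH : h ∈ c.H) {a : G}
    (he : h * a * h⁻¹ = a ∨ h * a * h⁻¹ = a * c.z) : h * a * h⁻¹ = a := by
  refine he.resolve_right fun e => hc.z_ne ?_
  have key : ∀ k : ℕ, h ^ k * a * (h ^ k)⁻¹ = a * c.z ^ k := by
    intro k
    induction k with
    | zero => simp
    | succ k ih =>
      have hz : Commute c.z h := c.mem_H.1 hH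
      calc h ^ (k + 1) * a * (h ^ (k + 1))⁻¹ = h * (h ^ k * a * (h ^ k)⁻¹) * h⁻¹ := by
            rw [pow_succ']; group
        _ = h * a * (c.z ^ k * h⁻¹) := by rw [ih]; group
        _ = h * a * h⁻¹ * c.z ^ k := by rw [(hz.inv_right.pow_left k).eq, ← mul_assoc]
        _ = a * c.z ^ (k + 1) := by rw [e, pow_succ', mul_assoc]
  have h1 := key n
  rw [hh] at h1
  obtain ⟨m, rfl⟩ := hn
  rw [pow_succ, pow_mul, pow_two, hc.z_sq, one_pow, one_mul, one_mul, inv_one, mul_one] at h1
  exact mul_eq_left.1 h1.symm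

omit [(zE c).Normal] in
/-- A non-trivial element of `P` fixes only the zero vector. -/
theorem fixP_vec (hc : c.Ok) {p : G} (hp : p ∈ c.P) (hp1 : p ≠ 1) {a : G} (ha : a ∈ c.E)
    (he : p * a * p⁻¹ = a ∨ p * a * p⁻¹ = a * c.z) : a = 1 ∨ a = c.z := by
  haveI : Fact (Nat.Prime 3) := ⟨Nat.prime_three⟩
  have h3 : p ^ 3 = 1 :=
    orderOf_dvd_iff_pow_eq_one.1 (hc.cardP ▸ Subgroup.orderOf_dvd_natCard c.P hp)
  have h1 : Commute p a :=
    mul_inv_eq_iff_eq_mul.1 (fix_of_odd hc (n := 3) (by decide) h3 (hc.P_le hp) he)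
  refine hc.mem_zp.1 (hc.fixP a ha fun r hr => ?_)
  rw [← PGroups.zpowers_eq_of_card_eq hc.cardP hp hp1] at hr
  obtain ⟨k, rfl⟩ := mem_zpowers_iff.1 hr
  exact (h1.zpow_left k).eq

/-- The orbit of a non-trivial element of `P` on a vector sums to zero. -/
theorem sum_P (hc : c.Ok) [Finite G] {p : G} (hp : p ∈ c.P) (hp1 : p ≠ 1) (v : c.E ⧸ zE c) :
    v * actV hc ⟨p, hc.P_le hp⟩ v * actV hc ⟨p, hc.P_le hp⟩ (actV hc ⟨p, hc.P_le hp⟩ v) = 1 := by
  letI := commGroupVE hc
  set f := actV hc ⟨p, hc.P_le hp⟩ with hf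
  have h3 : p ^ 3 = 1 :=
    orderOf_dvd_iff_pow_eq_one.1 (hc.cardP ▸ Subgroup.orderOf_dvd_natCard c.P hp)
  set w := v * f v * f (f v) with hw
  have hfff : f (f (f v)) = v := by
    rw [hf, ← actV_mul, ← actV_mul]
    obtain ⟨a, rfl⟩ := QuotientGroup.mk_surjective v
    rw [actV_mk]
    congr 1
    apply Subtype.ext
    show p * p * p * (a : G) * (p * p * p)⁻¹ = a
    rw [← pow_three', h3]
    simp
  have hfix : f w = w := by
    rw [hw, map_mul, map_mul, hfff]
    ac_rfl
  clear_value w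
  obtain ⟨b, rfl⟩ := QuotientGroup.mk_surjective w
  rw [hf, actV_mk] at hfix
  have h' := (cls_eq hc _ _).1 hfix.symm
  rw [← QuotientGroup.mk_one, cls_eq hc]
  rcases fixP_vec hc hp hp1 b.2 h' with e | e <;> simp [e, hc.z_sq]

/-- An element of order five commuting with `P`, not centralising `E` and normalised through its square
inside the centraliser of `P`, centralises exactly 32 elements of `E`. -/
theorem card_fix_five (hc : c.Ok) [Finite G] {q y : G} (hq : q ∈ c.C) (hq5 : q ^ 5 = 1) (hq1 : q ≠ 1)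
    (hy : y ∈ c.C) (hyq : y * q * y⁻¹ = q ^ 2) :
    Nat.card ↥(c.E ⊓ centralizer ({q} : Set G)) = 32 := by
  letI := commGroupVE hc
  obtain ⟨p, hp, hp1⟩ : ∃ p ∈ c.P, p ≠ 1 := by
    refine (Subgroup.bot_or_exists_ne_one c.P).resolve_left fun h => ?_
    have := hc.cardP; rw [h, Subgroup.card_bot] at this; omega
  let Q' : c.H := ⟨q, hq.1⟩
  let P' : c.H := ⟨p, hc.P_le hp⟩
  let Y' : c.H := ⟨y, hy.1⟩
  have hcomm : ∀ {x : G}, x ∈ c.C → x * p = p * x := fun hx =>
    (mem_centralizer_iff.1 (Subgroup.mem_inf.1 hx).2 p hp).symm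
  have hmoved : ∃ v, actV hc Q' v ≠ v := by
    by_contra hall
    push Not at hall
    have hcen : ∀ a ∈ c.E, q * a = a * q := fun a ha => by
      have h1 := (cls_eq hc _ _).1 (hall (QuotientGroup.mk ⟨a, ha⟩)).symm
      exact mul_inv_eq_iff_eq_mul.1 (fix_of_odd hc (n := 5) (by decide) hq5 hq.1 h1)
    have hdvd := Subgroup.orderOf_dvd_natCard c.E (hc.cent q hq.1 hcen)
    haveI : Fact (Nat.Prime 5) := ⟨by norm_num⟩
    rw [orderOf_eq_prime hq5 hq1, hc.cardE] at hdvd
    exact absurd hdvd (by decide)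
  have h16 := five_fix (V := VE c) (fun v => cls_two hc v.toMul) (card_VE hc)
    (actV hc Q').toAdditive (actV hc P').toAdditive (actV hc Y').toAdditive
    (fun v => show actV hc Q' (actV hc Q' (actV hc Q' (actV hc Q' (actV hc Q' v.toMul)))) = v.toMul by
      rw [← actV_mul, ← actV_mul, ← actV_mul, ← actV_mul]
      obtain ⟨a, ha⟩ := QuotientGroup.mk_surjective v.toMul
      rw [← ha, actV_mk]
      congr 1
      apply Subtype.ext
      show q * q * q * q * q * (a : G) * (q * q * q * q * q)⁻¹ = a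
      rw [show q * q * q * q * q = q ^ 5 by simp [pow_succ], hq5]
      simp)
    hmoved
    (fun v => sum_P hc hp hp1 v.toMul)
    (fun v => show actV hc Q' (actV hc P' v.toMul) = actV hc P' (actV hc Q' v.toMul) by
      rw [← actV_mul, ← actV_mul, show Q' * P' = P' * Q' from Subtype.ext (hcomm hq)])
    (fun v => show actV hc Y' (actV hc P' v.toMul) = actV hc P' (actV hc Y' v.toMul) by
      rw [← actV_mul, ← actV_mul, show Y' * P' = P' * Y' from Subtype.ext (hcomm hy)])
    (fun v => show actV hc Y' (actV hc Q' v.toMul) =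
        actV hc Q' (actV hc Q' (actV hc Y' v.toMul)) by
      rw [← actV_mul, ← actV_mul, ← actV_mul, show Y' * Q' = Q' * Q' * Y' from Subtype.ext
        (show y * q = q * q * y by rw [← pow_two, ← hyq, inv_mul_cancel_right])])
    (actV_inj hc Y')
  set F := c.E ⊓ centralizer ({q} : Set G) with hF
  let f : F.subgroupOf c.E → {v : VE c // (actV hc Q').toAdditive v = v} := fun a =>
    ⟨Additive.ofMul (QuotientGroup.mk (a : c.E)), by
      show Additive.ofMul (actV hc Q' (QuotientGroup.mk (a : c.E))) = _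
      rw [actV_mk]
      congr 2
      apply Subtype.ext
      show q * ((a : c.E) : G) * q⁻¹ = (a : c.E)
      rw [← mem_centralizer_singleton_iff.1 (mem_subgroupOf.1 a.2).2, mul_inv_cancel_right]⟩
  have hfs : Function.Surjective f := by
    rintro ⟨v, hv⟩
    obtain ⟨a, ha⟩ := QuotientGroup.mk_surjective v.toMul
    have hv' : actV hc Q' v.toMul = v.toMul := hv
    rw [← ha, actV_mk] at hv'
    have h1 := mul_inv_eq_iff_eq_mul.1
      (fix_of_odd hc (n := 5) (by decide) hq5 hq.1 ((cls_eq hc _ _).1 hv'.symm))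
    exact ⟨⟨a, mem_subgroupOf.2 ⟨a.2, mem_centralizer_singleton_iff.2 h1.symm⟩⟩, Subtype.ext ha⟩
  let g : F.subgroupOf c.E →* c.E ⧸ zE c := (QuotientGroup.mk' _).comp (Subgroup.subtype _)
  have hgr : Nat.card g.range = 16 := by
    rw [← h16]
    refine Nat.card_congr (Equiv.ofBijective
      (fun w => (⟨Additive.ofMul (w : c.E ⧸ zE c), by
        obtain ⟨a, ha⟩ := w.2; rw [← ha]; exact (f a).2⟩ : {v : VE c // (actV hc Q').toAdditive v = v}))
      ⟨fun a b e => Subtype.ext (congrArg Subtype.val e :), fun v => ?_⟩)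
    obtain ⟨a, ha⟩ := hfs v
    exact ⟨⟨g a, a, rfl⟩, ha⟩
  have hgk : g.ker = (zE c).subgroupOf (F.subgroupOf c.E) := by
    ext a
    rw [MonoidHom.mem_ker, mem_subgroupOf]
    exact QuotientGroup.eq_one_iff _
  have hzF : zE c ≤ F.subgroupOf c.E := by
    intro a ha
    rw [mem_subgroupOf]
    refine ⟨a.2, mem_centralizer_singleton_iff.2 ?_⟩
    rcases hc.mem_zp.1 (mem_subgroupOf.1 ha) with e | e <;> rw [e]
    · simp
    · exact c.mem_H.1 hq.1
  have h := g.ker.card_eq_card_quotient_mul_card_subgroup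
  rw [Nat.card_congr (QuotientGroup.quotientKerEquivRange g).toEquiv, hgr, hgk,
    Nat.card_congr (subgroupOfEquivOfLe hzF).toEquiv, zE,
    Nat.card_congr (subgroupOfEquivOfLe (zpowers_le.2 hc.z_mem)).toEquiv, Nat.card_zpowers, hc.ord,
    Nat.card_congr (subgroupOfEquivOfLe (inf_le_left : F ≤ c.E)).toEquiv] at h
  omega

end Cfsg.Agent.H54.JFour
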