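import Mathlib

/-!
Finite groups of exponent two with commuting endomorphisms of orders three and five.
-/

set_option autoImplicit false

namespace Cfsg.Agent.H54.JFour

/-- An endomorphism of prime order without fixed points other than zero. -/
theorem card_mod_of_fpf {W : Type*} [AddCommGroup W] [Finite W] {p : ℕ} [Fact p.Prime]
    (f : W → W) (hf : f^[p] = id) (h0 : f 0 = 0) (hfix : ∀ v, f v = v → v = 0) :
    Nat.card W % p = 1 % p := by
  classical
  haveI := Fintype.ofFinite W
  have h := Equiv.Perm.card_fixedPoints_modEq (f := (f : Function.End W)) (p := p) (n := 1)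
    (by rw [pow_one]; exact hf)
  have h1 : Nat.card (Function.fixedPoints f) = 1 := by
    haveI : Subsingleton (Function.fixedPoints f) :=
      ⟨fun a b => Subtype.ext ((hfix _ a.2).trans (hfix _ b.2).symm)⟩
    haveI : Nonempty (Function.fixedPoints f) := ⟨⟨0, h0⟩⟩
    exact Nat.card_unique
  rw [← Nat.card_eq_fintype_card, ← Nat.card_eq_fintype_card] at h
  exact h.trans (by rw [show Nat.card (Function.fixedPoints (f : Function.End W)) = 1 from h1])

variable {V : Type*} [AddCommGroup V] [Finite V]

/-- A group of exponent two has two-power order. -/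
theorem card_two_pow (h2 : ∀ v : V, v + v = 0) : ∃ n, Nat.card V = 2 ^ n := by
  have hG : IsPGroup 2 (Multiplicative V) := fun v => ⟨1, by
    rw [pow_one, pow_two]; exact h2 v.toAdd⟩
  haveI : Fact (Nat.Prime 2) := ⟨Nat.prime_two⟩
  obtain ⟨n, hn⟩ := IsPGroup.iff_card.1 hG
  exact ⟨n, by rw [← hn]; rfl⟩

/-- An element of order five commuting with a fixed-point-free element of order three and conjugate to
its square within the centraliser of the latter moves a space of order 256. -/
theorem five_fix (h2 : ∀ v : V, v + v = 0) (hV : Nat.card V = 2 ^ 12) (q p y : V →+ V)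
    (hq5 : ∀ v, q (q (q (q (q v)))) = v) (hq1 : ∃ v, q v ≠ v)
    (hp : ∀ v, v + p v + p (p v) = 0) (hqp : ∀ v, q (p v) = p (q v)) (hyp : ∀ v, y (p v) = p (y v))
    (hyq : ∀ v, y (q v) = q (q (y v))) (hy : Function.Injective y) :
    Nat.card {v : V // q v = v} = 16 := by
  have hneg : ∀ a b : V, a + b = 0 → a = b := fun a b h => by
    rw [← add_left_inj b, h, h2]
  have hp' : ∀ v, p (p v) = v + p v := fun v => (hneg (v + p v) _ (hp v)).symm
  have hp3 : ∀ v, p (p (p v)) = v := fun v => by
    rw [hp', hp', add_left_comm, h2, add_zero]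
  have hpfix : ∀ v, p v = v → v = 0 := fun v hv => by
    have := hp v
    rwa [hv, hv, h2, zero_add] at this
  have hqinj : Function.Injective q := fun a b h => by rw [← hq5 a, h, hq5]
  let f1 : V →+ V := q.comp q + p.comp q + AddMonoidHom.id V
  let f2 : V →+ V := q.comp q + p.comp (p.comp q) + AddMonoidHom.id V
  have hf1 : ∀ v, f1 v = q (q v) + p (q v) + v := fun v => rfl
  have hf2 : ∀ v, f2 v = q (q v) + p (p (q v)) + v := fun v => rfl
  let s : V →+ V := q.comp (q.comp (q.comp q)) + q.comp (q.comp q) + q.comp q + q + AddMonoidHom.id V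
  have hs : ∀ v, s v = q (q (q (q v))) + q (q (q v)) + q (q v) + q v + v := fun v => rfl
  -- identities between the three maps
  have hs12 : ∀ v, f1 (f2 v) = s v := fun v => by
    simp only [hf1, hf2, hs, map_add, hqp, hp3]
    have e : ∀ u, p u + p (p u) = u := fun u => (hneg u _ ((add_assoc _ _ _).symm.trans (hp u))).symm
    calc _ = q (q (q (q v))) + (p (q (q (q v))) + p (p (q (q (q v)))))
          + ((q (q v) + q (q v)) + q (q v)) + (p (q v) + p (p (q v))) + v := by abel
      _ = _ := by rw [e, e, h2, zero_add]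
  have hcomm : ∀ v, f2 (f1 v) = f1 (f2 v) := fun v => by
    simp only [hf1, hf2, map_add, hqp]
    abel
  have hsum : ∀ v, f1 v + f2 v = q v := fun v => by
    rw [hf1, hf2, hp' (q v)]
    calc _ = (q (q v) + q (q v)) + (p (q v) + p (q v)) + (v + v) + q v := by abel
      _ = q v := by simp only [h2, zero_add]
  -- fixed points and the three kernels
  set K1 := f1.ker
  set K2 := f2.ker
  set W := s.ker
  have hsq : ∀ v, q (s v) = s v := fun v => by
    simp only [hs, map_add, hq5]
    abel
  have hsfix : ∀ v, q v = v → s v = v := fun v hv => by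
    rw [hs, hv, hv, hv, hv, h2, zero_add, h2, zero_add]
  have hW1 : K1 ≤ W := fun v hv => by
    show s v = 0
    rw [← hs12, ← hcomm, (AddMonoidHom.mem_ker.1 hv : f1 v = 0), map_zero]
  have hW2 : K2 ≤ W := fun v hv => by
    show s v = 0
    rw [← hs12, (AddMonoidHom.mem_ker.1 hv : f2 v = 0), map_zero]
  have h12 : ∀ v ∈ K1, v ∈ K2 → v = 0 := fun v a b => hqinj (by
    rw [← hsum v, (AddMonoidHom.mem_ker.1 a : f1 v = 0), (AddMonoidHom.mem_ker.1 b : f2 v = 0),
      map_zero, add_zero])
  have hsplit : Function.Bijective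
      fun t : {v : V // q v = v} × (K1 × K2) => (t.1 : V) + ((t.2.1 : V) + t.2.2) := by
    refine ⟨?_, fun v => ?_⟩
    · rintro ⟨a, b, c⟩ ⟨a', b', c'⟩ e
      have e' : (a : V) + ((b : V) + c) = a' + ((b' : V) + c') := e
      have es := congrArg s e'
      simp only [map_add, hsfix _ a.2, hsfix _ a'.2, (AddMonoidHom.mem_ker.1 (hW1 b.2) : s b = 0),
        (AddMonoidHom.mem_ker.1 (hW1 b'.2) : s b' = 0), (AddMonoidHom.mem_ker.1 (hW2 c.2) : s c = 0),
        (AddMonoidHom.mem_ker.1 (hW2 c'.2) : s c' = 0), add_zero] at es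
      rw [es, add_left_cancel_iff] at e'
      have e2 : (b : V) - b' = c' - c := by
        rw [sub_eq_sub_iff_add_eq_add, e']; abel
      have h0 : (b : V) - b' = 0 := h12 _ (sub_mem b.2 b'.2) (e2 ▸ sub_mem c'.2 c.2)
      rw [sub_eq_zero] at h0
      rw [h0, add_left_cancel_iff] at e'
      exact Prod.ext (Subtype.ext es) (Prod.ext (Subtype.ext h0) (Subtype.ext e'))
    · obtain ⟨w, hwW, hw⟩ : ∃ w ∈ W, v = s v + w := ⟨s v + v, by
        show s (s v + v) = 0
        rw [map_add, hsfix _ (hsq v), h2], by rw [← add_assoc, h2, zero_add]⟩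
      have hsw : s w = 0 := hwW
      set u := q (q (q (q w))) with hu
      have hqu : q u = w := hq5 w
      have hsu : s u = 0 := by
        rw [hu, show s (q (q (q (q w)))) = q (q (q (q (s w)))) by simp only [hs, map_add], hsw]
        simp
      refine ⟨(⟨s v, hsq v⟩, ⟨f2 u, show f1 (f2 u) = 0 by rw [hs12, hsu]⟩,
        ⟨f1 u, show f2 (f1 u) = 0 by rw [hcomm, hs12, hsu]⟩), ?_⟩
      show s v + (f2 u + f1 u) = v
      rw [add_comm (f2 u), hsum, hqu, ← hw]
  have hy12 : ∀ v, f1 v = 0 → f2 (y v) = 0 := by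
    intro v hv
    have e : f2 (f2 (y v)) = y (f1 v) := by
      simp only [hf1, hf2, map_add, hyp, hyq, hqp, hp3]
      calc _ = q (q (q (q (y v)))) + (p (p (q (q (q (y v))))) + p (p (q (q (q (y v))))))
            + (q (q (y v)) + q (q (y v))) + p (q (q (y v)))
            + (p (p (q (y v))) + p (p (q (y v)))) + y v := by abel
        _ = _ := by simp only [h2, add_zero]
    rw [hv, map_zero] at e
    refine h12 _ ?_ e
    show f1 (f2 (y v)) = 0
    rw [hs12, show s (y v) = y (s v) by simp only [hs, map_add, hyq, hq5]; abel,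
      show s v = 0 from hW1 hv, map_zero]
  have hy21 : ∀ v, f2 v = 0 → f1 (y v) = 0 := by
    intro v hv
    have e : f1 (f1 (y v)) = y (f2 v) := by
      simp only [hf1, hf2, map_add, hyp, hyq, hqp]
      calc _ = q (q (q (q (y v)))) + (p (q (q (q (y v)))) + p (q (q (q (y v)))))
            + (q (q (y v)) + q (q (y v))) + p (p (q (q (y v))))
            + (p (q (y v)) + p (q (y v))) + y v := by abel
        _ = _ := by simp only [h2, add_zero]
    rw [hv, map_zero] at e
    refine h12 _ e ?_
    show f2 (f1 (y v)) = 0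
    rw [hcomm, hs12, show s (y v) = y (s v) by simp only [hs, map_add, hyq, hq5]; abel,
      show s v = 0 from hW2 hv, map_zero]
  have hK : Nat.card K1 = Nat.card K2 := le_antisymm
    (Nat.card_le_card_of_injective (fun v : K1 => (⟨y v, hy12 v v.2⟩ : K2))
      fun a b e => Subtype.ext (hy (congrArg Subtype.val e :)))
    (Nat.card_le_card_of_injective (fun v : K2 => (⟨y v, hy21 v v.2⟩ : K1))
      fun a b e => Subtype.ext (hy (congrArg Subtype.val e :)))
  have hcard := Nat.card_eq_of_bijective _ hsplit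
  rw [Nat.card_prod, Nat.card_prod, ← hK, hV] at hcard
  obtain ⟨k, hk⟩ := card_two_pow (V := K1) fun v => Subtype.ext (h2 _)
  have hmapq : ∀ v : K1, f1 (q v) = 0 := fun v => by
    rw [show f1 (q (v : V)) = q (f1 v) by simp only [hf1, map_add, hqp], show f1 (v : V) = 0 from v.2,
      map_zero]
  have hmapp : ∀ v : K1, f1 (p v) = 0 := fun v => by
    rw [show f1 (p (v : V)) = p (f1 v) by simp only [hf1, map_add, hqp], show f1 (v : V) = 0 from v.2,
      map_zero]
  have hk5 : Nat.card K1 % 5 = 1 := by
    haveI : Fact (Nat.Prime 5) := ⟨by norm_num⟩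
    refine card_mod_of_fpf (fun v => (⟨q v, hmapq v⟩ : K1))
      (funext fun v => Subtype.ext (by simpa using hq5 v)) (Subtype.ext (map_zero q)) fun v hv => ?_
    refine Subtype.ext ?_
    rw [ZeroMemClass.coe_zero, ← hsfix _ (congrArg Subtype.val hv :)]
    exact hW1 v.2
  have hk3 : Nat.card K1 % 3 = 1 := by
    haveI : Fact (Nat.Prime 3) := ⟨Nat.prime_three⟩
    exact card_mod_of_fpf (fun v => (⟨p v, hmapp v⟩ : K1))
      (funext fun v => Subtype.ext (by simpa using hp3 v)) (Subtype.ext (map_zero p))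
      fun v hv => Subtype.ext (hpfix _ (congrArg Subtype.val hv :))
  rw [hk] at hk5 hk3 hcard
  have hk6 : k ≤ 6 := by
    by_contra hlt
    have h128 : 2 ^ 7 ≤ 2 ^ k := Nat.pow_le_pow_right two_pos (by omega)
    have : 2 ^ 14 ≤ 2 ^ k * 2 ^ k := (Nat.mul_le_mul h128 h128).trans' (by norm_num)
    nlinarith [(Nat.card_pos_iff.2 ⟨⟨⟨0, map_zero q⟩⟩, inferInstance⟩ : 0 < Nat.card {v : V // q v = v})]
  interval_cases k
  · exfalso
    obtain ⟨v, hv⟩ := hq1
    have h1 : Nat.card {v : V // q v = v} = Nat.card V := by rw [hV]; simpa using hcard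
    haveI := Fintype.ofFinite V
    classical
    rw [Nat.card_eq_fintype_card, Nat.card_eq_fintype_card] at h1
    exact absurd h1 (Nat.ne_of_lt (Fintype.card_subtype_lt (p := fun v => q v = v) hv))
  all_goals omega

end Cfsg.Agent.H54.JFour
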