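import Cfsg.Agent.H98.JFour.Space
import Cfsg.Agent.H54.JFour.Vec
import Cfsg.Agent.H54.JFour.Space

/-!
An element of order seven of `C` fixes only the centre of the extraspecial group.
-/

set_option autoImplicit false

namespace Cfsg.Agent.H54.JFour

open Module Cfsg.Agent.H98.JFour Cfsg.Agent.H43.JFour Subgroup

section Linear

variable {K V : Type*} [Group K] [AddCommGroup V] [Module (ZMod 2) V]

/-- The values of the two cubic factors of `x ^ 6 + ... + 1` and their relations. -/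
theorem seven_poly (Q : V →ₗ[ZMod 2] V) (h7 : ∀ v, Q (Q (Q (Q (Q (Q (Q v)))))) = v) (v : V) :
    let f1 := fun w => Q (Q (Q w)) + Q w + w
    let f2 := fun w => Q (Q (Q w)) + Q (Q w) + w
    (Q (f1 v) + (f2 v + Q (f2 v)) = v) ∧ Q (f1 (f2 v)) = f1 (f2 v) ∧ f1 (f2 v) = f2 (f1 v) ∧
      (Q v = v → f1 (f2 v) = v) := by
  have h2 : ∀ w : V, w + w = 0 := Form.add_self
  intro f1 f2
  refine ⟨?_, ?_, ?_, fun hv => ?_⟩
  · simp only [f1, f2, map_add]
    calc _ = (Q (Q (Q (Q v))) + Q (Q (Q (Q v)))) + (Q (Q (Q v)) + Q (Q (Q v))) +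
          (Q (Q v) + Q (Q v)) + (Q v + Q v) + v := by abel
      _ = v := by simp only [h2, zero_add]
  · simp only [f1, f2, map_add, h7]
    calc _ = v + Q (Q (Q (Q (Q (Q v))))) + (Q (Q (Q (Q v))) + Q (Q (Q (Q v)))) +
          Q (Q (Q (Q (Q v)))) + Q (Q (Q v)) + Q (Q v) + Q v + Q (Q (Q (Q v))) := by abel
      _ = Q (Q (Q (Q (Q (Q v))))) + Q (Q (Q (Q (Q v)))) + Q (Q (Q (Q v))) +
          (Q (Q (Q v)) + Q (Q (Q v))) + Q (Q (Q v)) + Q (Q v) + Q v + v := by
        simp only [h2, add_zero]; abel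
      _ = _ := by abel
  · simp only [f1, f2, map_add]
    abel
  · simp only [f1, f2, hv, h2, zero_add]

variable [Finite V] (f : Form K V)

/-- An element of order seven acting nontrivially, in the presence of `p`, fixes only zero. -/
theorem fix_seven (h12 : finrank (ZMod 2) V = 12) {q : K} (hq : q ^ 7 = 1) (hne : ∃ v, f.ρ q v ≠ v) :
    f.fix q = ⊥ := by
  set Q := f.ρ q with hQ
  have h7 : ∀ v, Q (Q (Q (Q (Q (Q (Q v)))))) = v := fun v => by
    simp only [hQ, ← f.mul_apply]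
    rw [show q * (q * (q * (q * (q * (q * q))))) = q ^ 7 by simp [pow_succ, mul_assoc], hq, f.one_apply]
  let F1 : V →ₗ[ZMod 2] V := Q ∘ₗ Q ∘ₗ Q + Q + LinearMap.id
  let F2 : V →ₗ[ZMod 2] V := Q ∘ₗ Q ∘ₗ Q + Q ∘ₗ Q + LinearMap.id
  have hp := fun v => seven_poly Q h7 v
  have e1 : ∀ v, F1 v = Q (Q (Q v)) + Q v + v := fun v => rfl
  have e2 : ∀ v, F2 v = Q (Q (Q v)) + Q (Q v) + v := fun v => rfl
  have hQ1 : ∀ v, Q (F1 v) = F1 (Q v) := fun v => by simp only [e1, map_add]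
  have hQ2 : ∀ v, Q (F2 v) = F2 (Q v) := fun v => by simp only [e2, map_add]
  have hP : ∀ v, Q (f.ρ f.p v) = f.ρ f.p (Q v) := fun v => f.p_comm q v
  -- the commutator space
  set W := f.mov q with hW
  have hWQ : ∀ {v}, v ∈ W → Q v ∈ W := fun hv => f.inv_mov_of_commute rfl _ hv
  have hWP : ∀ {v}, v ∈ W → f.ρ f.p v ∈ W := fun hv => f.inv_mov_of_commute (f.cen q).symm _ hv
  have hs : ∀ {v}, v ∈ W → F1 (F2 v) = 0 := fun {v} hv => by
    obtain ⟨u, rfl⟩ := f.mem_mov.1 hv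
    simp only [map_add, ← hQ, ← hQ2, ← hQ1]
    rw [show Q (F1 (F2 u)) = F1 (F2 u) from (hp u).2.1, Form.add_self]
  have hfix0 : ∀ {v}, v ∈ W → Q v = v → v = 0 := fun {v} hv e => by
    rw [← (hp v).2.2.2 e]; exact hs hv
  have hF1W : ∀ {v}, v ∈ W → F1 v ∈ W := fun hv => add_mem (add_mem (hWQ (hWQ (hWQ hv))) (hWQ hv)) hv
  have hF2W : ∀ {v}, v ∈ W → F2 v ∈ W := fun hv =>
    add_mem (add_mem (hWQ (hWQ (hWQ hv))) (hWQ (hWQ hv))) hv
  set K1 := LinearMap.ker F1 ⊓ W with hK1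
  set K2 := LinearMap.ker F2 ⊓ W with hK2
  have hsum : K1 ⊔ K2 = W := by
    refine le_antisymm (sup_le inf_le_right inf_le_right) fun w hw => ?_
    rw [Submodule.mem_sup]
    refine ⟨F2 w + Q (F2 w), ⟨?_, add_mem (hF2W hw) (hWQ (hF2W hw))⟩, Q (F1 w), ⟨?_, hWQ (hF1W hw)⟩, ?_⟩
    · show F1 (F2 w + Q (F2 w)) = 0
      rw [map_add, ← hQ1, hs hw, map_zero, add_zero]
    · show F2 (Q (F1 w)) = 0
      rw [← hQ2, show F2 (F1 w) = F1 (F2 w) from (hp w).2.2.1.symm, hs hw, map_zero]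
    · rw [add_comm]; exact (hp w).1
  have hdis : K1 ⊓ K2 = ⊥ := eq_bot_iff.2 fun v hv => by
    obtain ⟨⟨h1, -⟩, h2, -⟩ := hv
    have h1' : F1 v = 0 := h1
    have h2' : F2 v = 0 := h2
    have h : Q (F1 v) + (F2 v + Q (F2 v)) = v := (hp v).1
    rw [h1', h2', map_zero] at h
    simpa using h.symm
  -- neither part is everything
  have hboth : ∀ v ∈ W, F1 v = 0 → F2 v = 0 → v = 0 := fun v _ h1' h2' => by
    have h : Q (F1 v) + (F2 v + Q (F2 v)) = v := (hp v).1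
    rw [h1', h2', map_zero] at h
    simpa using h.symm
  have hW0 : W ≠ ⊥ := fun e => by
    obtain ⟨v, hv⟩ := hne
    have h : Q v + v ∈ W := f.mem_mov.2 ⟨v, rfl⟩
    rw [e, Submodule.mem_bot] at h
    exact hv (sub_eq_zero.1 (by rw [Form.sub_eq_add]; exact h))
  have hinvQ : ∀ u v, f.β (Q u) (Q v) = f.β u v := f.inv q
  have step : ∀ u v, f.β (Q (Q (Q u))) (Q (Q (Q v))) = f.β u v := fun u v => by
    rw [hinvQ, hinvQ, hinvQ]
  have horth : ∀ {u v}, Q u = u → v ∈ W → f.β u v = 0 := fun {u v} hu hv =>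
    f.mov_le_orthogonal q hv u (f.mem_fix.2 hu)
  have hadj : ∀ u v, f.β (F1 u) (Q (Q (Q v))) = f.β u (F2 v) ∧
      f.β (F2 u) (Q (Q (Q v))) = f.β u (F1 v) := fun u v => by
    constructor
    · rw [e1, e2, map_add, map_add, LinearMap.add_apply, LinearMap.add_apply, step, map_add, map_add,
        hinvQ u (Q (Q v))]
      abel
    · rw [e1, e2, map_add, map_add, LinearMap.add_apply, LinearMap.add_apply, step, map_add, map_add,
        hinvQ (Q u) (Q (Q v)), hinvQ u (Q v)]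
      abel
  have hsplit : ∀ v : V, ∃ a w, Q a = a ∧ w ∈ W ∧ v = a + w := fun v => by
    refine ⟨F1 (F2 v), v + F1 (F2 v), (hp v).2.1, ?_, ?_⟩
    · refine f.mem_mov.2 ⟨Q (Q (Q (Q (Q v)))) + Q (Q (Q v)) + Q v, ?_⟩
      show Q _ + _ = _
      simp only [e1, e2, map_add]
      calc _ = v + v + ((Q (Q (Q v)) + Q (Q (Q v))) + Q (Q (Q (Q (Q (Q v))))) + Q (Q (Q (Q (Q v)))) +
            Q (Q (Q (Q v))) + Q (Q (Q v)) + Q (Q v) + Q v) := by
            simp only [Form.add_self, zero_add]; abel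
        _ = _ := by abel
    · rw [add_left_comm, Form.add_self, add_zero]
  have hnotall : ∀ (F F' : V →ₗ[ZMod 2] V), (∀ u v, f.β (F u) (Q (Q (Q v))) = f.β u (F' v)) →
      (∀ v ∈ W, F' v ∈ W) → (∀ v ∈ W, F v = 0) → ∀ w ∈ W, F' w = 0 := fun F F' had hF'W hF w hw => by
    refine f.nd.2 _ fun u => ?_
    obtain ⟨a, w', ha, hw', rfl⟩ := hsplit u
    rw [map_add, LinearMap.add_apply, horth ha (hF'W w hw), zero_add, ← had w' w, hF w' hw', map_zero,
      LinearMap.zero_apply]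
  have hK1ne : K1 ≠ ⊥ := fun e => by
    have hW2 : ∀ v ∈ W, F2 v = 0 := fun v hv => by
      rw [← hsum, e, bot_sup_eq] at hv; exact hv.1
    refine hW0 (eq_bot_iff.2 fun v hv => ?_)
    exact hboth v hv (hnotall F2 F1 (fun u v => (hadj u v).2) (fun v hv => hF1W hv) hW2 v hv) (hW2 v hv)
  have hK2ne : K2 ≠ ⊥ := fun e => by
    have hW1 : ∀ v ∈ W, F1 v = 0 := fun v hv => by
      rw [← hsum, e, sup_bot_eq] at hv; exact hv.1
    refine hW0 (eq_bot_iff.2 fun v hv => ?_)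
    exact hboth v hv (hW1 v hv) (hnotall F1 F2 (fun u v => (hadj u v).1) (fun v hv => hF2W hv) hW1 v hv)
  -- both parts have dimension divisible by six
  have hsix : ∀ U : Submodule (ZMod 2) V, U ≤ W → (∀ v ∈ U, Q v ∈ U) → (∀ v ∈ U, f.ρ f.p v ∈ U) →
      U ≠ ⊥ → 6 ≤ finrank (ZMod 2) U := fun U hUW hUQ hUP hU => by
    haveI : Fact (Nat.Prime 7) := ⟨by norm_num⟩
    haveI : Fact (Nat.Prime 3) := ⟨Nat.prime_three⟩
    have h7' : Nat.card U % 7 = 1 := card_mod_of_fpf (fun v : U => (⟨Q v, hUQ v v.2⟩ : U))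
      (funext fun v => Subtype.ext (h7 v)) (Subtype.ext (map_zero Q))
      fun v hv => Subtype.ext (hfix0 (hUW v.2) (congrArg Subtype.val hv :))
    have h3' : Nat.card U % 3 = 1 := card_mod_of_fpf (fun v : U => (⟨f.ρ f.p v, hUP v v.2⟩ : U))
      (funext fun v => Subtype.ext (f.p_apply_three v)) (Subtype.ext (map_zero _))
      fun v hv => Subtype.ext (f.fpf _ (congrArg Subtype.val hv :))
    have hpos : finrank (ZMod 2) U ≠ 0 := fun h => hU (Submodule.finrank_eq_zero.1 h)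
    rw [Module.natCard_eq_pow_finrank (K := ZMod 2), Nat.card_zmod] at h7' h3'
    by_contra hlt
    generalize finrank (ZMod 2) U = k at h7' h3' hpos hlt
    interval_cases k <;> omega
  have hpF : ∀ v, F1 (f.ρ f.p v) = f.ρ f.p (F1 v) ∧ F2 (f.ρ f.p v) = f.ρ f.p (F2 v) := fun v => by
    simp only [e1, e2, hP, map_add, and_self]
  have h1 := hsix K1 inf_le_right
    (fun v hv => ⟨by show F1 (Q v) = 0; rw [← hQ1, show F1 v = 0 from hv.1, map_zero], hWQ hv.2⟩)
    (fun v hv => ⟨by show F1 _ = 0; rw [(hpF v).1, show F1 v = 0 from hv.1, map_zero], hWP hv.2⟩) hK1ne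
  have h2' := hsix K2 inf_le_right
    (fun v hv => ⟨by show F2 (Q v) = 0; rw [← hQ2, show F2 v = 0 from hv.1, map_zero], hWQ hv.2⟩)
    (fun v hv => ⟨by show F2 _ = 0; rw [(hpF v).2, show F2 v = 0 from hv.1, map_zero], hWP hv.2⟩) hK2ne
  have h3 := Submodule.finrank_sup_add_finrank_inf_eq K1 K2
  rw [hsum, hdis, finrank_bot, add_zero] at h3
  have h4 := f.finrank_mov q
  rw [h12, ← hW, h3] at h4
  exact Submodule.finrank_eq_zero.1 (by omega)

end Linear

universe u v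

variable {G : Type u} [Group G] [Finite G] {A : Type v} [Group A] {c : Ctx G A}

/-- An element of order seven of `C` centralises only `1` and `z` in `E`. -/
theorem fix_E_seven (hc : c.Ok) {s : G} (hs : s ∈ c.C) (h7 : orderOf s = 7) {a : G} (ha : a ∈ c.E)
    (hsa : s * a = a * s) : a = 1 ∨ a = c.z := by
  haveI := finite_sp hc
  set f := spForm hc
  set q : c.C := ⟨s, hs⟩
  have hs7 : s ^ 7 = 1 := by rw [← h7, pow_orderOf_eq_one]
  have hne : ∃ v, f.ρ q v ≠ v := by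
    by_contra hall
    push Not at hall
    have hcen : ∀ b ∈ c.E, s * b = b * s := fun b hb => by
      have h := hall (vec c b)
      rw [spForm_ρ hc q hb, vec_eq_iff hc (hc.conjE (mem_inf.1 hs).1 hb) hb] at h
      refine mul_inv_eq_iff_eq_mul.1 (fix_of_odd hc (n := 7) (by decide) hs7 (mem_inf.1 hs).1 ?_)
      exact h.imp id fun e => e.trans (hc.z_comm hb)
    have hd := Subgroup.orderOf_dvd_natCard c.E (hc.cent s (mem_inf.1 hs).1 hcen)
    rw [h7, hc.cardE] at hd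
    exact absurd hd (by decide)
  have hfix := fix_seven f (finrank_sp hc) (q := q) (Subtype.ext (by
    rw [SubmonoidClass.coe_pow]; exact hs7)) hne
  refine (vec_eq_zero hc ha).1 ((Submodule.mem_bot (ZMod 2)).1 ?_)
  rw [← hfix, f.mem_fix, spForm_ρ hc q ha]
  show vec c (s * a * s⁻¹) = vec c a
  rw [hsa, mul_inv_cancel_right]

end Cfsg.Agent.H54.JFour
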