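import Cfsg.Agent.S3035
import Cfsg.Agent.H65.DihedralFusion
import Cfsg.Agent.H54.JFour.Struct
import Cfsg.Prelude.Def_Transfer

/-!
Groups of order divisible by five with an involution centraliser dihedral of order eight.
-/

set_option autoImplicit false

namespace Cfsg.Agent.H54.JFour

open Subgroup

universe u

variable {X : Type u} [Group X] [Finite X] {t : X}

/-- The odd core does not supplement the centraliser of `t`. -/
theorem false_of_core (ht : orderOf t = 2)
    (hC : Nonempty (↥(centralizer ({t} : Set X)) ≃* DihedralGroup 4)) (h5 : 5 ∣ Nat.card X)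
    (htop : centralizer ({t} : Set X) ⊔ Cfsg.oddCore X = ⊤)
    (hx : ∃ x : X, orderOf x = 2 ∧ x ≠ t ∧ x * t = t * x ∧ ∀ g : X, g * x = x * g → Odd (orderOf g) → g ^ 3 = 1) :
    False := by
  obtain ⟨e⟩ := hC
  obtain ⟨x, hxo, hxt, hcomm, hx3⟩ := hx
  set O := Cfsg.oddCore X with hO
  set D := centralizer ({t} : Set X) with hD
  have hOodd : Odd (Nat.card O) := Cores.odd_card_oddCore
  have hord : ∀ {o}, o ∈ O → Odd (orderOf o) := fun ho =>
    hOodd.of_dvd_nat (Subgroup.orderOf_dvd_natCard O ho)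
  have hD8 : Nat.card D = 8 := H65.DihedralFusion.card_eight e
  have ht2 : t * t = 1 := by rw [← pow_two, ← ht, pow_orderOf_eq_one]
  have hti : t⁻¹ = t := inv_eq_of_mul_eq_one_right ht2
  have hfix : ∀ {o}, o ∈ O → o * t = t * o → o = 1 := fun {o} ho h => by
    have hd : orderOf o ∣ 2 ^ 3 :=
      (Subgroup.orderOf_dvd_natCard D (mem_centralizer_singleton_iff.2 h)).trans (dvd_of_eq (by rw [hD8]; rfl))
    exact orderOf_eq_one_iff.1 (Nat.eq_one_of_dvd_coprimes ((Nat.coprime_two_right.2 (hord ho)).pow_right 3)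
      dvd_rfl hd)
  have hconj : ∀ {o}, o ∈ O → ∀ g : X, g * o * g⁻¹ ∈ O := fun ho g =>
    (inferInstance : (Cfsg.oddCore X).Normal).conj_mem _ ho g
  -- `t` inverts the core
  let f : O → O := fun o => ⟨(o : X)⁻¹ * (t * o * t⁻¹), mul_mem (inv_mem o.2) (hconj o.2 t)⟩
  have hf : Function.Injective f := by
    intro a b e
    have e' : (a : X)⁻¹ * (t * a * t⁻¹) = (b : X)⁻¹ * (t * b * t⁻¹) := congrArg Subtype.val e
    have h1 : (b : X) * (a : X)⁻¹ * t = t * ((b : X) * (a : X)⁻¹) := by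
      calc (b : X) * (a : X)⁻¹ * t = b * ((a : X)⁻¹ * (t * a * t⁻¹)) * (t * (a : X)⁻¹ * t⁻¹) * t := by group
        _ = b * ((b : X)⁻¹ * (t * b * t⁻¹)) * (t * (a : X)⁻¹ * t⁻¹) * t := by rw [e']
        _ = _ := by group
    exact Subtype.ext (mul_inv_eq_one.1 (hfix (mul_mem b.2 (inv_mem a.2)) h1)).symm
  have hinv : ∀ {o}, o ∈ O → t * o * t⁻¹ = o⁻¹ := fun {o} ho => by
    obtain ⟨⟨a, ha⟩, e⟩ := (Finite.injective_iff_surjective.1 hf) ⟨o, ho⟩
    have e' : a⁻¹ * (t * a * t⁻¹) = o := congrArg Subtype.val e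
    rw [← e', mul_inv_rev, inv_inv, hti]
    calc t * (a⁻¹ * (t * a * t)) * t = t * a⁻¹ * t * a * (t * t) := by group
      _ = (t * a * t)⁻¹ * a := by rw [ht2, mul_inv_rev, mul_inv_rev, hti]; group
  have hab : ∀ {a b}, a ∈ O → b ∈ O → a * b = b * a := fun {a b} ha hb => by
    have h := hinv (mul_mem ha hb)
    rw [show t * (a * b) * t⁻¹ = (t * a * t⁻¹) * (t * b * t⁻¹) by group, hinv ha, hinv hb, ← mul_inv_rev,
      inv_inj] at h
    exact h.symm
  -- a conjugate of `x` in `D` gives `x t`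
  have hx2 : x * x = 1 := by rw [← pow_two, ← hxo, pow_orderOf_eq_one]
  have hxi : x⁻¹ = x := inv_eq_of_mul_eq_one_right hx2
  obtain ⟨d, hd, hdx⟩ : ∃ d ∈ D, d * x * d⁻¹ = x * t := by
    obtain ⟨a, ha⟩ := H65.DihedralEight.exists_inc t e (show Commute x t from hcomm)
    obtain ⟨c, hc⟩ := H65.DihedralEight.exists_inc t e (show Commute t t from Commute.refl t)
    have hr2 : c = DihedralGroup.r 2 := by
      apply H65.DihedralEight.inc_injective t e
      rw [hc, H65.DihedralEight.inc_center t e ht]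
    have key : ∀ a : DihedralGroup 4, a * a = 1 → a ≠ 1 → a ≠ DihedralGroup.r 2 →
        ∃ b, b * a * b⁻¹ = a * DihedralGroup.r 2 := by decide
    have inj := H65.DihedralEight.inc_injective t e
    obtain ⟨b, hb⟩ := key a (inj (by rw [map_mul, ha, hx2, map_one]))
      (fun h => by rw [h, map_one] at ha; rw [← ha, orderOf_one] at hxo; omega)
      (fun h => hxt (by rw [← ha, h, H65.DihedralEight.inc_center t e ht]))
    exact ⟨H65.DihedralEight.inc t e b, mem_centralizer_singleton_iff.2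
      (H65.DihedralEight.inc_commute t e b).eq, by
        rw [← ha, ← map_inv, ← map_mul, ← map_mul, hb, map_mul, H65.DihedralEight.inc_center t e ht]⟩
  -- the core has exponent three
  have hexp : ∀ {o}, o ∈ O → o ^ 3 = 1 := fun {o} ho => by
    have hxo' : x * o * x⁻¹ ∈ O := hconj ho x
    set a := o * (x * o * x⁻¹) with ha
    set b := o * (x * o * x⁻¹)⁻¹ with hb
    have haO : a ∈ O := mul_mem ho hxo'
    have hbO : b ∈ O := mul_mem ho (inv_mem hxo')
    have hxx : x * (x * o * x⁻¹) * x⁻¹ = o := by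
      rw [show x * (x * o * x⁻¹) * x⁻¹ = x * x * o * (x * x)⁻¹ by group, hx2]; group
    have hax : a * x = x * a := by
      have h : x * a * x⁻¹ = a := by
        rw [ha, show x * (o * (x * o * x⁻¹)) * x⁻¹ = x * o * x⁻¹ * (x * (x * o * x⁻¹) * x⁻¹) by group, hxx,
          hab hxo' ho]
      exact (mul_inv_eq_iff_eq_mul.1 h).symm
    have hbx : x * b * x⁻¹ = b⁻¹ := by
      rw [hb, show x * (o * (x * o * x⁻¹)⁻¹) * x⁻¹ = x * o * x⁻¹ * (x * (x * o * x⁻¹) * x⁻¹)⁻¹ by group,
        hxx, mul_inv_rev, inv_inv]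
    have hbxt : b * (x * t) = x * t * b := by
      have h : x * t * b * (x * t)⁻¹ = b := by
        rw [show x * t * b * (x * t)⁻¹ = x * (t * b * t⁻¹) * x⁻¹ by group, hinv hbO,
          show x * b⁻¹ * x⁻¹ = (x * b * x⁻¹)⁻¹ by group, hbx, inv_inv]
      exact (mul_inv_eq_iff_eq_mul.1 h).symm
    have ha3 := hx3 a hax (hord haO)
    have hb3 : b ^ 3 = 1 := by
      have hb' : d⁻¹ * b * d * x = x * (d⁻¹ * b * d) := by
        calc d⁻¹ * b * d * x = d⁻¹ * (b * (d * x * d⁻¹)) * d := by group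
          _ = d⁻¹ * (d * x * d⁻¹ * b) * d := by rw [hdx, hbxt]
          _ = _ := by group
      have := hx3 _ hb' (hord (by simpa using hconj hbO d⁻¹))
      rw [show d⁻¹ * b * d = d⁻¹ * b * d⁻¹⁻¹ by group, conj_pow, mul_inv_eq_one, mul_eq_left] at this
      exact this
    have h6 : (o * o) ^ 3 = 1 := by
      have : o * o = a * b := by
        rw [ha, hb, show o * (x * o * x⁻¹) * (o * (x * o * x⁻¹)⁻¹) = o * (x * o * x⁻¹ * o) * (x * o * x⁻¹)⁻¹
          by group, hab hxo' ho]
        group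
      rw [this, (show Commute a b from hab haO hbO).mul_pow, ha3, hb3, one_mul]
    refine orderOf_eq_one_iff.1 (Nat.eq_one_of_dvd_coprimes (Nat.coprime_two_right.2 (hord (pow_mem ho 3)))
      dvd_rfl (orderOf_dvd_of_pow_eq_one ?_))
    rw [← pow_mul, ← h6, ← pow_two, ← pow_mul]
  haveI : Fact (Nat.Prime 5) := ⟨by norm_num⟩
  obtain ⟨g, hg⟩ := exists_prime_orderOf_dvd_card' (G := X) 5 h5
  have hgO : g ∈ O := by
    have hmem : g ∈ O ⊔ D := by rw [sup_comm, htop]; trivial
    obtain ⟨o, ho, a, ha, rfl⟩ := mem_sup_of_normal_left.1 hmem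
    suffices a = 1 by rw [this, mul_one]; exact ho
    let q := QuotientGroup.mk' O
    have hqa : q a = q (o * a) := by
      rw [map_mul, show q o = 1 from (QuotientGroup.eq_one_iff _).2 ho, one_mul]
    have h5' : orderOf (q a) ∣ 5 := by rw [hqa, ← hg]; exact orderOf_map_dvd _ _
    have h8' : orderOf (q a) ∣ 8 :=
      (orderOf_map_dvd _ _).trans (hD8 ▸ Subgroup.orderOf_dvd_natCard D ha)
    have haO : a ∈ O := (QuotientGroup.eq_one_iff _).1
      (orderOf_eq_one_iff.1 (Nat.eq_one_of_dvd_coprimes (by decide : Nat.Coprime 5 8) h5' h8'))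
    exact hfix haO (mem_centralizer_singleton_iff.1 ha)
  have h3 := orderOf_dvd_of_pow_eq_one (hexp hgO)
  rw [hg] at h3
  omega

theorem five_not_dvd_sl : ¬ 5 ∣ Nat.card (Matrix.SpecialLinearGroup (Fin 3) (ZMod 2)) := by
  obtain ⟨e⟩ := gl_equiv_sl
  rw [← Nat.card_congr e.toEquiv, card_gl]
  decide

theorem five_not_dvd_four : ¬ 5 ∣ Nat.card (Equiv.Perm (Fin 4)) := by
  rw [Nat.card_perm, Nat.card_fin]; decide

theorem card_alt_six : Nat.card (alternatingGroup (Fin 6)) = 360 := by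
  rw [nat_card_alternatingGroup, Nat.card_fin]; decide

/-- All involution centralisers dihedral of order eight. -/
theorem card_of_all_dihedral (ht : orderOf t = 2)
    (hall : ∀ x : X, orderOf x = 2 → Nonempty (↥(centralizer ({x} : Set X)) ≃* DihedralGroup 4))
    (h5 : 5 ∣ Nat.card X) : Nat.card X = 360 := by
  haveI : Fact (Nat.Prime 2) := ⟨Nat.prime_two⟩
  rcases S3035.result t ht (hall t ht) with h | ⟨⟨e⟩⟩ | ⟨⟨e⟩⟩ | ⟨⟨e⟩⟩ | ⟨⟨e⟩⟩
  · exfalso
    obtain ⟨et⟩ := hall t ht
    set x := H65.DihedralEight.inc t et (DihedralGroup.sr 0)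
    have hxo : orderOf x = 2 := by rw [H65.DihedralEight.inc_orderOf, DihedralGroup.orderOf_sr]
    have hxt : x ≠ t := fun e => absurd (H65.DihedralEight.inc_injective t et
      (e.trans (H65.DihedralEight.inc_center t et ht).symm)) (by decide)
    refine false_of_core ht (hall t ht) h5 h ⟨x, hxo, hxt, (H65.DihedralEight.inc_commute t et _).eq, fun g hg hgo => ?_⟩
    obtain ⟨ex⟩ := hall x hxo
    have h8 : orderOf g ∣ 2 ^ 3 :=
      (Subgroup.orderOf_dvd_natCard (centralizer ({x} : Set X)) (mem_centralizer_singleton_iff.2 hg)).trans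
      (dvd_of_eq (by rw [H65.DihedralFusion.card_eight ex]; rfl))
    rw [orderOf_eq_one_iff.1 (Nat.eq_one_of_dvd_coprimes ((Nat.coprime_two_right.2 hgo).pow_right 3) dvd_rfl h8),
      one_pow]
  · exact absurd (Nat.card_congr e.toEquiv ▸ h5) five_not_dvd_four
  · exfalso
    set σ : Equiv.Perm (Fin 5) := Equiv.swap 0 1
    have hσ : orderOf σ = 2 := orderOf_eq_prime (by decide) (by decide)
    obtain ⟨ex⟩ := hall (e.symm σ) (by rw [MulEquiv.orderOf_eq, hσ])
    have h8 := H65.DihedralFusion.card_eight ex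
    have h12 : (Finset.univ.filter fun g : Equiv.Perm (Fin 5) => g * σ = σ * g).card = 12 := by decide +kernel
    rw [Nat.card_congr (e.toEquiv.subtypeEquiv (q := fun g => g * σ = σ * g) fun g => by
        rw [mem_centralizer_singleton_iff, MulEquiv.toEquiv_eq_coe, MulEquiv.coe_toEquiv,
          ← e.symm.injective.eq_iff (a := e g * σ)]
        simp [map_mul]),
      Nat.card_eq_fintype_card, Fintype.card_subtype, h12] at h8
    omega
  · exact absurd (Nat.card_congr e.toEquiv ▸ h5) five_not_dvd_sl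
  · rw [Nat.card_congr e.toEquiv, card_alt_six]

theorem perm_five_classes : ∀ σ : Equiv.Perm (Fin 5), σ * σ = 1 → σ ≠ 1 →
    (∃ g, g * Equiv.swap 0 1 * g⁻¹ = σ) ∨ ∃ g, g * (Equiv.swap 0 1 * Equiv.swap 2 3) * g⁻¹ = σ := by
  decide +kernel

/-- Two classes of involutions, one with odd elements of the centraliser of exponent three. -/
theorem perm_five (ht : orderOf t = 2)
    (hC : Nonempty (↥(centralizer ({t} : Set X)) ≃* DihedralGroup 4)) {x : X} (hxo : orderOf x = 2)
    (hxt : ¬ IsConj t x) (hx3 : ∀ g : X, g * x = x * g → Odd (orderOf g) → g ^ 3 = 1)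
    (h5 : 5 ∣ Nat.card X) : Nonempty (X ≃* Equiv.Perm (Fin 5)) := by
  haveI : Fact (Nat.Prime 2) := ⟨Nat.prime_two⟩
  rcases S3035.result t ht hC with h | ⟨⟨e⟩⟩ | h | ⟨⟨e⟩⟩ | ⟨⟨e⟩⟩
  · exfalso
    obtain ⟨et⟩ := hC
    obtain ⟨S, hS⟩ := H65.DihedralFusion.exists_sylow et ht
    obtain ⟨R, hR⟩ := (IsPGroup.of_card (p := 2) (n := 1) (G := ↥(zpowers x))
      (by rw [Nat.card_zpowers, hxo, pow_one])).exists_le_sylow
    obtain ⟨k, hk⟩ := MulAction.exists_smul_eq X R S
    have hy : k * x * k⁻¹ ∈ centralizer ({t} : Set X) := by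
      rw [← hS, ← hk]
      exact Subgroup.smul_mem_pointwise_smul x (MulAut.conj k) _ (hR (mem_zpowers x))
    refine false_of_core ht ⟨et⟩ h5 h ⟨_, (H65.orderOf_conj' k x).trans hxo,
      fun e => hxt (isConj_iff.2 ⟨k, e⟩).symm, mem_centralizer_singleton_iff.1 hy, fun g hg hgo => ?_⟩
    have h1 : k⁻¹ * g * k * x = x * (k⁻¹ * g * k) := by
      calc k⁻¹ * g * k * x = k⁻¹ * (g * (k * x * k⁻¹)) * k := by group
        _ = k⁻¹ * (k * x * k⁻¹ * g) * k := by rw [hg]
        _ = _ := by group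
    have ho : orderOf (k⁻¹ * g * k) = orderOf g := by
      have := H65.orderOf_conj' k⁻¹ g
      rwa [inv_inv] at this
    have := hx3 _ h1 (ho ▸ hgo)
    rw [show k⁻¹ * g * k = k⁻¹ * g * k⁻¹⁻¹ by group, conj_pow, mul_inv_eq_one, mul_eq_left] at this
    exact this
  · exact absurd (Nat.card_congr e.toEquiv ▸ h5) five_not_dvd_four
  · exact h
  · exact absurd (Nat.card_congr e.toEquiv ▸ h5) five_not_dvd_sl
  · refine absurd ?_ hxt
    obtain ⟨et⟩ := hC
    haveI : IsSimpleGroup (alternatingGroup (Fin 6)) :=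
      alternatingGroup.isSimpleGroup (by simp)
    refine H65.DihedralFusion.isConj_of_no_hom et ht (fun f => ?_) x hxo
    rcases (inferInstance : (f.comp e.symm.toMonoidHom).ker.Normal).eq_bot_or_eq_top with hb | hb
    · exfalso
      have := Nat.card_le_card_of_injective _ ((MonoidHom.ker_eq_bot_iff _).1 hb)
      rw [card_alt_six] at this
      simp at this
    · refine MonoidHom.ext fun g => ?_
      have h : e g ∈ (f.comp e.symm.toMonoidHom).ker := hb ▸ mem_top _
      simpa using h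

omit [Finite X] in
/-- In `S5` two involutions outside the class of a third are conjugate. -/
theorem conj_of_perm_five (hX : Nonempty (X ≃* Equiv.Perm (Fin 5))) {x y : X} (ht : orderOf t = 2)
    (hx : orderOf x = 2) (hy : orderOf y = 2) (hxt : ¬ IsConj t x) (hyt : ¬ IsConj t y) : IsConj x y := by
  obtain ⟨e⟩ := hX
  have key : ∀ {a : X}, orderOf a = 2 →
      IsConj (e.symm (Equiv.swap 0 1)) a ∨ IsConj (e.symm (Equiv.swap 0 1 * Equiv.swap 2 3)) a := by
    intro a ha
    have ha2 : a * a = 1 := by rw [← pow_two, ← ha, pow_orderOf_eq_one]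
    have ha1 : a ≠ 1 := fun h => by rw [h, orderOf_one] at ha; omega
    rcases perm_five_classes (e a) (by rw [← map_mul, ha2, map_one]) (fun h => ha1 (e.map_eq_one_iff.1 h)) with
      ⟨g, hg⟩ | ⟨g, hg⟩
    · exact Or.inl (isConj_iff.2 ⟨e.symm g, e.injective (by simp [map_mul, map_inv, hg])⟩)
    · refine Or.inr (isConj_iff.2 ⟨e.symm g, e.injective ?_⟩)
      rw [map_mul, map_mul, map_inv, e.apply_symm_apply, e.apply_symm_apply, hg]
  rcases key ht with ht' | ht' <;> rcases key hx with hx' | hx' <;> rcases key hy with hy' | hy'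
  all_goals first
    | exact hx'.symm.trans hy'
    | exact absurd (ht'.symm.trans hx') hxt
    | exact absurd (ht'.symm.trans hy') hyt

end Cfsg.Agent.H54.JFour
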